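import Cfsg.Agent.TwoGroups.OmegaSevenThree.Mat

/-!
# Order three in Ω₇(3): conjugation certificates

Root elements, the unipotent radical and complement, and words realising each fusion.
-/

set_option autoImplicit false
set_option maxRecDepth 20000
set_option maxHeartbeats 4000000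

namespace Cfsg.Agent.TwoGroups.OmegaSevenThree

def genTab : List M7 := [
  ⟨⟨1,1,0,0,0,0,0⟩,⟨0,1,0,0,0,0,0⟩,⟨0,0,1,0,0,0,0⟩,⟨0,0,0,1,0,0,0⟩,⟨0,0,0,0,1,0,0⟩,⟨0,0,0,0,0,1,2⟩,⟨0,0,0,0,0,0,1⟩⟩,
  ⟨⟨1,0,0,0,0,0,0⟩,⟨0,1,1,0,0,0,0⟩,⟨0,0,1,0,0,0,0⟩,⟨0,0,0,1,0,0,0⟩,⟨0,0,0,0,1,2,0⟩,⟨0,0,0,0,0,1,0⟩,⟨0,0,0,0,0,0,1⟩⟩,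
  ⟨⟨1,0,0,0,0,0,0⟩,⟨0,1,0,0,0,0,0⟩,⟨0,0,1,2,2,0,0⟩,⟨0,0,0,1,2,0,0⟩,⟨0,0,0,0,1,0,0⟩,⟨0,0,0,0,0,1,0⟩,⟨0,0,0,0,0,0,1⟩⟩,
  ⟨⟨1,0,0,0,0,0,0⟩,⟨1,1,0,0,0,0,0⟩,⟨0,0,1,0,0,0,0⟩,⟨0,0,0,1,0,0,0⟩,⟨0,0,0,0,1,0,0⟩,⟨0,0,0,0,0,1,0⟩,⟨0,0,0,0,0,2,1⟩⟩,
  ⟨⟨1,0,0,0,0,0,0⟩,⟨0,1,0,0,0,0,0⟩,⟨0,1,1,0,0,0,0⟩,⟨0,0,0,1,0,0,0⟩,⟨0,0,0,0,1,0,0⟩,⟨0,0,0,0,2,1,0⟩,⟨0,0,0,0,0,0,1⟩⟩,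
  ⟨⟨1,0,0,0,0,0,0⟩,⟨0,1,0,0,0,0,0⟩,⟨0,0,1,0,0,0,0⟩,⟨0,0,2,1,0,0,0⟩,⟨0,0,2,2,1,0,0⟩,⟨0,0,0,0,0,1,0⟩,⟨0,0,0,0,0,0,1⟩⟩]

def genW : List (List ℕ) := [
  [0,0,1,0,0,2,1,0,1,2,2,1,1,0,2,1,2,2],
  [1,1,0,1,2,1,1,0,1,2,1,1,0,1,2],
  [0,2,1,1,0,1,2,1,0,1,1,2],
  [0,0,1,1,0,1],
  [0]]

def qGens : List M7 := [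
  ⟨⟨1,0,0,0,0,1,0⟩,⟨0,1,0,0,0,0,2⟩,⟨0,0,1,0,0,0,0⟩,⟨0,0,0,1,0,0,0⟩,⟨0,0,0,0,1,0,0⟩,⟨0,0,0,0,0,1,0⟩,⟨0,0,0,0,0,0,1⟩⟩,
  ⟨⟨1,0,0,0,1,0,0⟩,⟨0,1,0,0,0,0,0⟩,⟨0,0,1,0,0,0,2⟩,⟨0,0,0,1,0,0,0⟩,⟨0,0,0,0,1,0,0⟩,⟨0,0,0,0,0,1,0⟩,⟨0,0,0,0,0,0,1⟩⟩,
  ⟨⟨1,0,0,2,0,0,2⟩,⟨0,1,0,0,0,0,0⟩,⟨0,0,1,0,0,0,0⟩,⟨0,0,0,1,0,0,2⟩,⟨0,0,0,0,1,0,0⟩,⟨0,0,0,0,0,1,0⟩,⟨0,0,0,0,0,0,1⟩⟩,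
  ⟨⟨1,0,1,0,0,0,0⟩,⟨0,1,0,0,0,0,0⟩,⟨0,0,1,0,0,0,0⟩,⟨0,0,0,1,0,0,0⟩,⟨0,0,0,0,1,0,2⟩,⟨0,0,0,0,0,1,0⟩,⟨0,0,0,0,0,0,1⟩⟩,
  ⟨⟨1,1,0,0,0,0,0⟩,⟨0,1,0,0,0,0,0⟩,⟨0,0,1,0,0,0,0⟩,⟨0,0,0,1,0,0,0⟩,⟨0,0,0,0,1,0,0⟩,⟨0,0,0,0,0,1,2⟩,⟨0,0,0,0,0,0,1⟩⟩]

def letW : List (List ℕ) := [
  [0],
  [1],
  [2],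
  [0,0],
  [1,1],
  [2,2],
  [0,3,0],
  [0,0,3,3,0,0],
  [0,3,3,0],
  [0,0,3,3,3,3,0,0],
  [1,4,1],
  [1,1,4,4,1,1],
  [1,4,4,1],
  [1,1,4,4,4,4,1,1],
  [2,5,2],
  [2,5,5,2],
  [2,2,5,5,5,5,2,2]]

def letTab : List M7 := [
  ⟨⟨1,1,0,0,0,0,0⟩,⟨0,1,0,0,0,0,0⟩,⟨0,0,1,0,0,0,0⟩,⟨0,0,0,1,0,0,0⟩,⟨0,0,0,0,1,0,0⟩,⟨0,0,0,0,0,1,2⟩,⟨0,0,0,0,0,0,1⟩⟩,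
  ⟨⟨1,0,0,0,0,0,0⟩,⟨0,1,1,0,0,0,0⟩,⟨0,0,1,0,0,0,0⟩,⟨0,0,0,1,0,0,0⟩,⟨0,0,0,0,1,2,0⟩,⟨0,0,0,0,0,1,0⟩,⟨0,0,0,0,0,0,1⟩⟩,
  ⟨⟨1,0,0,0,0,0,0⟩,⟨0,1,0,0,0,0,0⟩,⟨0,0,1,2,2,0,0⟩,⟨0,0,0,1,2,0,0⟩,⟨0,0,0,0,1,0,0⟩,⟨0,0,0,0,0,1,0⟩,⟨0,0,0,0,0,0,1⟩⟩,
  ⟨⟨1,2,0,0,0,0,0⟩,⟨0,1,0,0,0,0,0⟩,⟨0,0,1,0,0,0,0⟩,⟨0,0,0,1,0,0,0⟩,⟨0,0,0,0,1,0,0⟩,⟨0,0,0,0,0,1,1⟩,⟨0,0,0,0,0,0,1⟩⟩,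
  ⟨⟨1,0,0,0,0,0,0⟩,⟨0,1,2,0,0,0,0⟩,⟨0,0,1,0,0,0,0⟩,⟨0,0,0,1,0,0,0⟩,⟨0,0,0,0,1,1,0⟩,⟨0,0,0,0,0,1,0⟩,⟨0,0,0,0,0,0,1⟩⟩,
  ⟨⟨1,0,0,0,0,0,0⟩,⟨0,1,0,0,0,0,0⟩,⟨0,0,1,1,2,0,0⟩,⟨0,0,0,1,1,0,0⟩,⟨0,0,0,0,1,0,0⟩,⟨0,0,0,0,0,1,0⟩,⟨0,0,0,0,0,0,1⟩⟩,
  ⟨⟨2,0,0,0,0,0,0⟩,⟨1,2,0,0,0,0,0⟩,⟨0,0,1,0,0,0,0⟩,⟨0,0,0,1,0,0,0⟩,⟨0,0,0,0,1,0,0⟩,⟨0,0,0,0,0,2,0⟩,⟨0,0,0,0,0,2,2⟩⟩,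
  ⟨⟨2,0,0,0,0,0,0⟩,⟨2,2,0,0,0,0,0⟩,⟨0,0,1,0,0,0,0⟩,⟨0,0,0,1,0,0,0⟩,⟨0,0,0,0,1,0,0⟩,⟨0,0,0,0,0,2,0⟩,⟨0,0,0,0,0,1,2⟩⟩,
  ⟨⟨0,1,0,0,0,0,0⟩,⟨2,0,0,0,0,0,0⟩,⟨0,0,1,0,0,0,0⟩,⟨0,0,0,1,0,0,0⟩,⟨0,0,0,0,1,0,0⟩,⟨0,0,0,0,0,0,2⟩,⟨0,0,0,0,0,1,0⟩⟩,
  ⟨⟨0,2,0,0,0,0,0⟩,⟨1,0,0,0,0,0,0⟩,⟨0,0,1,0,0,0,0⟩,⟨0,0,0,1,0,0,0⟩,⟨0,0,0,0,1,0,0⟩,⟨0,0,0,0,0,0,1⟩,⟨0,0,0,0,0,2,0⟩⟩,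
  ⟨⟨1,0,0,0,0,0,0⟩,⟨0,2,0,0,0,0,0⟩,⟨0,1,2,0,0,0,0⟩,⟨0,0,0,1,0,0,0⟩,⟨0,0,0,0,2,0,0⟩,⟨0,0,0,0,2,2,0⟩,⟨0,0,0,0,0,0,1⟩⟩,
  ⟨⟨1,0,0,0,0,0,0⟩,⟨0,2,0,0,0,0,0⟩,⟨0,2,2,0,0,0,0⟩,⟨0,0,0,1,0,0,0⟩,⟨0,0,0,0,2,0,0⟩,⟨0,0,0,0,1,2,0⟩,⟨0,0,0,0,0,0,1⟩⟩,
  ⟨⟨1,0,0,0,0,0,0⟩,⟨0,0,1,0,0,0,0⟩,⟨0,2,0,0,0,0,0⟩,⟨0,0,0,1,0,0,0⟩,⟨0,0,0,0,0,2,0⟩,⟨0,0,0,0,1,0,0⟩,⟨0,0,0,0,0,0,1⟩⟩,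
  ⟨⟨1,0,0,0,0,0,0⟩,⟨0,0,2,0,0,0,0⟩,⟨0,1,0,0,0,0,0⟩,⟨0,0,0,1,0,0,0⟩,⟨0,0,0,0,0,1,0⟩,⟨0,0,0,0,2,0,0⟩,⟨0,0,0,0,0,0,1⟩⟩,
  ⟨⟨1,0,0,0,0,0,0⟩,⟨0,1,0,0,0,0,0⟩,⟨0,0,0,0,2,0,0⟩,⟨0,0,0,2,0,0,0⟩,⟨0,0,2,0,0,0,0⟩,⟨0,0,0,0,0,1,0⟩,⟨0,0,0,0,0,0,1⟩⟩,
  ⟨⟨1,0,0,0,0,0,0⟩,⟨0,1,0,0,0,0,0⟩,⟨0,0,1,0,0,0,0⟩,⟨0,0,2,1,0,0,0⟩,⟨0,0,2,2,1,0,0⟩,⟨0,0,0,0,0,1,0⟩,⟨0,0,0,0,0,0,1⟩⟩,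
  ⟨⟨1,0,0,0,0,0,0⟩,⟨0,1,0,0,0,0,0⟩,⟨0,0,1,0,0,0,0⟩,⟨0,0,1,1,0,0,0⟩,⟨0,0,2,1,1,0,0⟩,⟨0,0,0,0,0,1,0⟩,⟨0,0,0,0,0,0,1⟩⟩]

def qTab : List M7 := [
  ⟨⟨1,0,0,0,0,0,0⟩,⟨0,1,0,0,0,0,0⟩,⟨0,0,1,0,0,0,0⟩,⟨0,0,0,1,0,0,0⟩,⟨0,0,0,0,1,0,0⟩,⟨0,0,0,0,0,1,0⟩,⟨0,0,0,0,0,0,1⟩⟩,
  ⟨⟨1,0,0,0,0,1,0⟩,⟨0,1,0,0,0,0,2⟩,⟨0,0,1,0,0,0,0⟩,⟨0,0,0,1,0,0,0⟩,⟨0,0,0,0,1,0,0⟩,⟨0,0,0,0,0,1,0⟩,⟨0,0,0,0,0,0,1⟩⟩,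
  ⟨⟨1,0,0,0,1,0,0⟩,⟨0,1,0,0,0,0,0⟩,⟨0,0,1,0,0,0,2⟩,⟨0,0,0,1,0,0,0⟩,⟨0,0,0,0,1,0,0⟩,⟨0,0,0,0,0,1,0⟩,⟨0,0,0,0,0,0,1⟩⟩,
  ⟨⟨1,0,0,2,0,0,2⟩,⟨0,1,0,0,0,0,0⟩,⟨0,0,1,0,0,0,0⟩,⟨0,0,0,1,0,0,2⟩,⟨0,0,0,0,1,0,0⟩,⟨0,0,0,0,0,1,0⟩,⟨0,0,0,0,0,0,1⟩⟩,
  ⟨⟨1,0,1,0,0,0,0⟩,⟨0,1,0,0,0,0,0⟩,⟨0,0,1,0,0,0,0⟩,⟨0,0,0,1,0,0,0⟩,⟨0,0,0,0,1,0,2⟩,⟨0,0,0,0,0,1,0⟩,⟨0,0,0,0,0,0,1⟩⟩,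
  ⟨⟨1,1,0,0,0,0,0⟩,⟨0,1,0,0,0,0,0⟩,⟨0,0,1,0,0,0,0⟩,⟨0,0,0,1,0,0,0⟩,⟨0,0,0,0,1,0,0⟩,⟨0,0,0,0,0,1,2⟩,⟨0,0,0,0,0,0,1⟩⟩,
  ⟨⟨1,0,0,0,0,2,0⟩,⟨0,1,0,0,0,0,1⟩,⟨0,0,1,0,0,0,0⟩,⟨0,0,0,1,0,0,0⟩,⟨0,0,0,0,1,0,0⟩,⟨0,0,0,0,0,1,0⟩,⟨0,0,0,0,0,0,1⟩⟩,
  ⟨⟨1,0,0,0,1,1,0⟩,⟨0,1,0,0,0,0,2⟩,⟨0,0,1,0,0,0,2⟩,⟨0,0,0,1,0,0,0⟩,⟨0,0,0,0,1,0,0⟩,⟨0,0,0,0,0,1,0⟩,⟨0,0,0,0,0,0,1⟩⟩,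
  ⟨⟨1,0,0,2,0,1,2⟩,⟨0,1,0,0,0,0,2⟩,⟨0,0,1,0,0,0,0⟩,⟨0,0,0,1,0,0,2⟩,⟨0,0,0,0,1,0,0⟩,⟨0,0,0,0,0,1,0⟩,⟨0,0,0,0,0,0,1⟩⟩,
  ⟨⟨1,0,1,0,0,1,0⟩,⟨0,1,0,0,0,0,2⟩,⟨0,0,1,0,0,0,0⟩,⟨0,0,0,1,0,0,0⟩,⟨0,0,0,0,1,0,2⟩,⟨0,0,0,0,0,1,0⟩,⟨0,0,0,0,0,0,1⟩⟩,
  ⟨⟨1,1,0,0,0,1,2⟩,⟨0,1,0,0,0,0,2⟩,⟨0,0,1,0,0,0,0⟩,⟨0,0,0,1,0,0,0⟩,⟨0,0,0,0,1,0,0⟩,⟨0,0,0,0,0,1,2⟩,⟨0,0,0,0,0,0,1⟩⟩,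
  ⟨⟨1,0,0,0,2,0,0⟩,⟨0,1,0,0,0,0,0⟩,⟨0,0,1,0,0,0,1⟩,⟨0,0,0,1,0,0,0⟩,⟨0,0,0,0,1,0,0⟩,⟨0,0,0,0,0,1,0⟩,⟨0,0,0,0,0,0,1⟩⟩,
  ⟨⟨1,0,0,2,1,0,2⟩,⟨0,1,0,0,0,0,0⟩,⟨0,0,1,0,0,0,2⟩,⟨0,0,0,1,0,0,2⟩,⟨0,0,0,0,1,0,0⟩,⟨0,0,0,0,0,1,0⟩,⟨0,0,0,0,0,0,1⟩⟩,
  ⟨⟨1,0,1,0,1,0,2⟩,⟨0,1,0,0,0,0,0⟩,⟨0,0,1,0,0,0,2⟩,⟨0,0,0,1,0,0,0⟩,⟨0,0,0,0,1,0,2⟩,⟨0,0,0,0,0,1,0⟩,⟨0,0,0,0,0,0,1⟩⟩,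
  ⟨⟨1,1,0,0,1,0,0⟩,⟨0,1,0,0,0,0,0⟩,⟨0,0,1,0,0,0,2⟩,⟨0,0,0,1,0,0,0⟩,⟨0,0,0,0,1,0,0⟩,⟨0,0,0,0,0,1,2⟩,⟨0,0,0,0,0,0,1⟩⟩,
  ⟨⟨1,0,0,1,0,0,2⟩,⟨0,1,0,0,0,0,0⟩,⟨0,0,1,0,0,0,0⟩,⟨0,0,0,1,0,0,1⟩,⟨0,0,0,0,1,0,0⟩,⟨0,0,0,0,0,1,0⟩,⟨0,0,0,0,0,0,1⟩⟩,
  ⟨⟨1,0,1,2,0,0,2⟩,⟨0,1,0,0,0,0,0⟩,⟨0,0,1,0,0,0,0⟩,⟨0,0,0,1,0,0,2⟩,⟨0,0,0,0,1,0,2⟩,⟨0,0,0,0,0,1,0⟩,⟨0,0,0,0,0,0,1⟩⟩,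
  ⟨⟨1,1,0,2,0,0,2⟩,⟨0,1,0,0,0,0,0⟩,⟨0,0,1,0,0,0,0⟩,⟨0,0,0,1,0,0,2⟩,⟨0,0,0,0,1,0,0⟩,⟨0,0,0,0,0,1,2⟩,⟨0,0,0,0,0,0,1⟩⟩,
  ⟨⟨1,0,2,0,0,0,0⟩,⟨0,1,0,0,0,0,0⟩,⟨0,0,1,0,0,0,0⟩,⟨0,0,0,1,0,0,0⟩,⟨0,0,0,0,1,0,1⟩,⟨0,0,0,0,0,1,0⟩,⟨0,0,0,0,0,0,1⟩⟩,
  ⟨⟨1,1,1,0,0,0,0⟩,⟨0,1,0,0,0,0,0⟩,⟨0,0,1,0,0,0,0⟩,⟨0,0,0,1,0,0,0⟩,⟨0,0,0,0,1,0,2⟩,⟨0,0,0,0,0,1,2⟩,⟨0,0,0,0,0,0,1⟩⟩,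
  ⟨⟨1,2,0,0,0,0,0⟩,⟨0,1,0,0,0,0,0⟩,⟨0,0,1,0,0,0,0⟩,⟨0,0,0,1,0,0,0⟩,⟨0,0,0,0,1,0,0⟩,⟨0,0,0,0,0,1,1⟩,⟨0,0,0,0,0,0,1⟩⟩,
  ⟨⟨1,0,0,0,1,2,0⟩,⟨0,1,0,0,0,0,1⟩,⟨0,0,1,0,0,0,2⟩,⟨0,0,0,1,0,0,0⟩,⟨0,0,0,0,1,0,0⟩,⟨0,0,0,0,0,1,0⟩,⟨0,0,0,0,0,0,1⟩⟩,
  ⟨⟨1,0,0,2,0,2,2⟩,⟨0,1,0,0,0,0,1⟩,⟨0,0,1,0,0,0,0⟩,⟨0,0,0,1,0,0,2⟩,⟨0,0,0,0,1,0,0⟩,⟨0,0,0,0,0,1,0⟩,⟨0,0,0,0,0,0,1⟩⟩,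
  ⟨⟨1,0,1,0,0,2,0⟩,⟨0,1,0,0,0,0,1⟩,⟨0,0,1,0,0,0,0⟩,⟨0,0,0,1,0,0,0⟩,⟨0,0,0,0,1,0,2⟩,⟨0,0,0,0,0,1,0⟩,⟨0,0,0,0,0,0,1⟩⟩,
  ⟨⟨1,1,0,0,0,2,1⟩,⟨0,1,0,0,0,0,1⟩,⟨0,0,1,0,0,0,0⟩,⟨0,0,0,1,0,0,0⟩,⟨0,0,0,0,1,0,0⟩,⟨0,0,0,0,0,1,2⟩,⟨0,0,0,0,0,0,1⟩⟩,
  ⟨⟨1,0,0,0,2,1,0⟩,⟨0,1,0,0,0,0,2⟩,⟨0,0,1,0,0,0,1⟩,⟨0,0,0,1,0,0,0⟩,⟨0,0,0,0,1,0,0⟩,⟨0,0,0,0,0,1,0⟩,⟨0,0,0,0,0,0,1⟩⟩,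
  ⟨⟨1,0,0,2,1,1,2⟩,⟨0,1,0,0,0,0,2⟩,⟨0,0,1,0,0,0,2⟩,⟨0,0,0,1,0,0,2⟩,⟨0,0,0,0,1,0,0⟩,⟨0,0,0,0,0,1,0⟩,⟨0,0,0,0,0,0,1⟩⟩,
  ⟨⟨1,0,1,0,1,1,2⟩,⟨0,1,0,0,0,0,2⟩,⟨0,0,1,0,0,0,2⟩,⟨0,0,0,1,0,0,0⟩,⟨0,0,0,0,1,0,2⟩,⟨0,0,0,0,0,1,0⟩,⟨0,0,0,0,0,0,1⟩⟩,
  ⟨⟨1,1,0,0,1,1,2⟩,⟨0,1,0,0,0,0,2⟩,⟨0,0,1,0,0,0,2⟩,⟨0,0,0,1,0,0,0⟩,⟨0,0,0,0,1,0,0⟩,⟨0,0,0,0,0,1,2⟩,⟨0,0,0,0,0,0,1⟩⟩,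
  ⟨⟨1,0,0,1,0,1,2⟩,⟨0,1,0,0,0,0,2⟩,⟨0,0,1,0,0,0,0⟩,⟨0,0,0,1,0,0,1⟩,⟨0,0,0,0,1,0,0⟩,⟨0,0,0,0,0,1,0⟩,⟨0,0,0,0,0,0,1⟩⟩,
  ⟨⟨1,0,1,2,0,1,2⟩,⟨0,1,0,0,0,0,2⟩,⟨0,0,1,0,0,0,0⟩,⟨0,0,0,1,0,0,2⟩,⟨0,0,0,0,1,0,2⟩,⟨0,0,0,0,0,1,0⟩,⟨0,0,0,0,0,0,1⟩⟩,
  ⟨⟨1,1,0,2,0,1,1⟩,⟨0,1,0,0,0,0,2⟩,⟨0,0,1,0,0,0,0⟩,⟨0,0,0,1,0,0,2⟩,⟨0,0,0,0,1,0,0⟩,⟨0,0,0,0,0,1,2⟩,⟨0,0,0,0,0,0,1⟩⟩,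
  ⟨⟨1,0,2,0,0,1,0⟩,⟨0,1,0,0,0,0,2⟩,⟨0,0,1,0,0,0,0⟩,⟨0,0,0,1,0,0,0⟩,⟨0,0,0,0,1,0,1⟩,⟨0,0,0,0,0,1,0⟩,⟨0,0,0,0,0,0,1⟩⟩,
  ⟨⟨1,1,1,0,0,1,2⟩,⟨0,1,0,0,0,0,2⟩,⟨0,0,1,0,0,0,0⟩,⟨0,0,0,1,0,0,0⟩,⟨0,0,0,0,1,0,2⟩,⟨0,0,0,0,0,1,2⟩,⟨0,0,0,0,0,0,1⟩⟩,
  ⟨⟨1,2,0,0,0,1,1⟩,⟨0,1,0,0,0,0,2⟩,⟨0,0,1,0,0,0,0⟩,⟨0,0,0,1,0,0,0⟩,⟨0,0,0,0,1,0,0⟩,⟨0,0,0,0,0,1,1⟩,⟨0,0,0,0,0,0,1⟩⟩,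
  ⟨⟨1,0,0,2,2,0,2⟩,⟨0,1,0,0,0,0,0⟩,⟨0,0,1,0,0,0,1⟩,⟨0,0,0,1,0,0,2⟩,⟨0,0,0,0,1,0,0⟩,⟨0,0,0,0,0,1,0⟩,⟨0,0,0,0,0,0,1⟩⟩,
  ⟨⟨1,0,1,0,2,0,1⟩,⟨0,1,0,0,0,0,0⟩,⟨0,0,1,0,0,0,1⟩,⟨0,0,0,1,0,0,0⟩,⟨0,0,0,0,1,0,2⟩,⟨0,0,0,0,0,1,0⟩,⟨0,0,0,0,0,0,1⟩⟩,
  ⟨⟨1,1,0,0,2,0,0⟩,⟨0,1,0,0,0,0,0⟩,⟨0,0,1,0,0,0,1⟩,⟨0,0,0,1,0,0,0⟩,⟨0,0,0,0,1,0,0⟩,⟨0,0,0,0,0,1,2⟩,⟨0,0,0,0,0,0,1⟩⟩,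
  ⟨⟨1,0,0,1,1,0,2⟩,⟨0,1,0,0,0,0,0⟩,⟨0,0,1,0,0,0,2⟩,⟨0,0,0,1,0,0,1⟩,⟨0,0,0,0,1,0,0⟩,⟨0,0,0,0,0,1,0⟩,⟨0,0,0,0,0,0,1⟩⟩,
  ⟨⟨1,0,1,2,1,0,1⟩,⟨0,1,0,0,0,0,0⟩,⟨0,0,1,0,0,0,2⟩,⟨0,0,0,1,0,0,2⟩,⟨0,0,0,0,1,0,2⟩,⟨0,0,0,0,0,1,0⟩,⟨0,0,0,0,0,0,1⟩⟩,
  ⟨⟨1,1,0,2,1,0,2⟩,⟨0,1,0,0,0,0,0⟩,⟨0,0,1,0,0,0,2⟩,⟨0,0,0,1,0,0,2⟩,⟨0,0,0,0,1,0,0⟩,⟨0,0,0,0,0,1,2⟩,⟨0,0,0,0,0,0,1⟩⟩,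
  ⟨⟨1,0,2,0,1,0,1⟩,⟨0,1,0,0,0,0,0⟩,⟨0,0,1,0,0,0,2⟩,⟨0,0,0,1,0,0,0⟩,⟨0,0,0,0,1,0,1⟩,⟨0,0,0,0,0,1,0⟩,⟨0,0,0,0,0,0,1⟩⟩,
  ⟨⟨1,1,1,0,1,0,2⟩,⟨0,1,0,0,0,0,0⟩,⟨0,0,1,0,0,0,2⟩,⟨0,0,0,1,0,0,0⟩,⟨0,0,0,0,1,0,2⟩,⟨0,0,0,0,0,1,2⟩,⟨0,0,0,0,0,0,1⟩⟩,
  ⟨⟨1,2,0,0,1,0,0⟩,⟨0,1,0,0,0,0,0⟩,⟨0,0,1,0,0,0,2⟩,⟨0,0,0,1,0,0,0⟩,⟨0,0,0,0,1,0,0⟩,⟨0,0,0,0,0,1,1⟩,⟨0,0,0,0,0,0,1⟩⟩,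
  ⟨⟨1,0,1,1,0,0,2⟩,⟨0,1,0,0,0,0,0⟩,⟨0,0,1,0,0,0,0⟩,⟨0,0,0,1,0,0,1⟩,⟨0,0,0,0,1,0,2⟩,⟨0,0,0,0,0,1,0⟩,⟨0,0,0,0,0,0,1⟩⟩,
  ⟨⟨1,1,0,1,0,0,2⟩,⟨0,1,0,0,0,0,0⟩,⟨0,0,1,0,0,0,0⟩,⟨0,0,0,1,0,0,1⟩,⟨0,0,0,0,1,0,0⟩,⟨0,0,0,0,0,1,2⟩,⟨0,0,0,0,0,0,1⟩⟩,
  ⟨⟨1,0,2,2,0,0,2⟩,⟨0,1,0,0,0,0,0⟩,⟨0,0,1,0,0,0,0⟩,⟨0,0,0,1,0,0,2⟩,⟨0,0,0,0,1,0,1⟩,⟨0,0,0,0,0,1,0⟩,⟨0,0,0,0,0,0,1⟩⟩,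
  ⟨⟨1,1,1,2,0,0,2⟩,⟨0,1,0,0,0,0,0⟩,⟨0,0,1,0,0,0,0⟩,⟨0,0,0,1,0,0,2⟩,⟨0,0,0,0,1,0,2⟩,⟨0,0,0,0,0,1,2⟩,⟨0,0,0,0,0,0,1⟩⟩,
  ⟨⟨1,2,0,2,0,0,2⟩,⟨0,1,0,0,0,0,0⟩,⟨0,0,1,0,0,0,0⟩,⟨0,0,0,1,0,0,2⟩,⟨0,0,0,0,1,0,0⟩,⟨0,0,0,0,0,1,1⟩,⟨0,0,0,0,0,0,1⟩⟩,
  ⟨⟨1,1,2,0,0,0,0⟩,⟨0,1,0,0,0,0,0⟩,⟨0,0,1,0,0,0,0⟩,⟨0,0,0,1,0,0,0⟩,⟨0,0,0,0,1,0,1⟩,⟨0,0,0,0,0,1,2⟩,⟨0,0,0,0,0,0,1⟩⟩,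
  ⟨⟨1,2,1,0,0,0,0⟩,⟨0,1,0,0,0,0,0⟩,⟨0,0,1,0,0,0,0⟩,⟨0,0,0,1,0,0,0⟩,⟨0,0,0,0,1,0,2⟩,⟨0,0,0,0,0,1,1⟩,⟨0,0,0,0,0,0,1⟩⟩,
  ⟨⟨1,0,0,0,2,2,0⟩,⟨0,1,0,0,0,0,1⟩,⟨0,0,1,0,0,0,1⟩,⟨0,0,0,1,0,0,0⟩,⟨0,0,0,0,1,0,0⟩,⟨0,0,0,0,0,1,0⟩,⟨0,0,0,0,0,0,1⟩⟩,
  ⟨⟨1,0,0,2,1,2,2⟩,⟨0,1,0,0,0,0,1⟩,⟨0,0,1,0,0,0,2⟩,⟨0,0,0,1,0,0,2⟩,⟨0,0,0,0,1,0,0⟩,⟨0,0,0,0,0,1,0⟩,⟨0,0,0,0,0,0,1⟩⟩,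
  ⟨⟨1,0,1,0,1,2,2⟩,⟨0,1,0,0,0,0,1⟩,⟨0,0,1,0,0,0,2⟩,⟨0,0,0,1,0,0,0⟩,⟨0,0,0,0,1,0,2⟩,⟨0,0,0,0,0,1,0⟩,⟨0,0,0,0,0,0,1⟩⟩,
  ⟨⟨1,1,0,0,1,2,1⟩,⟨0,1,0,0,0,0,1⟩,⟨0,0,1,0,0,0,2⟩,⟨0,0,0,1,0,0,0⟩,⟨0,0,0,0,1,0,0⟩,⟨0,0,0,0,0,1,2⟩,⟨0,0,0,0,0,0,1⟩⟩,
  ⟨⟨1,0,0,1,0,2,2⟩,⟨0,1,0,0,0,0,1⟩,⟨0,0,1,0,0,0,0⟩,⟨0,0,0,1,0,0,1⟩,⟨0,0,0,0,1,0,0⟩,⟨0,0,0,0,0,1,0⟩,⟨0,0,0,0,0,0,1⟩⟩,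
  ⟨⟨1,0,1,2,0,2,2⟩,⟨0,1,0,0,0,0,1⟩,⟨0,0,1,0,0,0,0⟩,⟨0,0,0,1,0,0,2⟩,⟨0,0,0,0,1,0,2⟩,⟨0,0,0,0,0,1,0⟩,⟨0,0,0,0,0,0,1⟩⟩,
  ⟨⟨1,1,0,2,0,2,0⟩,⟨0,1,0,0,0,0,1⟩,⟨0,0,1,0,0,0,0⟩,⟨0,0,0,1,0,0,2⟩,⟨0,0,0,0,1,0,0⟩,⟨0,0,0,0,0,1,2⟩,⟨0,0,0,0,0,0,1⟩⟩,
  ⟨⟨1,0,2,0,0,2,0⟩,⟨0,1,0,0,0,0,1⟩,⟨0,0,1,0,0,0,0⟩,⟨0,0,0,1,0,0,0⟩,⟨0,0,0,0,1,0,1⟩,⟨0,0,0,0,0,1,0⟩,⟨0,0,0,0,0,0,1⟩⟩,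
  ⟨⟨1,1,1,0,0,2,1⟩,⟨0,1,0,0,0,0,1⟩,⟨0,0,1,0,0,0,0⟩,⟨0,0,0,1,0,0,0⟩,⟨0,0,0,0,1,0,2⟩,⟨0,0,0,0,0,1,2⟩,⟨0,0,0,0,0,0,1⟩⟩,
  ⟨⟨1,2,0,0,0,2,2⟩,⟨0,1,0,0,0,0,1⟩,⟨0,0,1,0,0,0,0⟩,⟨0,0,0,1,0,0,0⟩,⟨0,0,0,0,1,0,0⟩,⟨0,0,0,0,0,1,1⟩,⟨0,0,0,0,0,0,1⟩⟩,
  ⟨⟨1,0,0,2,2,1,2⟩,⟨0,1,0,0,0,0,2⟩,⟨0,0,1,0,0,0,1⟩,⟨0,0,0,1,0,0,2⟩,⟨0,0,0,0,1,0,0⟩,⟨0,0,0,0,0,1,0⟩,⟨0,0,0,0,0,0,1⟩⟩,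
  ⟨⟨1,0,1,0,2,1,1⟩,⟨0,1,0,0,0,0,2⟩,⟨0,0,1,0,0,0,1⟩,⟨0,0,0,1,0,0,0⟩,⟨0,0,0,0,1,0,2⟩,⟨0,0,0,0,0,1,0⟩,⟨0,0,0,0,0,0,1⟩⟩,
  ⟨⟨1,1,0,0,2,1,2⟩,⟨0,1,0,0,0,0,2⟩,⟨0,0,1,0,0,0,1⟩,⟨0,0,0,1,0,0,0⟩,⟨0,0,0,0,1,0,0⟩,⟨0,0,0,0,0,1,2⟩,⟨0,0,0,0,0,0,1⟩⟩,
  ⟨⟨1,0,0,1,1,1,2⟩,⟨0,1,0,0,0,0,2⟩,⟨0,0,1,0,0,0,2⟩,⟨0,0,0,1,0,0,1⟩,⟨0,0,0,0,1,0,0⟩,⟨0,0,0,0,0,1,0⟩,⟨0,0,0,0,0,0,1⟩⟩,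
  ⟨⟨1,0,1,2,1,1,1⟩,⟨0,1,0,0,0,0,2⟩,⟨0,0,1,0,0,0,2⟩,⟨0,0,0,1,0,0,2⟩,⟨0,0,0,0,1,0,2⟩,⟨0,0,0,0,0,1,0⟩,⟨0,0,0,0,0,0,1⟩⟩,
  ⟨⟨1,1,0,2,1,1,1⟩,⟨0,1,0,0,0,0,2⟩,⟨0,0,1,0,0,0,2⟩,⟨0,0,0,1,0,0,2⟩,⟨0,0,0,0,1,0,0⟩,⟨0,0,0,0,0,1,2⟩,⟨0,0,0,0,0,0,1⟩⟩,
  ⟨⟨1,0,2,0,1,1,1⟩,⟨0,1,0,0,0,0,2⟩,⟨0,0,1,0,0,0,2⟩,⟨0,0,0,1,0,0,0⟩,⟨0,0,0,0,1,0,1⟩,⟨0,0,0,0,0,1,0⟩,⟨0,0,0,0,0,0,1⟩⟩,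
  ⟨⟨1,1,1,0,1,1,1⟩,⟨0,1,0,0,0,0,2⟩,⟨0,0,1,0,0,0,2⟩,⟨0,0,0,1,0,0,0⟩,⟨0,0,0,0,1,0,2⟩,⟨0,0,0,0,0,1,2⟩,⟨0,0,0,0,0,0,1⟩⟩,
  ⟨⟨1,2,0,0,1,1,1⟩,⟨0,1,0,0,0,0,2⟩,⟨0,0,1,0,0,0,2⟩,⟨0,0,0,1,0,0,0⟩,⟨0,0,0,0,1,0,0⟩,⟨0,0,0,0,0,1,1⟩,⟨0,0,0,0,0,0,1⟩⟩,
  ⟨⟨1,0,1,1,0,1,2⟩,⟨0,1,0,0,0,0,2⟩,⟨0,0,1,0,0,0,0⟩,⟨0,0,0,1,0,0,1⟩,⟨0,0,0,0,1,0,2⟩,⟨0,0,0,0,0,1,0⟩,⟨0,0,0,0,0,0,1⟩⟩,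
  ⟨⟨1,1,0,1,0,1,1⟩,⟨0,1,0,0,0,0,2⟩,⟨0,0,1,0,0,0,0⟩,⟨0,0,0,1,0,0,1⟩,⟨0,0,0,0,1,0,0⟩,⟨0,0,0,0,0,1,2⟩,⟨0,0,0,0,0,0,1⟩⟩,
  ⟨⟨1,0,2,2,0,1,2⟩,⟨0,1,0,0,0,0,2⟩,⟨0,0,1,0,0,0,0⟩,⟨0,0,0,1,0,0,2⟩,⟨0,0,0,0,1,0,1⟩,⟨0,0,0,0,0,1,0⟩,⟨0,0,0,0,0,0,1⟩⟩,
  ⟨⟨1,1,1,2,0,1,1⟩,⟨0,1,0,0,0,0,2⟩,⟨0,0,1,0,0,0,0⟩,⟨0,0,0,1,0,0,2⟩,⟨0,0,0,0,1,0,2⟩,⟨0,0,0,0,0,1,2⟩,⟨0,0,0,0,0,0,1⟩⟩,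
  ⟨⟨1,2,0,2,0,1,0⟩,⟨0,1,0,0,0,0,2⟩,⟨0,0,1,0,0,0,0⟩,⟨0,0,0,1,0,0,2⟩,⟨0,0,0,0,1,0,0⟩,⟨0,0,0,0,0,1,1⟩,⟨0,0,0,0,0,0,1⟩⟩,
  ⟨⟨1,1,2,0,0,1,2⟩,⟨0,1,0,0,0,0,2⟩,⟨0,0,1,0,0,0,0⟩,⟨0,0,0,1,0,0,0⟩,⟨0,0,0,0,1,0,1⟩,⟨0,0,0,0,0,1,2⟩,⟨0,0,0,0,0,0,1⟩⟩,
  ⟨⟨1,2,1,0,0,1,1⟩,⟨0,1,0,0,0,0,2⟩,⟨0,0,1,0,0,0,0⟩,⟨0,0,0,1,0,0,0⟩,⟨0,0,0,0,1,0,2⟩,⟨0,0,0,0,0,1,1⟩,⟨0,0,0,0,0,0,1⟩⟩,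
  ⟨⟨1,0,0,1,2,0,2⟩,⟨0,1,0,0,0,0,0⟩,⟨0,0,1,0,0,0,1⟩,⟨0,0,0,1,0,0,1⟩,⟨0,0,0,0,1,0,0⟩,⟨0,0,0,0,0,1,0⟩,⟨0,0,0,0,0,0,1⟩⟩,
  ⟨⟨1,0,1,2,2,0,0⟩,⟨0,1,0,0,0,0,0⟩,⟨0,0,1,0,0,0,1⟩,⟨0,0,0,1,0,0,2⟩,⟨0,0,0,0,1,0,2⟩,⟨0,0,0,0,0,1,0⟩,⟨0,0,0,0,0,0,1⟩⟩,
  ⟨⟨1,1,0,2,2,0,2⟩,⟨0,1,0,0,0,0,0⟩,⟨0,0,1,0,0,0,1⟩,⟨0,0,0,1,0,0,2⟩,⟨0,0,0,0,1,0,0⟩,⟨0,0,0,0,0,1,2⟩,⟨0,0,0,0,0,0,1⟩⟩,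
  ⟨⟨1,0,2,0,2,0,2⟩,⟨0,1,0,0,0,0,0⟩,⟨0,0,1,0,0,0,1⟩,⟨0,0,0,1,0,0,0⟩,⟨0,0,0,0,1,0,1⟩,⟨0,0,0,0,0,1,0⟩,⟨0,0,0,0,0,0,1⟩⟩,
  ⟨⟨1,1,1,0,2,0,1⟩,⟨0,1,0,0,0,0,0⟩,⟨0,0,1,0,0,0,1⟩,⟨0,0,0,1,0,0,0⟩,⟨0,0,0,0,1,0,2⟩,⟨0,0,0,0,0,1,2⟩,⟨0,0,0,0,0,0,1⟩⟩,
  ⟨⟨1,2,0,0,2,0,0⟩,⟨0,1,0,0,0,0,0⟩,⟨0,0,1,0,0,0,1⟩,⟨0,0,0,1,0,0,0⟩,⟨0,0,0,0,1,0,0⟩,⟨0,0,0,0,0,1,1⟩,⟨0,0,0,0,0,0,1⟩⟩,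
  ⟨⟨1,0,1,1,1,0,1⟩,⟨0,1,0,0,0,0,0⟩,⟨0,0,1,0,0,0,2⟩,⟨0,0,0,1,0,0,1⟩,⟨0,0,0,0,1,0,2⟩,⟨0,0,0,0,0,1,0⟩,⟨0,0,0,0,0,0,1⟩⟩,
  ⟨⟨1,1,0,1,1,0,2⟩,⟨0,1,0,0,0,0,0⟩,⟨0,0,1,0,0,0,2⟩,⟨0,0,0,1,0,0,1⟩,⟨0,0,0,0,1,0,0⟩,⟨0,0,0,0,0,1,2⟩,⟨0,0,0,0,0,0,1⟩⟩,
  ⟨⟨1,0,2,2,1,0,0⟩,⟨0,1,0,0,0,0,0⟩,⟨0,0,1,0,0,0,2⟩,⟨0,0,0,1,0,0,2⟩,⟨0,0,0,0,1,0,1⟩,⟨0,0,0,0,0,1,0⟩,⟨0,0,0,0,0,0,1⟩⟩,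
  ⟨⟨1,1,1,2,1,0,1⟩,⟨0,1,0,0,0,0,0⟩,⟨0,0,1,0,0,0,2⟩,⟨0,0,0,1,0,0,2⟩,⟨0,0,0,0,1,0,2⟩,⟨0,0,0,0,0,1,2⟩,⟨0,0,0,0,0,0,1⟩⟩,
  ⟨⟨1,2,0,2,1,0,2⟩,⟨0,1,0,0,0,0,0⟩,⟨0,0,1,0,0,0,2⟩,⟨0,0,0,1,0,0,2⟩,⟨0,0,0,0,1,0,0⟩,⟨0,0,0,0,0,1,1⟩,⟨0,0,0,0,0,0,1⟩⟩,
  ⟨⟨1,1,2,0,1,0,1⟩,⟨0,1,0,0,0,0,0⟩,⟨0,0,1,0,0,0,2⟩,⟨0,0,0,1,0,0,0⟩,⟨0,0,0,0,1,0,1⟩,⟨0,0,0,0,0,1,2⟩,⟨0,0,0,0,0,0,1⟩⟩,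
  ⟨⟨1,2,1,0,1,0,2⟩,⟨0,1,0,0,0,0,0⟩,⟨0,0,1,0,0,0,2⟩,⟨0,0,0,1,0,0,0⟩,⟨0,0,0,0,1,0,2⟩,⟨0,0,0,0,0,1,1⟩,⟨0,0,0,0,0,0,1⟩⟩,
  ⟨⟨1,0,2,1,0,0,2⟩,⟨0,1,0,0,0,0,0⟩,⟨0,0,1,0,0,0,0⟩,⟨0,0,0,1,0,0,1⟩,⟨0,0,0,0,1,0,1⟩,⟨0,0,0,0,0,1,0⟩,⟨0,0,0,0,0,0,1⟩⟩,
  ⟨⟨1,1,1,1,0,0,2⟩,⟨0,1,0,0,0,0,0⟩,⟨0,0,1,0,0,0,0⟩,⟨0,0,0,1,0,0,1⟩,⟨0,0,0,0,1,0,2⟩,⟨0,0,0,0,0,1,2⟩,⟨0,0,0,0,0,0,1⟩⟩,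
  ⟨⟨1,2,0,1,0,0,2⟩,⟨0,1,0,0,0,0,0⟩,⟨0,0,1,0,0,0,0⟩,⟨0,0,0,1,0,0,1⟩,⟨0,0,0,0,1,0,0⟩,⟨0,0,0,0,0,1,1⟩,⟨0,0,0,0,0,0,1⟩⟩,
  ⟨⟨1,1,2,2,0,0,2⟩,⟨0,1,0,0,0,0,0⟩,⟨0,0,1,0,0,0,0⟩,⟨0,0,0,1,0,0,2⟩,⟨0,0,0,0,1,0,1⟩,⟨0,0,0,0,0,1,2⟩,⟨0,0,0,0,0,0,1⟩⟩,
  ⟨⟨1,2,1,2,0,0,2⟩,⟨0,1,0,0,0,0,0⟩,⟨0,0,1,0,0,0,0⟩,⟨0,0,0,1,0,0,2⟩,⟨0,0,0,0,1,0,2⟩,⟨0,0,0,0,0,1,1⟩,⟨0,0,0,0,0,0,1⟩⟩,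
  ⟨⟨1,2,2,0,0,0,0⟩,⟨0,1,0,0,0,0,0⟩,⟨0,0,1,0,0,0,0⟩,⟨0,0,0,1,0,0,0⟩,⟨0,0,0,0,1,0,1⟩,⟨0,0,0,0,0,1,1⟩,⟨0,0,0,0,0,0,1⟩⟩,
  ⟨⟨1,0,0,2,2,2,2⟩,⟨0,1,0,0,0,0,1⟩,⟨0,0,1,0,0,0,1⟩,⟨0,0,0,1,0,0,2⟩,⟨0,0,0,0,1,0,0⟩,⟨0,0,0,0,0,1,0⟩,⟨0,0,0,0,0,0,1⟩⟩,
  ⟨⟨1,0,1,0,2,2,1⟩,⟨0,1,0,0,0,0,1⟩,⟨0,0,1,0,0,0,1⟩,⟨0,0,0,1,0,0,0⟩,⟨0,0,0,0,1,0,2⟩,⟨0,0,0,0,0,1,0⟩,⟨0,0,0,0,0,0,1⟩⟩,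
  ⟨⟨1,1,0,0,2,2,1⟩,⟨0,1,0,0,0,0,1⟩,⟨0,0,1,0,0,0,1⟩,⟨0,0,0,1,0,0,0⟩,⟨0,0,0,0,1,0,0⟩,⟨0,0,0,0,0,1,2⟩,⟨0,0,0,0,0,0,1⟩⟩,
  ⟨⟨1,0,0,1,1,2,2⟩,⟨0,1,0,0,0,0,1⟩,⟨0,0,1,0,0,0,2⟩,⟨0,0,0,1,0,0,1⟩,⟨0,0,0,0,1,0,0⟩,⟨0,0,0,0,0,1,0⟩,⟨0,0,0,0,0,0,1⟩⟩,
  ⟨⟨1,0,1,2,1,2,1⟩,⟨0,1,0,0,0,0,1⟩,⟨0,0,1,0,0,0,2⟩,⟨0,0,0,1,0,0,2⟩,⟨0,0,0,0,1,0,2⟩,⟨0,0,0,0,0,1,0⟩,⟨0,0,0,0,0,0,1⟩⟩,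
  ⟨⟨1,1,0,2,1,2,0⟩,⟨0,1,0,0,0,0,1⟩,⟨0,0,1,0,0,0,2⟩,⟨0,0,0,1,0,0,2⟩,⟨0,0,0,0,1,0,0⟩,⟨0,0,0,0,0,1,2⟩,⟨0,0,0,0,0,0,1⟩⟩,
  ⟨⟨1,0,2,0,1,2,1⟩,⟨0,1,0,0,0,0,1⟩,⟨0,0,1,0,0,0,2⟩,⟨0,0,0,1,0,0,0⟩,⟨0,0,0,0,1,0,1⟩,⟨0,0,0,0,0,1,0⟩,⟨0,0,0,0,0,0,1⟩⟩,
  ⟨⟨1,1,1,0,1,2,0⟩,⟨0,1,0,0,0,0,1⟩,⟨0,0,1,0,0,0,2⟩,⟨0,0,0,1,0,0,0⟩,⟨0,0,0,0,1,0,2⟩,⟨0,0,0,0,0,1,2⟩,⟨0,0,0,0,0,0,1⟩⟩,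
  ⟨⟨1,2,0,0,1,2,2⟩,⟨0,1,0,0,0,0,1⟩,⟨0,0,1,0,0,0,2⟩,⟨0,0,0,1,0,0,0⟩,⟨0,0,0,0,1,0,0⟩,⟨0,0,0,0,0,1,1⟩,⟨0,0,0,0,0,0,1⟩⟩,
  ⟨⟨1,0,1,1,0,2,2⟩,⟨0,1,0,0,0,0,1⟩,⟨0,0,1,0,0,0,0⟩,⟨0,0,0,1,0,0,1⟩,⟨0,0,0,0,1,0,2⟩,⟨0,0,0,0,0,1,0⟩,⟨0,0,0,0,0,0,1⟩⟩,
  ⟨⟨1,1,0,1,0,2,0⟩,⟨0,1,0,0,0,0,1⟩,⟨0,0,1,0,0,0,0⟩,⟨0,0,0,1,0,0,1⟩,⟨0,0,0,0,1,0,0⟩,⟨0,0,0,0,0,1,2⟩,⟨0,0,0,0,0,0,1⟩⟩,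
  ⟨⟨1,0,2,2,0,2,2⟩,⟨0,1,0,0,0,0,1⟩,⟨0,0,1,0,0,0,0⟩,⟨0,0,0,1,0,0,2⟩,⟨0,0,0,0,1,0,1⟩,⟨0,0,0,0,0,1,0⟩,⟨0,0,0,0,0,0,1⟩⟩,
  ⟨⟨1,1,1,2,0,2,0⟩,⟨0,1,0,0,0,0,1⟩,⟨0,0,1,0,0,0,0⟩,⟨0,0,0,1,0,0,2⟩,⟨0,0,0,0,1,0,2⟩,⟨0,0,0,0,0,1,2⟩,⟨0,0,0,0,0,0,1⟩⟩,
  ⟨⟨1,2,0,2,0,2,1⟩,⟨0,1,0,0,0,0,1⟩,⟨0,0,1,0,0,0,0⟩,⟨0,0,0,1,0,0,2⟩,⟨0,0,0,0,1,0,0⟩,⟨0,0,0,0,0,1,1⟩,⟨0,0,0,0,0,0,1⟩⟩,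
  ⟨⟨1,1,2,0,0,2,1⟩,⟨0,1,0,0,0,0,1⟩,⟨0,0,1,0,0,0,0⟩,⟨0,0,0,1,0,0,0⟩,⟨0,0,0,0,1,0,1⟩,⟨0,0,0,0,0,1,2⟩,⟨0,0,0,0,0,0,1⟩⟩,
  ⟨⟨1,2,1,0,0,2,2⟩,⟨0,1,0,0,0,0,1⟩,⟨0,0,1,0,0,0,0⟩,⟨0,0,0,1,0,0,0⟩,⟨0,0,0,0,1,0,2⟩,⟨0,0,0,0,0,1,1⟩,⟨0,0,0,0,0,0,1⟩⟩,
  ⟨⟨1,0,0,1,2,1,2⟩,⟨0,1,0,0,0,0,2⟩,⟨0,0,1,0,0,0,1⟩,⟨0,0,0,1,0,0,1⟩,⟨0,0,0,0,1,0,0⟩,⟨0,0,0,0,0,1,0⟩,⟨0,0,0,0,0,0,1⟩⟩,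
  ⟨⟨1,0,1,2,2,1,0⟩,⟨0,1,0,0,0,0,2⟩,⟨0,0,1,0,0,0,1⟩,⟨0,0,0,1,0,0,2⟩,⟨0,0,0,0,1,0,2⟩,⟨0,0,0,0,0,1,0⟩,⟨0,0,0,0,0,0,1⟩⟩,
  ⟨⟨1,1,0,2,2,1,1⟩,⟨0,1,0,0,0,0,2⟩,⟨0,0,1,0,0,0,1⟩,⟨0,0,0,1,0,0,2⟩,⟨0,0,0,0,1,0,0⟩,⟨0,0,0,0,0,1,2⟩,⟨0,0,0,0,0,0,1⟩⟩,
  ⟨⟨1,0,2,0,2,1,2⟩,⟨0,1,0,0,0,0,2⟩,⟨0,0,1,0,0,0,1⟩,⟨0,0,0,1,0,0,0⟩,⟨0,0,0,0,1,0,1⟩,⟨0,0,0,0,0,1,0⟩,⟨0,0,0,0,0,0,1⟩⟩,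
  ⟨⟨1,1,1,0,2,1,0⟩,⟨0,1,0,0,0,0,2⟩,⟨0,0,1,0,0,0,1⟩,⟨0,0,0,1,0,0,0⟩,⟨0,0,0,0,1,0,2⟩,⟨0,0,0,0,0,1,2⟩,⟨0,0,0,0,0,0,1⟩⟩,
  ⟨⟨1,2,0,0,2,1,1⟩,⟨0,1,0,0,0,0,2⟩,⟨0,0,1,0,0,0,1⟩,⟨0,0,0,1,0,0,0⟩,⟨0,0,0,0,1,0,0⟩,⟨0,0,0,0,0,1,1⟩,⟨0,0,0,0,0,0,1⟩⟩,
  ⟨⟨1,0,1,1,1,1,1⟩,⟨0,1,0,0,0,0,2⟩,⟨0,0,1,0,0,0,2⟩,⟨0,0,0,1,0,0,1⟩,⟨0,0,0,0,1,0,2⟩,⟨0,0,0,0,0,1,0⟩,⟨0,0,0,0,0,0,1⟩⟩,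
  ⟨⟨1,1,0,1,1,1,1⟩,⟨0,1,0,0,0,0,2⟩,⟨0,0,1,0,0,0,2⟩,⟨0,0,0,1,0,0,1⟩,⟨0,0,0,0,1,0,0⟩,⟨0,0,0,0,0,1,2⟩,⟨0,0,0,0,0,0,1⟩⟩,
  ⟨⟨1,0,2,2,1,1,0⟩,⟨0,1,0,0,0,0,2⟩,⟨0,0,1,0,0,0,2⟩,⟨0,0,0,1,0,0,2⟩,⟨0,0,0,0,1,0,1⟩,⟨0,0,0,0,0,1,0⟩,⟨0,0,0,0,0,0,1⟩⟩,
  ⟨⟨1,1,1,2,1,1,0⟩,⟨0,1,0,0,0,0,2⟩,⟨0,0,1,0,0,0,2⟩,⟨0,0,0,1,0,0,2⟩,⟨0,0,0,0,1,0,2⟩,⟨0,0,0,0,0,1,2⟩,⟨0,0,0,0,0,0,1⟩⟩,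
  ⟨⟨1,2,0,2,1,1,0⟩,⟨0,1,0,0,0,0,2⟩,⟨0,0,1,0,0,0,2⟩,⟨0,0,0,1,0,0,2⟩,⟨0,0,0,0,1,0,0⟩,⟨0,0,0,0,0,1,1⟩,⟨0,0,0,0,0,0,1⟩⟩,
  ⟨⟨1,1,2,0,1,1,0⟩,⟨0,1,0,0,0,0,2⟩,⟨0,0,1,0,0,0,2⟩,⟨0,0,0,1,0,0,0⟩,⟨0,0,0,0,1,0,1⟩,⟨0,0,0,0,0,1,2⟩,⟨0,0,0,0,0,0,1⟩⟩,
  ⟨⟨1,2,1,0,1,1,0⟩,⟨0,1,0,0,0,0,2⟩,⟨0,0,1,0,0,0,2⟩,⟨0,0,0,1,0,0,0⟩,⟨0,0,0,0,1,0,2⟩,⟨0,0,0,0,0,1,1⟩,⟨0,0,0,0,0,0,1⟩⟩,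
  ⟨⟨1,0,2,1,0,1,2⟩,⟨0,1,0,0,0,0,2⟩,⟨0,0,1,0,0,0,0⟩,⟨0,0,0,1,0,0,1⟩,⟨0,0,0,0,1,0,1⟩,⟨0,0,0,0,0,1,0⟩,⟨0,0,0,0,0,0,1⟩⟩,
  ⟨⟨1,1,1,1,0,1,1⟩,⟨0,1,0,0,0,0,2⟩,⟨0,0,1,0,0,0,0⟩,⟨0,0,0,1,0,0,1⟩,⟨0,0,0,0,1,0,2⟩,⟨0,0,0,0,0,1,2⟩,⟨0,0,0,0,0,0,1⟩⟩,
  ⟨⟨1,2,0,1,0,1,0⟩,⟨0,1,0,0,0,0,2⟩,⟨0,0,1,0,0,0,0⟩,⟨0,0,0,1,0,0,1⟩,⟨0,0,0,0,1,0,0⟩,⟨0,0,0,0,0,1,1⟩,⟨0,0,0,0,0,0,1⟩⟩,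
  ⟨⟨1,1,2,2,0,1,1⟩,⟨0,1,0,0,0,0,2⟩,⟨0,0,1,0,0,0,0⟩,⟨0,0,0,1,0,0,2⟩,⟨0,0,0,0,1,0,1⟩,⟨0,0,0,0,0,1,2⟩,⟨0,0,0,0,0,0,1⟩⟩,
  ⟨⟨1,2,1,2,0,1,0⟩,⟨0,1,0,0,0,0,2⟩,⟨0,0,1,0,0,0,0⟩,⟨0,0,0,1,0,0,2⟩,⟨0,0,0,0,1,0,2⟩,⟨0,0,0,0,0,1,1⟩,⟨0,0,0,0,0,0,1⟩⟩,
  ⟨⟨1,2,2,0,0,1,1⟩,⟨0,1,0,0,0,0,2⟩,⟨0,0,1,0,0,0,0⟩,⟨0,0,0,1,0,0,0⟩,⟨0,0,0,0,1,0,1⟩,⟨0,0,0,0,0,1,1⟩,⟨0,0,0,0,0,0,1⟩⟩,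
  ⟨⟨1,0,1,1,2,0,0⟩,⟨0,1,0,0,0,0,0⟩,⟨0,0,1,0,0,0,1⟩,⟨0,0,0,1,0,0,1⟩,⟨0,0,0,0,1,0,2⟩,⟨0,0,0,0,0,1,0⟩,⟨0,0,0,0,0,0,1⟩⟩,
  ⟨⟨1,1,0,1,2,0,2⟩,⟨0,1,0,0,0,0,0⟩,⟨0,0,1,0,0,0,1⟩,⟨0,0,0,1,0,0,1⟩,⟨0,0,0,0,1,0,0⟩,⟨0,0,0,0,0,1,2⟩,⟨0,0,0,0,0,0,1⟩⟩,
  ⟨⟨1,0,2,2,2,0,1⟩,⟨0,1,0,0,0,0,0⟩,⟨0,0,1,0,0,0,1⟩,⟨0,0,0,1,0,0,2⟩,⟨0,0,0,0,1,0,1⟩,⟨0,0,0,0,0,1,0⟩,⟨0,0,0,0,0,0,1⟩⟩,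
  ⟨⟨1,1,1,2,2,0,0⟩,⟨0,1,0,0,0,0,0⟩,⟨0,0,1,0,0,0,1⟩,⟨0,0,0,1,0,0,2⟩,⟨0,0,0,0,1,0,2⟩,⟨0,0,0,0,0,1,2⟩,⟨0,0,0,0,0,0,1⟩⟩,
  ⟨⟨1,2,0,2,2,0,2⟩,⟨0,1,0,0,0,0,0⟩,⟨0,0,1,0,0,0,1⟩,⟨0,0,0,1,0,0,2⟩,⟨0,0,0,0,1,0,0⟩,⟨0,0,0,0,0,1,1⟩,⟨0,0,0,0,0,0,1⟩⟩,
  ⟨⟨1,1,2,0,2,0,2⟩,⟨0,1,0,0,0,0,0⟩,⟨0,0,1,0,0,0,1⟩,⟨0,0,0,1,0,0,0⟩,⟨0,0,0,0,1,0,1⟩,⟨0,0,0,0,0,1,2⟩,⟨0,0,0,0,0,0,1⟩⟩,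
  ⟨⟨1,2,1,0,2,0,1⟩,⟨0,1,0,0,0,0,0⟩,⟨0,0,1,0,0,0,1⟩,⟨0,0,0,1,0,0,0⟩,⟨0,0,0,0,1,0,2⟩,⟨0,0,0,0,0,1,1⟩,⟨0,0,0,0,0,0,1⟩⟩,
  ⟨⟨1,0,2,1,1,0,0⟩,⟨0,1,0,0,0,0,0⟩,⟨0,0,1,0,0,0,2⟩,⟨0,0,0,1,0,0,1⟩,⟨0,0,0,0,1,0,1⟩,⟨0,0,0,0,0,1,0⟩,⟨0,0,0,0,0,0,1⟩⟩,
  ⟨⟨1,1,1,1,1,0,1⟩,⟨0,1,0,0,0,0,0⟩,⟨0,0,1,0,0,0,2⟩,⟨0,0,0,1,0,0,1⟩,⟨0,0,0,0,1,0,2⟩,⟨0,0,0,0,0,1,2⟩,⟨0,0,0,0,0,0,1⟩⟩,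
  ⟨⟨1,2,0,1,1,0,2⟩,⟨0,1,0,0,0,0,0⟩,⟨0,0,1,0,0,0,2⟩,⟨0,0,0,1,0,0,1⟩,⟨0,0,0,0,1,0,0⟩,⟨0,0,0,0,0,1,1⟩,⟨0,0,0,0,0,0,1⟩⟩,
  ⟨⟨1,1,2,2,1,0,0⟩,⟨0,1,0,0,0,0,0⟩,⟨0,0,1,0,0,0,2⟩,⟨0,0,0,1,0,0,2⟩,⟨0,0,0,0,1,0,1⟩,⟨0,0,0,0,0,1,2⟩,⟨0,0,0,0,0,0,1⟩⟩,
  ⟨⟨1,2,1,2,1,0,1⟩,⟨0,1,0,0,0,0,0⟩,⟨0,0,1,0,0,0,2⟩,⟨0,0,0,1,0,0,2⟩,⟨0,0,0,0,1,0,2⟩,⟨0,0,0,0,0,1,1⟩,⟨0,0,0,0,0,0,1⟩⟩,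
  ⟨⟨1,2,2,0,1,0,1⟩,⟨0,1,0,0,0,0,0⟩,⟨0,0,1,0,0,0,2⟩,⟨0,0,0,1,0,0,0⟩,⟨0,0,0,0,1,0,1⟩,⟨0,0,0,0,0,1,1⟩,⟨0,0,0,0,0,0,1⟩⟩,
  ⟨⟨1,1,2,1,0,0,2⟩,⟨0,1,0,0,0,0,0⟩,⟨0,0,1,0,0,0,0⟩,⟨0,0,0,1,0,0,1⟩,⟨0,0,0,0,1,0,1⟩,⟨0,0,0,0,0,1,2⟩,⟨0,0,0,0,0,0,1⟩⟩,
  ⟨⟨1,2,1,1,0,0,2⟩,⟨0,1,0,0,0,0,0⟩,⟨0,0,1,0,0,0,0⟩,⟨0,0,0,1,0,0,1⟩,⟨0,0,0,0,1,0,2⟩,⟨0,0,0,0,0,1,1⟩,⟨0,0,0,0,0,0,1⟩⟩,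
  ⟨⟨1,2,2,2,0,0,2⟩,⟨0,1,0,0,0,0,0⟩,⟨0,0,1,0,0,0,0⟩,⟨0,0,0,1,0,0,2⟩,⟨0,0,0,0,1,0,1⟩,⟨0,0,0,0,0,1,1⟩,⟨0,0,0,0,0,0,1⟩⟩,
  ⟨⟨1,0,0,1,2,2,2⟩,⟨0,1,0,0,0,0,1⟩,⟨0,0,1,0,0,0,1⟩,⟨0,0,0,1,0,0,1⟩,⟨0,0,0,0,1,0,0⟩,⟨0,0,0,0,0,1,0⟩,⟨0,0,0,0,0,0,1⟩⟩,
  ⟨⟨1,0,1,2,2,2,0⟩,⟨0,1,0,0,0,0,1⟩,⟨0,0,1,0,0,0,1⟩,⟨0,0,0,1,0,0,2⟩,⟨0,0,0,0,1,0,2⟩,⟨0,0,0,0,0,1,0⟩,⟨0,0,0,0,0,0,1⟩⟩,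
  ⟨⟨1,1,0,2,2,2,0⟩,⟨0,1,0,0,0,0,1⟩,⟨0,0,1,0,0,0,1⟩,⟨0,0,0,1,0,0,2⟩,⟨0,0,0,0,1,0,0⟩,⟨0,0,0,0,0,1,2⟩,⟨0,0,0,0,0,0,1⟩⟩,
  ⟨⟨1,0,2,0,2,2,2⟩,⟨0,1,0,0,0,0,1⟩,⟨0,0,1,0,0,0,1⟩,⟨0,0,0,1,0,0,0⟩,⟨0,0,0,0,1,0,1⟩,⟨0,0,0,0,0,1,0⟩,⟨0,0,0,0,0,0,1⟩⟩,
  ⟨⟨1,1,1,0,2,2,2⟩,⟨0,1,0,0,0,0,1⟩,⟨0,0,1,0,0,0,1⟩,⟨0,0,0,1,0,0,0⟩,⟨0,0,0,0,1,0,2⟩,⟨0,0,0,0,0,1,2⟩,⟨0,0,0,0,0,0,1⟩⟩,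
  ⟨⟨1,2,0,0,2,2,2⟩,⟨0,1,0,0,0,0,1⟩,⟨0,0,1,0,0,0,1⟩,⟨0,0,0,1,0,0,0⟩,⟨0,0,0,0,1,0,0⟩,⟨0,0,0,0,0,1,1⟩,⟨0,0,0,0,0,0,1⟩⟩,
  ⟨⟨1,0,1,1,1,2,1⟩,⟨0,1,0,0,0,0,1⟩,⟨0,0,1,0,0,0,2⟩,⟨0,0,0,1,0,0,1⟩,⟨0,0,0,0,1,0,2⟩,⟨0,0,0,0,0,1,0⟩,⟨0,0,0,0,0,0,1⟩⟩,
  ⟨⟨1,1,0,1,1,2,0⟩,⟨0,1,0,0,0,0,1⟩,⟨0,0,1,0,0,0,2⟩,⟨0,0,0,1,0,0,1⟩,⟨0,0,0,0,1,0,0⟩,⟨0,0,0,0,0,1,2⟩,⟨0,0,0,0,0,0,1⟩⟩,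
  ⟨⟨1,0,2,2,1,2,0⟩,⟨0,1,0,0,0,0,1⟩,⟨0,0,1,0,0,0,2⟩,⟨0,0,0,1,0,0,2⟩,⟨0,0,0,0,1,0,1⟩,⟨0,0,0,0,0,1,0⟩,⟨0,0,0,0,0,0,1⟩⟩,
  ⟨⟨1,1,1,2,1,2,2⟩,⟨0,1,0,0,0,0,1⟩,⟨0,0,1,0,0,0,2⟩,⟨0,0,0,1,0,0,2⟩,⟨0,0,0,0,1,0,2⟩,⟨0,0,0,0,0,1,2⟩,⟨0,0,0,0,0,0,1⟩⟩,
  ⟨⟨1,2,0,2,1,2,1⟩,⟨0,1,0,0,0,0,1⟩,⟨0,0,1,0,0,0,2⟩,⟨0,0,0,1,0,0,2⟩,⟨0,0,0,0,1,0,0⟩,⟨0,0,0,0,0,1,1⟩,⟨0,0,0,0,0,0,1⟩⟩,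
  ⟨⟨1,1,2,0,1,2,2⟩,⟨0,1,0,0,0,0,1⟩,⟨0,0,1,0,0,0,2⟩,⟨0,0,0,1,0,0,0⟩,⟨0,0,0,0,1,0,1⟩,⟨0,0,0,0,0,1,2⟩,⟨0,0,0,0,0,0,1⟩⟩,
  ⟨⟨1,2,1,0,1,2,1⟩,⟨0,1,0,0,0,0,1⟩,⟨0,0,1,0,0,0,2⟩,⟨0,0,0,1,0,0,0⟩,⟨0,0,0,0,1,0,2⟩,⟨0,0,0,0,0,1,1⟩,⟨0,0,0,0,0,0,1⟩⟩,
  ⟨⟨1,0,2,1,0,2,2⟩,⟨0,1,0,0,0,0,1⟩,⟨0,0,1,0,0,0,0⟩,⟨0,0,0,1,0,0,1⟩,⟨0,0,0,0,1,0,1⟩,⟨0,0,0,0,0,1,0⟩,⟨0,0,0,0,0,0,1⟩⟩,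
  ⟨⟨1,1,1,1,0,2,0⟩,⟨0,1,0,0,0,0,1⟩,⟨0,0,1,0,0,0,0⟩,⟨0,0,0,1,0,0,1⟩,⟨0,0,0,0,1,0,2⟩,⟨0,0,0,0,0,1,2⟩,⟨0,0,0,0,0,0,1⟩⟩,
  ⟨⟨1,2,0,1,0,2,1⟩,⟨0,1,0,0,0,0,1⟩,⟨0,0,1,0,0,0,0⟩,⟨0,0,0,1,0,0,1⟩,⟨0,0,0,0,1,0,0⟩,⟨0,0,0,0,0,1,1⟩,⟨0,0,0,0,0,0,1⟩⟩,
  ⟨⟨1,1,2,2,0,2,0⟩,⟨0,1,0,0,0,0,1⟩,⟨0,0,1,0,0,0,0⟩,⟨0,0,0,1,0,0,2⟩,⟨0,0,0,0,1,0,1⟩,⟨0,0,0,0,0,1,2⟩,⟨0,0,0,0,0,0,1⟩⟩,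
  ⟨⟨1,2,1,2,0,2,1⟩,⟨0,1,0,0,0,0,1⟩,⟨0,0,1,0,0,0,0⟩,⟨0,0,0,1,0,0,2⟩,⟨0,0,0,0,1,0,2⟩,⟨0,0,0,0,0,1,1⟩,⟨0,0,0,0,0,0,1⟩⟩,
  ⟨⟨1,2,2,0,0,2,2⟩,⟨0,1,0,0,0,0,1⟩,⟨0,0,1,0,0,0,0⟩,⟨0,0,0,1,0,0,0⟩,⟨0,0,0,0,1,0,1⟩,⟨0,0,0,0,0,1,1⟩,⟨0,0,0,0,0,0,1⟩⟩,
  ⟨⟨1,0,1,1,2,1,0⟩,⟨0,1,0,0,0,0,2⟩,⟨0,0,1,0,0,0,1⟩,⟨0,0,0,1,0,0,1⟩,⟨0,0,0,0,1,0,2⟩,⟨0,0,0,0,0,1,0⟩,⟨0,0,0,0,0,0,1⟩⟩,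
  ⟨⟨1,1,0,1,2,1,1⟩,⟨0,1,0,0,0,0,2⟩,⟨0,0,1,0,0,0,1⟩,⟨0,0,0,1,0,0,1⟩,⟨0,0,0,0,1,0,0⟩,⟨0,0,0,0,0,1,2⟩,⟨0,0,0,0,0,0,1⟩⟩,
  ⟨⟨1,0,2,2,2,1,1⟩,⟨0,1,0,0,0,0,2⟩,⟨0,0,1,0,0,0,1⟩,⟨0,0,0,1,0,0,2⟩,⟨0,0,0,0,1,0,1⟩,⟨0,0,0,0,0,1,0⟩,⟨0,0,0,0,0,0,1⟩⟩,
  ⟨⟨1,1,1,2,2,1,2⟩,⟨0,1,0,0,0,0,2⟩,⟨0,0,1,0,0,0,1⟩,⟨0,0,0,1,0,0,2⟩,⟨0,0,0,0,1,0,2⟩,⟨0,0,0,0,0,1,2⟩,⟨0,0,0,0,0,0,1⟩⟩,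
  ⟨⟨1,2,0,2,2,1,0⟩,⟨0,1,0,0,0,0,2⟩,⟨0,0,1,0,0,0,1⟩,⟨0,0,0,1,0,0,2⟩,⟨0,0,0,0,1,0,0⟩,⟨0,0,0,0,0,1,1⟩,⟨0,0,0,0,0,0,1⟩⟩,
  ⟨⟨1,1,2,0,2,1,1⟩,⟨0,1,0,0,0,0,2⟩,⟨0,0,1,0,0,0,1⟩,⟨0,0,0,1,0,0,0⟩,⟨0,0,0,0,1,0,1⟩,⟨0,0,0,0,0,1,2⟩,⟨0,0,0,0,0,0,1⟩⟩,
  ⟨⟨1,2,1,0,2,1,2⟩,⟨0,1,0,0,0,0,2⟩,⟨0,0,1,0,0,0,1⟩,⟨0,0,0,1,0,0,0⟩,⟨0,0,0,0,1,0,2⟩,⟨0,0,0,0,0,1,1⟩,⟨0,0,0,0,0,0,1⟩⟩,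
  ⟨⟨1,0,2,1,1,1,0⟩,⟨0,1,0,0,0,0,2⟩,⟨0,0,1,0,0,0,2⟩,⟨0,0,0,1,0,0,1⟩,⟨0,0,0,0,1,0,1⟩,⟨0,0,0,0,0,1,0⟩,⟨0,0,0,0,0,0,1⟩⟩,
  ⟨⟨1,1,1,1,1,1,0⟩,⟨0,1,0,0,0,0,2⟩,⟨0,0,1,0,0,0,2⟩,⟨0,0,0,1,0,0,1⟩,⟨0,0,0,0,1,0,2⟩,⟨0,0,0,0,0,1,2⟩,⟨0,0,0,0,0,0,1⟩⟩,
  ⟨⟨1,2,0,1,1,1,0⟩,⟨0,1,0,0,0,0,2⟩,⟨0,0,1,0,0,0,2⟩,⟨0,0,0,1,0,0,1⟩,⟨0,0,0,0,1,0,0⟩,⟨0,0,0,0,0,1,1⟩,⟨0,0,0,0,0,0,1⟩⟩,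
  ⟨⟨1,1,2,2,1,1,2⟩,⟨0,1,0,0,0,0,2⟩,⟨0,0,1,0,0,0,2⟩,⟨0,0,0,1,0,0,2⟩,⟨0,0,0,0,1,0,1⟩,⟨0,0,0,0,0,1,2⟩,⟨0,0,0,0,0,0,1⟩⟩,
  ⟨⟨1,2,1,2,1,1,2⟩,⟨0,1,0,0,0,0,2⟩,⟨0,0,1,0,0,0,2⟩,⟨0,0,0,1,0,0,2⟩,⟨0,0,0,0,1,0,2⟩,⟨0,0,0,0,0,1,1⟩,⟨0,0,0,0,0,0,1⟩⟩,
  ⟨⟨1,2,2,0,1,1,2⟩,⟨0,1,0,0,0,0,2⟩,⟨0,0,1,0,0,0,2⟩,⟨0,0,0,1,0,0,0⟩,⟨0,0,0,0,1,0,1⟩,⟨0,0,0,0,0,1,1⟩,⟨0,0,0,0,0,0,1⟩⟩,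
  ⟨⟨1,1,2,1,0,1,1⟩,⟨0,1,0,0,0,0,2⟩,⟨0,0,1,0,0,0,0⟩,⟨0,0,0,1,0,0,1⟩,⟨0,0,0,0,1,0,1⟩,⟨0,0,0,0,0,1,2⟩,⟨0,0,0,0,0,0,1⟩⟩,
  ⟨⟨1,2,1,1,0,1,0⟩,⟨0,1,0,0,0,0,2⟩,⟨0,0,1,0,0,0,0⟩,⟨0,0,0,1,0,0,1⟩,⟨0,0,0,0,1,0,2⟩,⟨0,0,0,0,0,1,1⟩,⟨0,0,0,0,0,0,1⟩⟩,
  ⟨⟨1,2,2,2,0,1,0⟩,⟨0,1,0,0,0,0,2⟩,⟨0,0,1,0,0,0,0⟩,⟨0,0,0,1,0,0,2⟩,⟨0,0,0,0,1,0,1⟩,⟨0,0,0,0,0,1,1⟩,⟨0,0,0,0,0,0,1⟩⟩,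
  ⟨⟨1,0,2,1,2,0,1⟩,⟨0,1,0,0,0,0,0⟩,⟨0,0,1,0,0,0,1⟩,⟨0,0,0,1,0,0,1⟩,⟨0,0,0,0,1,0,1⟩,⟨0,0,0,0,0,1,0⟩,⟨0,0,0,0,0,0,1⟩⟩,
  ⟨⟨1,1,1,1,2,0,0⟩,⟨0,1,0,0,0,0,0⟩,⟨0,0,1,0,0,0,1⟩,⟨0,0,0,1,0,0,1⟩,⟨0,0,0,0,1,0,2⟩,⟨0,0,0,0,0,1,2⟩,⟨0,0,0,0,0,0,1⟩⟩,
  ⟨⟨1,2,0,1,2,0,2⟩,⟨0,1,0,0,0,0,0⟩,⟨0,0,1,0,0,0,1⟩,⟨0,0,0,1,0,0,1⟩,⟨0,0,0,0,1,0,0⟩,⟨0,0,0,0,0,1,1⟩,⟨0,0,0,0,0,0,1⟩⟩,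
  ⟨⟨1,1,2,2,2,0,1⟩,⟨0,1,0,0,0,0,0⟩,⟨0,0,1,0,0,0,1⟩,⟨0,0,0,1,0,0,2⟩,⟨0,0,0,0,1,0,1⟩,⟨0,0,0,0,0,1,2⟩,⟨0,0,0,0,0,0,1⟩⟩,
  ⟨⟨1,2,1,2,2,0,0⟩,⟨0,1,0,0,0,0,0⟩,⟨0,0,1,0,0,0,1⟩,⟨0,0,0,1,0,0,2⟩,⟨0,0,0,0,1,0,2⟩,⟨0,0,0,0,0,1,1⟩,⟨0,0,0,0,0,0,1⟩⟩,
  ⟨⟨1,2,2,0,2,0,2⟩,⟨0,1,0,0,0,0,0⟩,⟨0,0,1,0,0,0,1⟩,⟨0,0,0,1,0,0,0⟩,⟨0,0,0,0,1,0,1⟩,⟨0,0,0,0,0,1,1⟩,⟨0,0,0,0,0,0,1⟩⟩,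
  ⟨⟨1,1,2,1,1,0,0⟩,⟨0,1,0,0,0,0,0⟩,⟨0,0,1,0,0,0,2⟩,⟨0,0,0,1,0,0,1⟩,⟨0,0,0,0,1,0,1⟩,⟨0,0,0,0,0,1,2⟩,⟨0,0,0,0,0,0,1⟩⟩,
  ⟨⟨1,2,1,1,1,0,1⟩,⟨0,1,0,0,0,0,0⟩,⟨0,0,1,0,0,0,2⟩,⟨0,0,0,1,0,0,1⟩,⟨0,0,0,0,1,0,2⟩,⟨0,0,0,0,0,1,1⟩,⟨0,0,0,0,0,0,1⟩⟩,
  ⟨⟨1,2,2,2,1,0,0⟩,⟨0,1,0,0,0,0,0⟩,⟨0,0,1,0,0,0,2⟩,⟨0,0,0,1,0,0,2⟩,⟨0,0,0,0,1,0,1⟩,⟨0,0,0,0,0,1,1⟩,⟨0,0,0,0,0,0,1⟩⟩,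
  ⟨⟨1,2,2,1,0,0,2⟩,⟨0,1,0,0,0,0,0⟩,⟨0,0,1,0,0,0,0⟩,⟨0,0,0,1,0,0,1⟩,⟨0,0,0,0,1,0,1⟩,⟨0,0,0,0,0,1,1⟩,⟨0,0,0,0,0,0,1⟩⟩,
  ⟨⟨1,0,1,1,2,2,0⟩,⟨0,1,0,0,0,0,1⟩,⟨0,0,1,0,0,0,1⟩,⟨0,0,0,1,0,0,1⟩,⟨0,0,0,0,1,0,2⟩,⟨0,0,0,0,0,1,0⟩,⟨0,0,0,0,0,0,1⟩⟩,
  ⟨⟨1,1,0,1,2,2,0⟩,⟨0,1,0,0,0,0,1⟩,⟨0,0,1,0,0,0,1⟩,⟨0,0,0,1,0,0,1⟩,⟨0,0,0,0,1,0,0⟩,⟨0,0,0,0,0,1,2⟩,⟨0,0,0,0,0,0,1⟩⟩,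
  ⟨⟨1,0,2,2,2,2,1⟩,⟨0,1,0,0,0,0,1⟩,⟨0,0,1,0,0,0,1⟩,⟨0,0,0,1,0,0,2⟩,⟨0,0,0,0,1,0,1⟩,⟨0,0,0,0,0,1,0⟩,⟨0,0,0,0,0,0,1⟩⟩,
  ⟨⟨1,1,1,2,2,2,1⟩,⟨0,1,0,0,0,0,1⟩,⟨0,0,1,0,0,0,1⟩,⟨0,0,0,1,0,0,2⟩,⟨0,0,0,0,1,0,2⟩,⟨0,0,0,0,0,1,2⟩,⟨0,0,0,0,0,0,1⟩⟩,
  ⟨⟨1,2,0,2,2,2,1⟩,⟨0,1,0,0,0,0,1⟩,⟨0,0,1,0,0,0,1⟩,⟨0,0,0,1,0,0,2⟩,⟨0,0,0,0,1,0,0⟩,⟨0,0,0,0,0,1,1⟩,⟨0,0,0,0,0,0,1⟩⟩,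
  ⟨⟨1,1,2,0,2,2,0⟩,⟨0,1,0,0,0,0,1⟩,⟨0,0,1,0,0,0,1⟩,⟨0,0,0,1,0,0,0⟩,⟨0,0,0,0,1,0,1⟩,⟨0,0,0,0,0,1,2⟩,⟨0,0,0,0,0,0,1⟩⟩,
  ⟨⟨1,2,1,0,2,2,0⟩,⟨0,1,0,0,0,0,1⟩,⟨0,0,1,0,0,0,1⟩,⟨0,0,0,1,0,0,0⟩,⟨0,0,0,0,1,0,2⟩,⟨0,0,0,0,0,1,1⟩,⟨0,0,0,0,0,0,1⟩⟩,
  ⟨⟨1,0,2,1,1,2,0⟩,⟨0,1,0,0,0,0,1⟩,⟨0,0,1,0,0,0,2⟩,⟨0,0,0,1,0,0,1⟩,⟨0,0,0,0,1,0,1⟩,⟨0,0,0,0,0,1,0⟩,⟨0,0,0,0,0,0,1⟩⟩,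
  ⟨⟨1,1,1,1,1,2,2⟩,⟨0,1,0,0,0,0,1⟩,⟨0,0,1,0,0,0,2⟩,⟨0,0,0,1,0,0,1⟩,⟨0,0,0,0,1,0,2⟩,⟨0,0,0,0,0,1,2⟩,⟨0,0,0,0,0,0,1⟩⟩,
  ⟨⟨1,2,0,1,1,2,1⟩,⟨0,1,0,0,0,0,1⟩,⟨0,0,1,0,0,0,2⟩,⟨0,0,0,1,0,0,1⟩,⟨0,0,0,0,1,0,0⟩,⟨0,0,0,0,0,1,1⟩,⟨0,0,0,0,0,0,1⟩⟩,
  ⟨⟨1,1,2,2,1,2,1⟩,⟨0,1,0,0,0,0,1⟩,⟨0,0,1,0,0,0,2⟩,⟨0,0,0,1,0,0,2⟩,⟨0,0,0,0,1,0,1⟩,⟨0,0,0,0,0,1,2⟩,⟨0,0,0,0,0,0,1⟩⟩,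
  ⟨⟨1,2,1,2,1,2,0⟩,⟨0,1,0,0,0,0,1⟩,⟨0,0,1,0,0,0,2⟩,⟨0,0,0,1,0,0,2⟩,⟨0,0,0,0,1,0,2⟩,⟨0,0,0,0,0,1,1⟩,⟨0,0,0,0,0,0,1⟩⟩,
  ⟨⟨1,2,2,0,1,2,0⟩,⟨0,1,0,0,0,0,1⟩,⟨0,0,1,0,0,0,2⟩,⟨0,0,0,1,0,0,0⟩,⟨0,0,0,0,1,0,1⟩,⟨0,0,0,0,0,1,1⟩,⟨0,0,0,0,0,0,1⟩⟩,
  ⟨⟨1,1,2,1,0,2,0⟩,⟨0,1,0,0,0,0,1⟩,⟨0,0,1,0,0,0,0⟩,⟨0,0,0,1,0,0,1⟩,⟨0,0,0,0,1,0,1⟩,⟨0,0,0,0,0,1,2⟩,⟨0,0,0,0,0,0,1⟩⟩,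
  ⟨⟨1,2,1,1,0,2,1⟩,⟨0,1,0,0,0,0,1⟩,⟨0,0,1,0,0,0,0⟩,⟨0,0,0,1,0,0,1⟩,⟨0,0,0,0,1,0,2⟩,⟨0,0,0,0,0,1,1⟩,⟨0,0,0,0,0,0,1⟩⟩,
  ⟨⟨1,2,2,2,0,2,1⟩,⟨0,1,0,0,0,0,1⟩,⟨0,0,1,0,0,0,0⟩,⟨0,0,0,1,0,0,2⟩,⟨0,0,0,0,1,0,1⟩,⟨0,0,0,0,0,1,1⟩,⟨0,0,0,0,0,0,1⟩⟩,
  ⟨⟨1,0,2,1,2,1,1⟩,⟨0,1,0,0,0,0,2⟩,⟨0,0,1,0,0,0,1⟩,⟨0,0,0,1,0,0,1⟩,⟨0,0,0,0,1,0,1⟩,⟨0,0,0,0,0,1,0⟩,⟨0,0,0,0,0,0,1⟩⟩,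
  ⟨⟨1,1,1,1,2,1,2⟩,⟨0,1,0,0,0,0,2⟩,⟨0,0,1,0,0,0,1⟩,⟨0,0,0,1,0,0,1⟩,⟨0,0,0,0,1,0,2⟩,⟨0,0,0,0,0,1,2⟩,⟨0,0,0,0,0,0,1⟩⟩,
  ⟨⟨1,2,0,1,2,1,0⟩,⟨0,1,0,0,0,0,2⟩,⟨0,0,1,0,0,0,1⟩,⟨0,0,0,1,0,0,1⟩,⟨0,0,0,0,1,0,0⟩,⟨0,0,0,0,0,1,1⟩,⟨0,0,0,0,0,0,1⟩⟩,
  ⟨⟨1,1,2,2,2,1,0⟩,⟨0,1,0,0,0,0,2⟩,⟨0,0,1,0,0,0,1⟩,⟨0,0,0,1,0,0,2⟩,⟨0,0,0,0,1,0,1⟩,⟨0,0,0,0,0,1,2⟩,⟨0,0,0,0,0,0,1⟩⟩,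
  ⟨⟨1,2,1,2,2,1,1⟩,⟨0,1,0,0,0,0,2⟩,⟨0,0,1,0,0,0,1⟩,⟨0,0,0,1,0,0,2⟩,⟨0,0,0,0,1,0,2⟩,⟨0,0,0,0,0,1,1⟩,⟨0,0,0,0,0,0,1⟩⟩,
  ⟨⟨1,2,2,0,2,1,0⟩,⟨0,1,0,0,0,0,2⟩,⟨0,0,1,0,0,0,1⟩,⟨0,0,0,1,0,0,0⟩,⟨0,0,0,0,1,0,1⟩,⟨0,0,0,0,0,1,1⟩,⟨0,0,0,0,0,0,1⟩⟩,
  ⟨⟨1,1,2,1,1,1,2⟩,⟨0,1,0,0,0,0,2⟩,⟨0,0,1,0,0,0,2⟩,⟨0,0,0,1,0,0,1⟩,⟨0,0,0,0,1,0,1⟩,⟨0,0,0,0,0,1,2⟩,⟨0,0,0,0,0,0,1⟩⟩,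
  ⟨⟨1,2,1,1,1,1,2⟩,⟨0,1,0,0,0,0,2⟩,⟨0,0,1,0,0,0,2⟩,⟨0,0,0,1,0,0,1⟩,⟨0,0,0,0,1,0,2⟩,⟨0,0,0,0,0,1,1⟩,⟨0,0,0,0,0,0,1⟩⟩,
  ⟨⟨1,2,2,2,1,1,1⟩,⟨0,1,0,0,0,0,2⟩,⟨0,0,1,0,0,0,2⟩,⟨0,0,0,1,0,0,2⟩,⟨0,0,0,0,1,0,1⟩,⟨0,0,0,0,0,1,1⟩,⟨0,0,0,0,0,0,1⟩⟩,
  ⟨⟨1,2,2,1,0,1,0⟩,⟨0,1,0,0,0,0,2⟩,⟨0,0,1,0,0,0,0⟩,⟨0,0,0,1,0,0,1⟩,⟨0,0,0,0,1,0,1⟩,⟨0,0,0,0,0,1,1⟩,⟨0,0,0,0,0,0,1⟩⟩,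
  ⟨⟨1,1,2,1,2,0,1⟩,⟨0,1,0,0,0,0,0⟩,⟨0,0,1,0,0,0,1⟩,⟨0,0,0,1,0,0,1⟩,⟨0,0,0,0,1,0,1⟩,⟨0,0,0,0,0,1,2⟩,⟨0,0,0,0,0,0,1⟩⟩,
  ⟨⟨1,2,1,1,2,0,0⟩,⟨0,1,0,0,0,0,0⟩,⟨0,0,1,0,0,0,1⟩,⟨0,0,0,1,0,0,1⟩,⟨0,0,0,0,1,0,2⟩,⟨0,0,0,0,0,1,1⟩,⟨0,0,0,0,0,0,1⟩⟩,
  ⟨⟨1,2,2,2,2,0,1⟩,⟨0,1,0,0,0,0,0⟩,⟨0,0,1,0,0,0,1⟩,⟨0,0,0,1,0,0,2⟩,⟨0,0,0,0,1,0,1⟩,⟨0,0,0,0,0,1,1⟩,⟨0,0,0,0,0,0,1⟩⟩,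
  ⟨⟨1,2,2,1,1,0,0⟩,⟨0,1,0,0,0,0,0⟩,⟨0,0,1,0,0,0,2⟩,⟨0,0,0,1,0,0,1⟩,⟨0,0,0,0,1,0,1⟩,⟨0,0,0,0,0,1,1⟩,⟨0,0,0,0,0,0,1⟩⟩,
  ⟨⟨1,0,2,1,2,2,1⟩,⟨0,1,0,0,0,0,1⟩,⟨0,0,1,0,0,0,1⟩,⟨0,0,0,1,0,0,1⟩,⟨0,0,0,0,1,0,1⟩,⟨0,0,0,0,0,1,0⟩,⟨0,0,0,0,0,0,1⟩⟩,
  ⟨⟨1,1,1,1,2,2,1⟩,⟨0,1,0,0,0,0,1⟩,⟨0,0,1,0,0,0,1⟩,⟨0,0,0,1,0,0,1⟩,⟨0,0,0,0,1,0,2⟩,⟨0,0,0,0,0,1,2⟩,⟨0,0,0,0,0,0,1⟩⟩,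
  ⟨⟨1,2,0,1,2,2,1⟩,⟨0,1,0,0,0,0,1⟩,⟨0,0,1,0,0,0,1⟩,⟨0,0,0,1,0,0,1⟩,⟨0,0,0,0,1,0,0⟩,⟨0,0,0,0,0,1,1⟩,⟨0,0,0,0,0,0,1⟩⟩,
  ⟨⟨1,1,2,2,2,2,2⟩,⟨0,1,0,0,0,0,1⟩,⟨0,0,1,0,0,0,1⟩,⟨0,0,0,1,0,0,2⟩,⟨0,0,0,0,1,0,1⟩,⟨0,0,0,0,0,1,2⟩,⟨0,0,0,0,0,0,1⟩⟩,
  ⟨⟨1,2,1,2,2,2,2⟩,⟨0,1,0,0,0,0,1⟩,⟨0,0,1,0,0,0,1⟩,⟨0,0,0,1,0,0,2⟩,⟨0,0,0,0,1,0,2⟩,⟨0,0,0,0,0,1,1⟩,⟨0,0,0,0,0,0,1⟩⟩,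
  ⟨⟨1,2,2,0,2,2,1⟩,⟨0,1,0,0,0,0,1⟩,⟨0,0,1,0,0,0,1⟩,⟨0,0,0,1,0,0,0⟩,⟨0,0,0,0,1,0,1⟩,⟨0,0,0,0,0,1,1⟩,⟨0,0,0,0,0,0,1⟩⟩,
  ⟨⟨1,1,2,1,1,2,1⟩,⟨0,1,0,0,0,0,1⟩,⟨0,0,1,0,0,0,2⟩,⟨0,0,0,1,0,0,1⟩,⟨0,0,0,0,1,0,1⟩,⟨0,0,0,0,0,1,2⟩,⟨0,0,0,0,0,0,1⟩⟩,
  ⟨⟨1,2,1,1,1,2,0⟩,⟨0,1,0,0,0,0,1⟩,⟨0,0,1,0,0,0,2⟩,⟨0,0,0,1,0,0,1⟩,⟨0,0,0,0,1,0,2⟩,⟨0,0,0,0,0,1,1⟩,⟨0,0,0,0,0,0,1⟩⟩,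
  ⟨⟨1,2,2,2,1,2,2⟩,⟨0,1,0,0,0,0,1⟩,⟨0,0,1,0,0,0,2⟩,⟨0,0,0,1,0,0,2⟩,⟨0,0,0,0,1,0,1⟩,⟨0,0,0,0,0,1,1⟩,⟨0,0,0,0,0,0,1⟩⟩,
  ⟨⟨1,2,2,1,0,2,1⟩,⟨0,1,0,0,0,0,1⟩,⟨0,0,1,0,0,0,0⟩,⟨0,0,0,1,0,0,1⟩,⟨0,0,0,0,1,0,1⟩,⟨0,0,0,0,0,1,1⟩,⟨0,0,0,0,0,0,1⟩⟩,
  ⟨⟨1,1,2,1,2,1,0⟩,⟨0,1,0,0,0,0,2⟩,⟨0,0,1,0,0,0,1⟩,⟨0,0,0,1,0,0,1⟩,⟨0,0,0,0,1,0,1⟩,⟨0,0,0,0,0,1,2⟩,⟨0,0,0,0,0,0,1⟩⟩,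
  ⟨⟨1,2,1,1,2,1,1⟩,⟨0,1,0,0,0,0,2⟩,⟨0,0,1,0,0,0,1⟩,⟨0,0,0,1,0,0,1⟩,⟨0,0,0,0,1,0,2⟩,⟨0,0,0,0,0,1,1⟩,⟨0,0,0,0,0,0,1⟩⟩,
  ⟨⟨1,2,2,2,2,1,2⟩,⟨0,1,0,0,0,0,2⟩,⟨0,0,1,0,0,0,1⟩,⟨0,0,0,1,0,0,2⟩,⟨0,0,0,0,1,0,1⟩,⟨0,0,0,0,0,1,1⟩,⟨0,0,0,0,0,0,1⟩⟩,
  ⟨⟨1,2,2,1,1,1,1⟩,⟨0,1,0,0,0,0,2⟩,⟨0,0,1,0,0,0,2⟩,⟨0,0,0,1,0,0,1⟩,⟨0,0,0,0,1,0,1⟩,⟨0,0,0,0,0,1,1⟩,⟨0,0,0,0,0,0,1⟩⟩,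
  ⟨⟨1,2,2,1,2,0,1⟩,⟨0,1,0,0,0,0,0⟩,⟨0,0,1,0,0,0,1⟩,⟨0,0,0,1,0,0,1⟩,⟨0,0,0,0,1,0,1⟩,⟨0,0,0,0,0,1,1⟩,⟨0,0,0,0,0,0,1⟩⟩,
  ⟨⟨1,1,2,1,2,2,2⟩,⟨0,1,0,0,0,0,1⟩,⟨0,0,1,0,0,0,1⟩,⟨0,0,0,1,0,0,1⟩,⟨0,0,0,0,1,0,1⟩,⟨0,0,0,0,0,1,2⟩,⟨0,0,0,0,0,0,1⟩⟩,
  ⟨⟨1,2,1,1,2,2,2⟩,⟨0,1,0,0,0,0,1⟩,⟨0,0,1,0,0,0,1⟩,⟨0,0,0,1,0,0,1⟩,⟨0,0,0,0,1,0,2⟩,⟨0,0,0,0,0,1,1⟩,⟨0,0,0,0,0,0,1⟩⟩,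
  ⟨⟨1,2,2,2,2,2,0⟩,⟨0,1,0,0,0,0,1⟩,⟨0,0,1,0,0,0,1⟩,⟨0,0,0,1,0,0,2⟩,⟨0,0,0,0,1,0,1⟩,⟨0,0,0,0,0,1,1⟩,⟨0,0,0,0,0,0,1⟩⟩,
  ⟨⟨1,2,2,1,1,2,2⟩,⟨0,1,0,0,0,0,1⟩,⟨0,0,1,0,0,0,2⟩,⟨0,0,0,1,0,0,1⟩,⟨0,0,0,0,1,0,1⟩,⟨0,0,0,0,0,1,1⟩,⟨0,0,0,0,0,0,1⟩⟩,
  ⟨⟨1,2,2,1,2,1,2⟩,⟨0,1,0,0,0,0,2⟩,⟨0,0,1,0,0,0,1⟩,⟨0,0,0,1,0,0,1⟩,⟨0,0,0,0,1,0,1⟩,⟨0,0,0,0,0,1,1⟩,⟨0,0,0,0,0,0,1⟩⟩,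
  ⟨⟨1,2,2,1,2,2,0⟩,⟨0,1,0,0,0,0,1⟩,⟨0,0,1,0,0,0,1⟩,⟨0,0,0,1,0,0,1⟩,⟨0,0,0,0,1,0,1⟩,⟨0,0,0,0,0,1,1⟩,⟨0,0,0,0,0,0,1⟩⟩]

def qWord : List (List ℕ) := [
  [],
  [0],
  [1],
  [2],
  [3],
  [4],
  [0,0],
  [0,1],
  [0,2],
  [0,3],
  [0,4],
  [1,1],
  [1,2],
  [1,3],
  [1,4],
  [2,2],
  [2,3],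
  [2,4],
  [3,3],
  [3,4],
  [4,4],
  [0,0,1],
  [0,0,2],
  [0,0,3],
  [0,0,4],
  [0,1,1],
  [0,1,2],
  [0,1,3],
  [0,1,4],
  [0,2,2],
  [0,2,3],
  [0,2,4],
  [0,3,3],
  [0,3,4],
  [0,4,4],
  [1,1,2],
  [1,1,3],
  [1,1,4],
  [1,2,2],
  [1,2,3],
  [1,2,4],
  [1,3,3],
  [1,3,4],
  [1,4,4],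
  [2,2,3],
  [2,2,4],
  [2,3,3],
  [2,3,4],
  [2,4,4],
  [3,3,4],
  [3,4,4],
  [0,0,1,1],
  [0,0,1,2],
  [0,0,1,3],
  [0,0,1,4],
  [0,0,2,2],
  [0,0,2,3],
  [0,0,2,4],
  [0,0,3,3],
  [0,0,3,4],
  [0,0,4,4],
  [0,1,1,2],
  [0,1,1,3],
  [0,1,1,4],
  [0,1,2,2],
  [0,1,2,3],
  [0,1,2,4],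
  [0,1,3,3],
  [0,1,3,4],
  [0,1,4,4],
  [0,2,2,3],
  [0,2,2,4],
  [0,2,3,3],
  [0,2,3,4],
  [0,2,4,4],
  [0,3,3,4],
  [0,3,4,4],
  [1,1,2,2],
  [1,1,2,3],
  [1,1,2,4],
  [1,1,3,3],
  [1,1,3,4],
  [1,1,4,4],
  [1,2,2,3],
  [1,2,2,4],
  [1,2,3,3],
  [1,2,3,4],
  [1,2,4,4],
  [1,3,3,4],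
  [1,3,4,4],
  [2,2,3,3],
  [2,2,3,4],
  [2,2,4,4],
  [2,3,3,4],
  [2,3,4,4],
  [3,3,4,4],
  [0,0,1,1,2],
  [0,0,1,1,3],
  [0,0,1,1,4],
  [0,0,1,2,2],
  [0,0,1,2,3],
  [0,0,1,2,4],
  [0,0,1,3,3],
  [0,0,1,3,4],
  [0,0,1,4,4],
  [0,0,2,2,3],
  [0,0,2,2,4],
  [0,0,2,3,3],
  [0,0,2,3,4],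
  [0,0,2,4,4],
  [0,0,3,3,4],
  [0,0,3,4,4],
  [0,1,1,2,2],
  [0,1,1,2,3],
  [0,1,1,2,4],
  [0,1,1,3,3],
  [0,1,1,3,4],
  [0,1,1,4,4],
  [0,1,2,2,3],
  [0,1,2,2,4],
  [0,1,2,3,3],
  [0,1,2,3,4],
  [0,1,2,4,4],
  [0,1,3,3,4],
  [0,1,3,4,4],
  [0,2,2,3,3],
  [0,2,2,3,4],
  [0,2,2,4,4],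
  [0,2,3,3,4],
  [0,2,3,4,4],
  [0,3,3,4,4],
  [1,1,2,2,3],
  [1,1,2,2,4],
  [1,1,2,3,3],
  [1,1,2,3,4],
  [1,1,2,4,4],
  [1,1,3,3,4],
  [1,1,3,4,4],
  [1,2,2,3,3],
  [1,2,2,3,4],
  [1,2,2,4,4],
  [1,2,3,3,4],
  [1,2,3,4,4],
  [1,3,3,4,4],
  [2,2,3,3,4],
  [2,2,3,4,4],
  [2,3,3,4,4],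
  [0,0,1,1,2,2],
  [0,0,1,1,2,3],
  [0,0,1,1,2,4],
  [0,0,1,1,3,3],
  [0,0,1,1,3,4],
  [0,0,1,1,4,4],
  [0,0,1,2,2,3],
  [0,0,1,2,2,4],
  [0,0,1,2,3,3],
  [0,0,1,2,3,4],
  [0,0,1,2,4,4],
  [0,0,1,3,3,4],
  [0,0,1,3,4,4],
  [0,0,2,2,3,3],
  [0,0,2,2,3,4],
  [0,0,2,2,4,4],
  [0,0,2,3,3,4],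
  [0,0,2,3,4,4],
  [0,0,3,3,4,4],
  [0,1,1,2,2,3],
  [0,1,1,2,2,4],
  [0,1,1,2,3,3],
  [0,1,1,2,3,4],
  [0,1,1,2,4,4],
  [0,1,1,3,3,4],
  [0,1,1,3,4,4],
  [0,1,2,2,3,3],
  [0,1,2,2,3,4],
  [0,1,2,2,4,4],
  [0,1,2,3,3,4],
  [0,1,2,3,4,4],
  [0,1,3,3,4,4],
  [0,2,2,3,3,4],
  [0,2,2,3,4,4],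
  [0,2,3,3,4,4],
  [1,1,2,2,3,3],
  [1,1,2,2,3,4],
  [1,1,2,2,4,4],
  [1,1,2,3,3,4],
  [1,1,2,3,4,4],
  [1,1,3,3,4,4],
  [1,2,2,3,3,4],
  [1,2,2,3,4,4],
  [1,2,3,3,4,4],
  [2,2,3,3,4,4],
  [0,0,1,1,2,2,3],
  [0,0,1,1,2,2,4],
  [0,0,1,1,2,3,3],
  [0,0,1,1,2,3,4],
  [0,0,1,1,2,4,4],
  [0,0,1,1,3,3,4],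
  [0,0,1,1,3,4,4],
  [0,0,1,2,2,3,3],
  [0,0,1,2,2,3,4],
  [0,0,1,2,2,4,4],
  [0,0,1,2,3,3,4],
  [0,0,1,2,3,4,4],
  [0,0,1,3,3,4,4],
  [0,0,2,2,3,3,4],
  [0,0,2,2,3,4,4],
  [0,0,2,3,3,4,4],
  [0,1,1,2,2,3,3],
  [0,1,1,2,2,3,4],
  [0,1,1,2,2,4,4],
  [0,1,1,2,3,3,4],
  [0,1,1,2,3,4,4],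
  [0,1,1,3,3,4,4],
  [0,1,2,2,3,3,4],
  [0,1,2,2,3,4,4],
  [0,1,2,3,3,4,4],
  [0,2,2,3,3,4,4],
  [1,1,2,2,3,3,4],
  [1,1,2,2,3,4,4],
  [1,1,2,3,3,4,4],
  [1,2,2,3,3,4,4],
  [0,0,1,1,2,2,3,3],
  [0,0,1,1,2,2,3,4],
  [0,0,1,1,2,2,4,4],
  [0,0,1,1,2,3,3,4],
  [0,0,1,1,2,3,4,4],
  [0,0,1,1,3,3,4,4],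
  [0,0,1,2,2,3,3,4],
  [0,0,1,2,2,3,4,4],
  [0,0,1,2,3,3,4,4],
  [0,0,2,2,3,3,4,4],
  [0,1,1,2,2,3,3,4],
  [0,1,1,2,2,3,4,4],
  [0,1,1,2,3,3,4,4],
  [0,1,2,2,3,3,4,4],
  [1,1,2,2,3,3,4,4],
  [0,0,1,1,2,2,3,3,4],
  [0,0,1,1,2,2,3,4,4],
  [0,0,1,1,2,3,3,4,4],
  [0,0,1,2,2,3,3,4,4],
  [0,1,1,2,2,3,3,4,4],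
  [0,0,1,1,2,2,3,3,4,4]]

def qNext : List (List ℕ) := [
  [1,2,3,4,5],
  [6,7,8,9,10],
  [7,11,12,13,14],
  [8,12,15,16,17],
  [9,13,16,18,19],
  [10,14,17,19,20],
  [0,21,22,23,24],
  [21,25,26,27,28],
  [22,26,29,30,31],
  [23,27,30,32,33],
  [24,28,31,33,34],
  [25,0,35,36,37],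
  [26,35,38,39,40],
  [27,36,39,41,42],
  [28,37,40,42,43],
  [29,38,0,44,45],
  [30,39,44,46,47],
  [31,40,45,47,48],
  [32,41,46,0,49],
  [33,42,47,49,50],
  [34,43,48,50,0],
  [2,51,52,53,54],
  [3,52,55,56,57],
  [4,53,56,58,59],
  [5,54,57,59,60],
  [51,1,61,62,63],
  [52,61,64,65,66],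
  [53,62,65,67,68],
  [54,63,66,68,69],
  [55,64,1,70,71],
  [56,65,70,72,73],
  [57,66,71,73,74],
  [58,67,72,1,75],
  [59,68,73,75,76],
  [60,69,74,76,1],
  [61,3,77,78,79],
  [62,4,78,80,81],
  [63,5,79,81,82],
  [64,77,2,83,84],
  [65,78,83,85,86],
  [66,79,84,86,87],
  [67,80,85,2,88],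
  [68,81,86,88,89],
  [69,82,87,89,2],
  [70,83,4,90,91],
  [71,84,5,91,92],
  [72,85,90,3,93],
  [73,86,91,93,94],
  [74,87,92,94,3],
  [75,88,93,5,95],
  [76,89,94,95,4],
  [11,6,96,97,98],
  [12,96,99,100,101],
  [13,97,100,102,103],
  [14,98,101,103,104],
  [15,99,6,105,106],
  [16,100,105,107,108],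
  [17,101,106,108,109],
  [18,102,107,6,110],
  [19,103,108,110,111],
  [20,104,109,111,6],
  [96,8,112,113,114],
  [97,9,113,115,116],
  [98,10,114,116,117],
  [99,112,7,118,119],
  [100,113,118,120,121],
  [101,114,119,121,122],
  [102,115,120,7,123],
  [103,116,121,123,124],
  [104,117,122,124,7],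
  [105,118,9,125,126],
  [106,119,10,126,127],
  [107,120,125,8,128],
  [108,121,126,128,129],
  [109,122,127,129,8],
  [110,123,128,10,130],
  [111,124,129,130,9],
  [112,15,11,131,132],
  [113,16,131,133,134],
  [114,17,132,134,135],
  [115,18,133,11,136],
  [116,19,134,136,137],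
  [117,20,135,137,11],
  [118,131,13,138,139],
  [119,132,14,139,140],
  [120,133,138,12,141],
  [121,134,139,141,142],
  [122,135,140,142,12],
  [123,136,141,14,143],
  [124,137,142,143,13],
  [125,138,18,15,144],
  [126,139,19,144,145],
  [127,140,20,145,15],
  [128,141,144,17,146],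
  [129,142,145,146,16],
  [130,143,146,20,18],
  [35,22,147,148,149],
  [36,23,148,150,151],
  [37,24,149,151,152],
  [38,147,21,153,154],
  [39,148,153,155,156],
  [40,149,154,156,157],
  [41,150,155,21,158],
  [42,151,156,158,159],
  [43,152,157,159,21],
  [44,153,23,160,161],
  [45,154,24,161,162],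
  [46,155,160,22,163],
  [47,156,161,163,164],
  [48,157,162,164,22],
  [49,158,163,24,165],
  [50,159,164,165,23],
  [147,29,25,166,167],
  [148,30,166,168,169],
  [149,31,167,169,170],
  [150,32,168,25,171],
  [151,33,169,171,172],
  [152,34,170,172,25],
  [153,166,27,173,174],
  [154,167,28,174,175],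
  [155,168,173,26,176],
  [156,169,174,176,177],
  [157,170,175,177,26],
  [158,171,176,28,178],
  [159,172,177,178,27],
  [160,173,32,29,179],
  [161,174,33,179,180],
  [162,175,34,180,29],
  [163,176,179,31,181],
  [164,177,180,181,30],
  [165,178,181,34,32],
  [166,44,36,182,183],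
  [167,45,37,183,184],
  [168,46,182,35,185],
  [169,47,183,185,186],
  [170,48,184,186,35],
  [171,49,185,37,187],
  [172,50,186,187,36],
  [173,182,41,38,188],
  [174,183,42,188,189],
  [175,184,43,189,38],
  [176,185,188,40,190],
  [177,186,189,190,39],
  [178,187,190,43,41],
  [179,188,49,45,191],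
  [180,189,50,191,44],
  [181,190,191,48,46],
  [77,55,51,192,193],
  [78,56,192,194,195],
  [79,57,193,195,196],
  [80,58,194,51,197],
  [81,59,195,197,198],
  [82,60,196,198,51],
  [83,192,53,199,200],
  [84,193,54,200,201],
  [85,194,199,52,202],
  [86,195,200,202,203],
  [87,196,201,203,52],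
  [88,197,202,54,204],
  [89,198,203,204,53],
  [90,199,58,55,205],
  [91,200,59,205,206],
  [92,201,60,206,55],
  [93,202,205,57,207],
  [94,203,206,207,56],
  [95,204,207,60,58],
  [192,70,62,208,209],
  [193,71,63,209,210],
  [194,72,208,61,211],
  [195,73,209,211,212],
  [196,74,210,212,61],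
  [197,75,211,63,213],
  [198,76,212,213,62],
  [199,208,67,64,214],
  [200,209,68,214,215],
  [201,210,69,215,64],
  [202,211,214,66,216],
  [203,212,215,216,65],
  [204,213,216,69,67],
  [205,214,75,71,217],
  [206,215,76,217,70],
  [207,216,217,74,72],
  [208,90,80,77,218],
  [209,91,81,218,219],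
  [210,92,82,219,77],
  [211,93,218,79,220],
  [212,94,219,220,78],
  [213,95,220,82,80],
  [214,218,88,84,221],
  [215,219,89,221,83],
  [216,220,221,87,85],
  [217,221,95,92,90],
  [131,105,97,222,223],
  [132,106,98,223,224],
  [133,107,222,96,225],
  [134,108,223,225,226],
  [135,109,224,226,96],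
  [136,110,225,98,227],
  [137,111,226,227,97],
  [138,222,102,99,228],
  [139,223,103,228,229],
  [140,224,104,229,99],
  [141,225,228,101,230],
  [142,226,229,230,100],
  [143,227,230,104,102],
  [144,228,110,106,231],
  [145,229,111,231,105],
  [146,230,231,109,107],
  [222,125,115,112,232],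
  [223,126,116,232,233],
  [224,127,117,233,112],
  [225,128,232,114,234],
  [226,129,233,234,113],
  [227,130,234,117,115],
  [228,232,123,119,235],
  [229,233,124,235,118],
  [230,234,235,122,120],
  [231,235,130,127,125],
  [232,144,136,132,236],
  [233,145,137,236,131],
  [234,146,236,135,133],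
  [235,236,143,140,138],
  [182,160,150,147,237],
  [183,161,151,237,238],
  [184,162,152,238,147],
  [185,163,237,149,239],
  [186,164,238,239,148],
  [187,165,239,152,150],
  [188,237,158,154,240],
  [189,238,159,240,153],
  [190,239,240,157,155],
  [191,240,165,162,160],
  [237,179,171,167,241],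
  [238,180,172,241,166],
  [239,181,241,170,168],
  [240,241,178,175,173],
  [241,191,187,184,182],
  [218,205,197,193,242],
  [219,206,198,242,192],
  [220,207,242,196,194],
  [221,242,204,201,199],
  [242,217,213,210,208],
  [236,231,227,224,222]]

def uTab : List M7 := [
  ⟨⟨1,0,0,0,0,0,0⟩,⟨0,1,0,0,0,0,0⟩,⟨0,0,1,0,0,0,0⟩,⟨0,0,0,1,0,0,0⟩,⟨0,0,0,0,1,0,0⟩,⟨0,0,0,0,0,1,0⟩,⟨0,0,0,0,0,0,1⟩⟩,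
  ⟨⟨1,0,0,0,0,0,0⟩,⟨0,1,1,0,0,0,0⟩,⟨0,0,1,0,0,0,0⟩,⟨0,0,0,1,0,0,0⟩,⟨0,0,0,0,1,2,0⟩,⟨0,0,0,0,0,1,0⟩,⟨0,0,0,0,0,0,1⟩⟩,
  ⟨⟨1,0,0,0,0,0,0⟩,⟨0,1,0,0,0,0,0⟩,⟨0,0,1,2,2,0,0⟩,⟨0,0,0,1,2,0,0⟩,⟨0,0,0,0,1,0,0⟩,⟨0,0,0,0,0,1,0⟩,⟨0,0,0,0,0,0,1⟩⟩,
  ⟨⟨1,0,0,0,0,0,0⟩,⟨0,1,2,0,0,0,0⟩,⟨0,0,1,0,0,0,0⟩,⟨0,0,0,1,0,0,0⟩,⟨0,0,0,0,1,1,0⟩,⟨0,0,0,0,0,1,0⟩,⟨0,0,0,0,0,0,1⟩⟩,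
  ⟨⟨1,0,0,0,0,0,0⟩,⟨0,1,1,2,2,0,0⟩,⟨0,0,1,2,2,0,0⟩,⟨0,0,0,1,2,0,0⟩,⟨0,0,0,0,1,2,0⟩,⟨0,0,0,0,0,1,0⟩,⟨0,0,0,0,0,0,1⟩⟩,
  ⟨⟨1,0,0,0,0,0,0⟩,⟨0,1,1,0,0,0,0⟩,⟨0,0,1,2,2,1,0⟩,⟨0,0,0,1,2,1,0⟩,⟨0,0,0,0,1,2,0⟩,⟨0,0,0,0,0,1,0⟩,⟨0,0,0,0,0,0,1⟩⟩,
  ⟨⟨1,0,0,0,0,0,0⟩,⟨0,1,0,0,0,0,0⟩,⟨0,0,1,1,2,0,0⟩,⟨0,0,0,1,1,0,0⟩,⟨0,0,0,0,1,0,0⟩,⟨0,0,0,0,0,1,0⟩,⟨0,0,0,0,0,0,1⟩⟩,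
  ⟨⟨1,0,0,0,0,0,0⟩,⟨0,1,2,1,1,0,0⟩,⟨0,0,1,2,2,0,0⟩,⟨0,0,0,1,2,0,0⟩,⟨0,0,0,0,1,1,0⟩,⟨0,0,0,0,0,1,0⟩,⟨0,0,0,0,0,0,1⟩⟩,
  ⟨⟨1,0,0,0,0,0,0⟩,⟨0,1,2,2,2,1,0⟩,⟨0,0,1,2,2,1,0⟩,⟨0,0,0,1,2,1,0⟩,⟨0,0,0,0,1,1,0⟩,⟨0,0,0,0,0,1,0⟩,⟨0,0,0,0,0,0,1⟩⟩,
  ⟨⟨1,0,0,0,0,0,0⟩,⟨0,1,1,1,2,0,0⟩,⟨0,0,1,1,2,0,0⟩,⟨0,0,0,1,1,0,0⟩,⟨0,0,0,0,1,2,0⟩,⟨0,0,0,0,0,1,0⟩,⟨0,0,0,0,0,0,1⟩⟩,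
  ⟨⟨1,0,0,0,0,0,0⟩,⟨0,1,2,0,0,0,0⟩,⟨0,0,1,2,2,2,0⟩,⟨0,0,0,1,2,2,0⟩,⟨0,0,0,0,1,1,0⟩,⟨0,0,0,0,0,1,0⟩,⟨0,0,0,0,0,0,1⟩⟩,
  ⟨⟨1,0,0,0,0,0,0⟩,⟨0,1,1,2,2,0,0⟩,⟨0,0,1,1,2,1,0⟩,⟨0,0,0,1,1,1,0⟩,⟨0,0,0,0,1,2,0⟩,⟨0,0,0,0,0,1,0⟩,⟨0,0,0,0,0,0,1⟩⟩,
  ⟨⟨1,0,0,0,0,0,0⟩,⟨0,1,1,0,0,0,0⟩,⟨0,0,1,1,2,1,0⟩,⟨0,0,0,1,1,2,0⟩,⟨0,0,0,0,1,2,0⟩,⟨0,0,0,0,0,1,0⟩,⟨0,0,0,0,0,0,1⟩⟩,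
  ⟨⟨1,0,0,0,0,0,0⟩,⟨0,1,0,1,1,2,0⟩,⟨0,0,1,2,2,1,0⟩,⟨0,0,0,1,2,1,0⟩,⟨0,0,0,0,1,0,0⟩,⟨0,0,0,0,0,1,0⟩,⟨0,0,0,0,0,0,1⟩⟩,
  ⟨⟨1,0,0,0,0,0,0⟩,⟨0,1,2,2,1,0,0⟩,⟨0,0,1,1,2,0,0⟩,⟨0,0,0,1,1,0,0⟩,⟨0,0,0,0,1,1,0⟩,⟨0,0,0,0,0,1,0⟩,⟨0,0,0,0,0,0,1⟩⟩,
  ⟨⟨1,0,0,0,0,0,0⟩,⟨0,1,0,2,2,2,0⟩,⟨0,0,1,2,2,2,0⟩,⟨0,0,0,1,2,2,0⟩,⟨0,0,0,0,1,0,0⟩,⟨0,0,0,0,0,1,0⟩,⟨0,0,0,0,0,0,1⟩⟩,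
  ⟨⟨1,0,0,0,0,0,0⟩,⟨0,1,2,0,1,1,0⟩,⟨0,0,1,1,2,1,0⟩,⟨0,0,0,1,1,1,0⟩,⟨0,0,0,0,1,1,0⟩,⟨0,0,0,0,0,1,0⟩,⟨0,0,0,0,0,0,1⟩⟩,
  ⟨⟨1,0,0,0,0,0,0⟩,⟨0,1,2,1,2,1,0⟩,⟨0,0,1,1,2,1,0⟩,⟨0,0,0,1,1,2,0⟩,⟨0,0,0,0,1,1,0⟩,⟨0,0,0,0,0,1,0⟩,⟨0,0,0,0,0,0,1⟩⟩,
  ⟨⟨1,0,0,0,0,0,0⟩,⟨0,1,2,1,1,0,0⟩,⟨0,0,1,1,2,2,0⟩,⟨0,0,0,1,1,2,0⟩,⟨0,0,0,0,1,1,0⟩,⟨0,0,0,0,0,1,0⟩,⟨0,0,0,0,0,0,1⟩⟩,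
  ⟨⟨1,0,0,0,0,0,0⟩,⟨0,1,2,2,2,1,0⟩,⟨0,0,1,1,2,2,0⟩,⟨0,0,0,1,1,0,0⟩,⟨0,0,0,0,1,1,0⟩,⟨0,0,0,0,0,1,0⟩,⟨0,0,0,0,0,0,1⟩⟩,
  ⟨⟨1,0,0,0,0,0,0⟩,⟨0,1,1,1,2,0,0⟩,⟨0,0,1,0,0,1,0⟩,⟨0,0,0,1,0,1,0⟩,⟨0,0,0,0,1,2,0⟩,⟨0,0,0,0,0,1,0⟩,⟨0,0,0,0,0,0,1⟩⟩,
  ⟨⟨1,0,0,0,0,0,0⟩,⟨0,1,2,0,0,0,0⟩,⟨0,0,1,1,2,2,0⟩,⟨0,0,0,1,1,1,0⟩,⟨0,0,0,0,1,1,0⟩,⟨0,0,0,0,0,1,0⟩,⟨0,0,0,0,0,0,1⟩⟩,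
  ⟨⟨1,0,0,0,0,0,0⟩,⟨0,1,1,2,2,0,0⟩,⟨0,0,1,0,0,1,0⟩,⟨0,0,0,1,0,2,0⟩,⟨0,0,0,0,1,2,0⟩,⟨0,0,0,0,0,1,0⟩,⟨0,0,0,0,0,0,1⟩⟩,
  ⟨⟨1,0,0,0,0,0,0⟩,⟨0,1,1,1,1,1,0⟩,⟨0,0,1,2,2,2,0⟩,⟨0,0,0,1,2,2,0⟩,⟨0,0,0,0,1,2,0⟩,⟨0,0,0,0,0,1,0⟩,⟨0,0,0,0,0,0,1⟩⟩,
  ⟨⟨1,0,0,0,0,0,0⟩,⟨0,1,0,1,0,2,0⟩,⟨0,0,1,1,2,1,0⟩,⟨0,0,0,1,1,1,0⟩,⟨0,0,0,0,1,0,0⟩,⟨0,0,0,0,0,1,0⟩,⟨0,0,0,0,0,0,1⟩⟩,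
  ⟨⟨1,0,0,0,0,0,0⟩,⟨0,1,0,2,1,2,0⟩,⟨0,0,1,1,2,1,0⟩,⟨0,0,0,1,1,2,0⟩,⟨0,0,0,0,1,0,0⟩,⟨0,0,0,0,0,1,0⟩,⟨0,0,0,0,0,0,1⟩⟩,
  ⟨⟨1,0,0,0,0,0,0⟩,⟨0,1,0,2,0,2,0⟩,⟨0,0,1,1,2,2,0⟩,⟨0,0,0,1,1,2,0⟩,⟨0,0,0,0,1,0,0⟩,⟨0,0,0,0,0,1,0⟩,⟨0,0,0,0,0,0,1⟩⟩,
  ⟨⟨1,0,0,0,0,0,0⟩,⟨0,1,0,0,1,0,0⟩,⟨0,0,1,1,2,2,0⟩,⟨0,0,0,1,1,0,0⟩,⟨0,0,0,0,1,0,0⟩,⟨0,0,0,0,0,1,0⟩,⟨0,0,0,0,0,0,1⟩⟩,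
  ⟨⟨1,0,0,0,0,0,0⟩,⟨0,1,2,1,2,1,0⟩,⟨0,0,1,0,0,1,0⟩,⟨0,0,0,1,0,1,0⟩,⟨0,0,0,0,1,1,0⟩,⟨0,0,0,0,0,1,0⟩,⟨0,0,0,0,0,0,1⟩⟩,
  ⟨⟨1,0,0,0,0,0,0⟩,⟨0,1,0,1,2,2,0⟩,⟨0,0,1,1,2,2,0⟩,⟨0,0,0,1,1,1,0⟩,⟨0,0,0,0,1,0,0⟩,⟨0,0,0,0,0,1,0⟩,⟨0,0,0,0,0,0,1⟩⟩,
  ⟨⟨1,0,0,0,0,0,0⟩,⟨0,1,2,2,2,1,0⟩,⟨0,0,1,0,0,1,0⟩,⟨0,0,0,1,0,2,0⟩,⟨0,0,0,0,1,1,0⟩,⟨0,0,0,0,0,1,0⟩,⟨0,0,0,0,0,0,1⟩⟩,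
  ⟨⟨1,0,0,0,0,0,0⟩,⟨0,1,0,1,1,2,0⟩,⟨0,0,1,1,2,0,0⟩,⟨0,0,0,1,1,1,0⟩,⟨0,0,0,0,1,0,0⟩,⟨0,0,0,0,0,1,0⟩,⟨0,0,0,0,0,0,1⟩⟩,
  ⟨⟨1,0,0,0,0,0,0⟩,⟨0,1,2,2,1,0,0⟩,⟨0,0,1,0,0,2,0⟩,⟨0,0,0,1,0,2,0⟩,⟨0,0,0,0,1,1,0⟩,⟨0,0,0,0,0,1,0⟩,⟨0,0,0,0,0,0,1⟩⟩,
  ⟨⟨1,0,0,0,0,0,0⟩,⟨0,1,0,2,2,2,0⟩,⟨0,0,1,1,2,0,0⟩,⟨0,0,0,1,1,2,0⟩,⟨0,0,0,0,1,0,0⟩,⟨0,0,0,0,0,1,0⟩,⟨0,0,0,0,0,0,1⟩⟩,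
  ⟨⟨1,0,0,0,0,0,0⟩,⟨0,1,2,0,1,1,0⟩,⟨0,0,1,0,0,2,0⟩,⟨0,0,0,1,0,0,0⟩,⟨0,0,0,0,1,1,0⟩,⟨0,0,0,0,0,1,0⟩,⟨0,0,0,0,0,0,1⟩⟩,
  ⟨⟨1,0,0,0,0,0,0⟩,⟨0,1,2,1,1,0,0⟩,⟨0,0,1,0,0,2,0⟩,⟨0,0,0,1,0,1,0⟩,⟨0,0,0,0,1,1,0⟩,⟨0,0,0,0,0,1,0⟩,⟨0,0,0,0,0,0,1⟩⟩,
  ⟨⟨1,0,0,0,0,0,0⟩,⟨0,1,1,1,2,0,0⟩,⟨0,0,1,2,2,1,0⟩,⟨0,0,0,1,2,2,0⟩,⟨0,0,0,0,1,2,0⟩,⟨0,0,0,0,0,1,0⟩,⟨0,0,0,0,0,0,1⟩⟩,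
  ⟨⟨1,0,0,0,0,0,0⟩,⟨0,1,1,0,2,1,0⟩,⟨0,0,1,1,2,2,0⟩,⟨0,0,0,1,1,2,0⟩,⟨0,0,0,0,1,2,0⟩,⟨0,0,0,0,0,1,0⟩,⟨0,0,0,0,0,0,1⟩⟩,
  ⟨⟨1,0,0,0,0,0,0⟩,⟨0,1,1,1,0,2,0⟩,⟨0,0,1,1,2,2,0⟩,⟨0,0,0,1,1,0,0⟩,⟨0,0,0,0,1,2,0⟩,⟨0,0,0,0,0,1,0⟩,⟨0,0,0,0,0,0,1⟩⟩,
  ⟨⟨1,0,0,0,0,0,0⟩,⟨0,1,0,1,2,2,0⟩,⟨0,0,1,0,0,1,0⟩,⟨0,0,0,1,0,1,0⟩,⟨0,0,0,0,1,0,0⟩,⟨0,0,0,0,0,1,0⟩,⟨0,0,0,0,0,0,1⟩⟩,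
  ⟨⟨1,0,0,0,0,0,0⟩,⟨0,1,1,2,1,1,0⟩,⟨0,0,1,1,2,2,0⟩,⟨0,0,0,1,1,1,0⟩,⟨0,0,0,0,1,2,0⟩,⟨0,0,0,0,0,1,0⟩,⟨0,0,0,0,0,0,1⟩⟩,
  ⟨⟨1,0,0,0,0,0,0⟩,⟨0,1,0,2,2,2,0⟩,⟨0,0,1,0,0,1,0⟩,⟨0,0,0,1,0,2,0⟩,⟨0,0,0,0,1,0,0⟩,⟨0,0,0,0,0,1,0⟩,⟨0,0,0,0,0,0,1⟩⟩,
  ⟨⟨1,0,0,0,0,0,0⟩,⟨0,1,1,2,0,2,0⟩,⟨0,0,1,1,2,0,0⟩,⟨0,0,0,1,1,1,0⟩,⟨0,0,0,0,1,2,0⟩,⟨0,0,0,0,0,1,0⟩,⟨0,0,0,0,0,0,1⟩⟩,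
  ⟨⟨1,0,0,0,0,0,0⟩,⟨0,1,0,2,1,2,0⟩,⟨0,0,1,0,0,2,0⟩,⟨0,0,0,1,0,2,0⟩,⟨0,0,0,0,1,0,0⟩,⟨0,0,0,0,0,1,0⟩,⟨0,0,0,0,0,0,1⟩⟩,
  ⟨⟨1,0,0,0,0,0,0⟩,⟨0,1,1,0,1,2,0⟩,⟨0,0,1,1,2,0,0⟩,⟨0,0,0,1,1,2,0⟩,⟨0,0,0,0,1,2,0⟩,⟨0,0,0,0,0,1,0⟩,⟨0,0,0,0,0,0,1⟩⟩,
  ⟨⟨1,0,0,0,0,0,0⟩,⟨0,1,0,0,1,0,0⟩,⟨0,0,1,0,0,2,0⟩,⟨0,0,0,1,0,0,0⟩,⟨0,0,0,0,1,0,0⟩,⟨0,0,0,0,0,1,0⟩,⟨0,0,0,0,0,0,1⟩⟩,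
  ⟨⟨1,0,0,0,0,0,0⟩,⟨0,1,0,1,1,2,0⟩,⟨0,0,1,0,0,2,0⟩,⟨0,0,0,1,0,1,0⟩,⟨0,0,0,0,1,0,0⟩,⟨0,0,0,0,0,1,0⟩,⟨0,0,0,0,0,0,1⟩⟩,
  ⟨⟨1,0,0,0,0,0,0⟩,⟨0,1,2,0,1,1,0⟩,⟨0,0,1,2,2,1,0⟩,⟨0,0,0,1,2,2,0⟩,⟨0,0,0,0,1,1,0⟩,⟨0,0,0,0,0,1,0⟩,⟨0,0,0,0,0,0,1⟩⟩,
  ⟨⟨1,0,0,0,0,0,0⟩,⟨0,1,1,1,1,1,0⟩,⟨0,0,1,1,2,1,0⟩,⟨0,0,0,1,1,0,0⟩,⟨0,0,0,0,1,2,0⟩,⟨0,0,0,0,0,1,0⟩,⟨0,0,0,0,0,0,1⟩⟩,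
  ⟨⟨1,0,0,0,0,0,0⟩,⟨0,1,0,1,0,2,0⟩,⟨0,0,1,0,0,0,0⟩,⟨0,0,0,1,0,1,0⟩,⟨0,0,0,0,1,0,0⟩,⟨0,0,0,0,0,1,0⟩,⟨0,0,0,0,0,0,1⟩⟩,
  ⟨⟨1,0,0,0,0,0,0⟩,⟨0,1,0,2,0,2,0⟩,⟨0,0,1,0,0,0,0⟩,⟨0,0,0,1,0,2,0⟩,⟨0,0,0,0,1,0,0⟩,⟨0,0,0,0,0,1,0⟩,⟨0,0,0,0,0,0,1⟩⟩,
  ⟨⟨1,0,0,0,0,0,0⟩,⟨0,1,2,1,2,1,0⟩,⟨0,0,1,2,2,2,0⟩,⟨0,0,0,1,2,0,0⟩,⟨0,0,0,0,1,1,0⟩,⟨0,0,0,0,0,1,0⟩,⟨0,0,0,0,0,0,1⟩⟩,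
  ⟨⟨1,0,0,0,0,0,0⟩,⟨0,1,2,2,1,0,0⟩,⟨0,0,1,2,2,2,0⟩,⟨0,0,0,1,2,1,0⟩,⟨0,0,0,0,1,1,0⟩,⟨0,0,0,0,0,1,0⟩,⟨0,0,0,0,0,0,1⟩⟩,
  ⟨⟨1,0,0,0,0,0,0⟩,⟨0,1,2,0,2,2,0⟩,⟨0,0,1,1,2,0,0⟩,⟨0,0,0,1,1,1,0⟩,⟨0,0,0,0,1,1,0⟩,⟨0,0,0,0,0,1,0⟩,⟨0,0,0,0,0,0,1⟩⟩,
  ⟨⟨1,0,0,0,0,0,0⟩,⟨0,1,1,2,1,1,0⟩,⟨0,0,1,0,0,2,0⟩,⟨0,0,0,1,0,2,0⟩,⟨0,0,0,0,1,2,0⟩,⟨0,0,0,0,0,1,0⟩,⟨0,0,0,0,0,0,1⟩⟩,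
  ⟨⟨1,0,0,0,0,0,0⟩,⟨0,1,2,1,0,2,0⟩,⟨0,0,1,1,2,0,0⟩,⟨0,0,0,1,1,2,0⟩,⟨0,0,0,0,1,1,0⟩,⟨0,0,0,0,0,1,0⟩,⟨0,0,0,0,0,0,1⟩⟩,
  ⟨⟨1,0,0,0,0,0,0⟩,⟨0,1,1,0,1,2,0⟩,⟨0,0,1,0,0,2,0⟩,⟨0,0,0,1,0,0,0⟩,⟨0,0,0,0,1,2,0⟩,⟨0,0,0,0,0,1,0⟩,⟨0,0,0,0,0,0,1⟩⟩,
  ⟨⟨1,0,0,0,0,0,0⟩,⟨0,1,1,1,1,1,0⟩,⟨0,0,1,0,0,2,0⟩,⟨0,0,0,1,0,1,0⟩,⟨0,0,0,0,1,2,0⟩,⟨0,0,0,0,0,1,0⟩,⟨0,0,0,0,0,0,1⟩⟩,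
  ⟨⟨1,0,0,0,0,0,0⟩,⟨0,1,0,2,0,2,0⟩,⟨0,0,1,2,2,1,0⟩,⟨0,0,0,1,2,2,0⟩,⟨0,0,0,0,1,0,0⟩,⟨0,0,0,0,0,1,0⟩,⟨0,0,0,0,0,0,1⟩⟩,
  ⟨⟨1,0,0,0,0,0,0⟩,⟨0,1,2,2,0,2,0⟩,⟨0,0,1,1,2,1,0⟩,⟨0,0,0,1,1,0,0⟩,⟨0,0,0,0,1,1,0⟩,⟨0,0,0,0,0,1,0⟩,⟨0,0,0,0,0,0,1⟩⟩,
  ⟨⟨1,0,0,0,0,0,0⟩,⟨0,1,1,1,0,2,0⟩,⟨0,0,1,0,0,0,0⟩,⟨0,0,0,1,0,1,0⟩,⟨0,0,0,0,1,2,0⟩,⟨0,0,0,0,0,1,0⟩,⟨0,0,0,0,0,0,1⟩⟩,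
  ⟨⟨1,0,0,0,0,0,0⟩,⟨0,1,1,2,0,2,0⟩,⟨0,0,1,0,0,0,0⟩,⟨0,0,0,1,0,2,0⟩,⟨0,0,0,0,1,2,0⟩,⟨0,0,0,0,0,1,0⟩,⟨0,0,0,0,0,0,1⟩⟩,
  ⟨⟨1,0,0,0,0,0,0⟩,⟨0,1,0,0,1,0,0⟩,⟨0,0,1,2,2,2,0⟩,⟨0,0,0,1,2,0,0⟩,⟨0,0,0,0,1,0,0⟩,⟨0,0,0,0,0,1,0⟩,⟨0,0,0,0,0,0,1⟩⟩,
  ⟨⟨1,0,0,0,0,0,0⟩,⟨0,1,0,1,0,2,0⟩,⟨0,0,1,2,2,2,0⟩,⟨0,0,0,1,2,1,0⟩,⟨0,0,0,0,1,0,0⟩,⟨0,0,0,0,0,1,0⟩,⟨0,0,0,0,0,0,1⟩⟩,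
  ⟨⟨1,0,0,0,0,0,0⟩,⟨0,1,1,0,2,1,0⟩,⟨0,0,1,0,0,1,0⟩,⟨0,0,0,1,0,0,0⟩,⟨0,0,0,0,1,2,0⟩,⟨0,0,0,0,0,1,0⟩,⟨0,0,0,0,0,0,1⟩⟩,
  ⟨⟨1,0,0,0,0,0,0⟩,⟨0,1,0,1,2,2,0⟩,⟨0,0,1,2,2,0,0⟩,⟨0,0,0,1,2,1,0⟩,⟨0,0,0,0,1,0,0⟩,⟨0,0,0,0,0,1,0⟩,⟨0,0,0,0,0,0,1⟩⟩,
  ⟨⟨1,0,0,0,0,0,0⟩,⟨0,1,0,2,1,2,0⟩,⟨0,0,1,2,2,0,0⟩,⟨0,0,0,1,2,2,0⟩,⟨0,0,0,0,1,0,0⟩,⟨0,0,0,0,0,1,0⟩,⟨0,0,0,0,0,0,1⟩⟩,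
  ⟨⟨1,0,0,0,0,0,0⟩,⟨0,1,0,0,2,0,0⟩,⟨0,0,1,1,2,1,0⟩,⟨0,0,0,1,1,0,0⟩,⟨0,0,0,0,1,0,0⟩,⟨0,0,0,0,0,1,0⟩,⟨0,0,0,0,0,0,1⟩⟩,
  ⟨⟨1,0,0,0,0,0,0⟩,⟨0,1,2,1,0,2,0⟩,⟨0,0,1,0,0,0,0⟩,⟨0,0,0,1,0,1,0⟩,⟨0,0,0,0,1,1,0⟩,⟨0,0,0,0,0,1,0⟩,⟨0,0,0,0,0,0,1⟩⟩,
  ⟨⟨1,0,0,0,0,0,0⟩,⟨0,1,2,2,0,2,0⟩,⟨0,0,1,0,0,0,0⟩,⟨0,0,0,1,0,2,0⟩,⟨0,0,0,0,1,1,0⟩,⟨0,0,0,0,0,1,0⟩,⟨0,0,0,0,0,0,1⟩⟩,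
  ⟨⟨1,0,0,0,0,0,0⟩,⟨0,1,1,2,0,2,0⟩,⟨0,0,1,2,2,2,0⟩,⟨0,0,0,1,2,0,0⟩,⟨0,0,0,0,1,2,0⟩,⟨0,0,0,0,0,1,0⟩,⟨0,0,0,0,0,0,1⟩⟩,
  ⟨⟨1,0,0,0,0,0,0⟩,⟨0,1,1,0,2,1,0⟩,⟨0,0,1,2,2,2,0⟩,⟨0,0,0,1,2,1,0⟩,⟨0,0,0,0,1,2,0⟩,⟨0,0,0,0,0,1,0⟩,⟨0,0,0,0,0,0,1⟩⟩,
  ⟨⟨1,0,0,0,0,0,0⟩,⟨0,1,2,0,2,2,0⟩,⟨0,0,1,0,0,1,0⟩,⟨0,0,0,1,0,0,0⟩,⟨0,0,0,0,1,1,0⟩,⟨0,0,0,0,0,1,0⟩,⟨0,0,0,0,0,0,1⟩⟩,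
  ⟨⟨1,0,0,0,0,0,0⟩,⟨0,1,1,0,1,2,0⟩,⟨0,0,1,2,2,0,0⟩,⟨0,0,0,1,2,1,0⟩,⟨0,0,0,0,1,2,0⟩,⟨0,0,0,0,0,1,0⟩,⟨0,0,0,0,0,0,1⟩⟩,
  ⟨⟨1,0,0,0,0,0,0⟩,⟨0,1,1,1,0,2,0⟩,⟨0,0,1,2,2,0,0⟩,⟨0,0,0,1,2,2,0⟩,⟨0,0,0,0,1,2,0⟩,⟨0,0,0,0,0,1,0⟩,⟨0,0,0,0,0,0,1⟩⟩,
  ⟨⟨1,0,0,0,0,0,0⟩,⟨0,1,1,2,1,1,0⟩,⟨0,0,1,2,2,1,0⟩,⟨0,0,0,1,2,0,0⟩,⟨0,0,0,0,1,2,0⟩,⟨0,0,0,0,0,1,0⟩,⟨0,0,0,0,0,0,1⟩⟩,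
  ⟨⟨1,0,0,0,0,0,0⟩,⟨0,1,0,0,2,0,0⟩,⟨0,0,1,0,0,1,0⟩,⟨0,0,0,1,0,0,0⟩,⟨0,0,0,0,1,0,0⟩,⟨0,0,0,0,0,1,0⟩,⟨0,0,0,0,0,0,1⟩⟩,
  ⟨⟨1,0,0,0,0,0,0⟩,⟨0,1,2,2,0,2,0⟩,⟨0,0,1,2,2,0,0⟩,⟨0,0,0,1,2,1,0⟩,⟨0,0,0,0,1,1,0⟩,⟨0,0,0,0,0,1,0⟩,⟨0,0,0,0,0,0,1⟩⟩,
  ⟨⟨1,0,0,0,0,0,0⟩,⟨0,1,2,0,2,2,0⟩,⟨0,0,1,2,2,0,0⟩,⟨0,0,0,1,2,2,0⟩,⟨0,0,0,0,1,1,0⟩,⟨0,0,0,0,0,1,0⟩,⟨0,0,0,0,0,0,1⟩⟩,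
  ⟨⟨1,0,0,0,0,0,0⟩,⟨0,1,2,1,0,2,0⟩,⟨0,0,1,2,2,1,0⟩,⟨0,0,0,1,2,0,0⟩,⟨0,0,0,0,1,1,0⟩,⟨0,0,0,0,0,1,0⟩,⟨0,0,0,0,0,0,1⟩⟩,
  ⟨⟨1,0,0,0,0,0,0⟩,⟨0,1,0,0,2,0,0⟩,⟨0,0,1,2,2,1,0⟩,⟨0,0,0,1,2,0,0⟩,⟨0,0,0,0,1,0,0⟩,⟨0,0,0,0,0,1,0⟩,⟨0,0,0,0,0,0,1⟩⟩]

def uWord : List (List ℕ) := [
  [],
  [0],
  [1],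
  [0,0],
  [0,1],
  [1,0],
  [1,1],
  [0,0,1],
  [0,1,0],
  [0,1,1],
  [1,0,0],
  [1,0,1],
  [1,1,0],
  [0,0,1,0],
  [0,0,1,1],
  [0,1,0,0],
  [0,1,0,1],
  [0,1,1,0],
  [1,0,0,1],
  [1,0,1,0],
  [1,0,1,1],
  [1,1,0,0],
  [1,1,0,1],
  [0,0,1,0,0],
  [0,0,1,0,1],
  [0,0,1,1,0],
  [0,1,0,0,1],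
  [0,1,0,1,0],
  [0,1,0,1,1],
  [0,1,1,0,0],
  [0,1,1,0,1],
  [1,0,0,1,0],
  [1,0,0,1,1],
  [1,0,1,0,0],
  [1,0,1,0,1],
  [1,1,0,0,1],
  [1,1,0,1,1],
  [0,0,1,0,0,1],
  [0,0,1,0,1,0],
  [0,0,1,0,1,1],
  [0,0,1,1,0,0],
  [0,0,1,1,0,1],
  [0,1,0,0,1,0],
  [0,1,0,0,1,1],
  [0,1,0,1,0,0],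
  [0,1,0,1,0,1],
  [0,1,1,0,0,1],
  [0,1,1,0,1,1],
  [1,0,0,1,0,0],
  [1,0,0,1,0,1],
  [1,0,1,0,0,1],
  [1,0,1,0,1,1],
  [1,1,0,0,1,1],
  [0,0,1,0,0,1,0],
  [0,0,1,0,0,1,1],
  [0,0,1,0,1,0,0],
  [0,0,1,0,1,0,1],
  [0,0,1,1,0,0,1],
  [0,0,1,1,0,1,1],
  [0,1,0,0,1,0,0],
  [0,1,0,0,1,0,1],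
  [0,1,0,1,0,0,1],
  [0,1,0,1,0,1,1],
  [0,1,1,0,0,1,1],
  [1,0,0,1,0,0,1],
  [1,0,0,1,0,1,1],
  [1,0,1,0,0,1,1],
  [0,0,1,0,0,1,0,0],
  [0,0,1,0,0,1,0,1],
  [0,0,1,0,1,0,0,1],
  [0,0,1,0,1,0,1,1],
  [0,0,1,1,0,0,1,1],
  [0,1,0,0,1,0,0,1],
  [0,1,0,0,1,0,1,1],
  [0,1,0,1,0,0,1,1],
  [1,0,0,1,0,0,1,1],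
  [0,0,1,0,0,1,0,0,1],
  [0,0,1,0,0,1,0,1,1],
  [0,0,1,0,1,0,0,1,1],
  [0,1,0,0,1,0,0,1,1],
  [0,0,1,0,0,1,0,0,1,1]]

def uNext : List (List ℕ) := [
  [1,2],
  [3,4],
  [5,6],
  [0,7],
  [8,9],
  [10,11],
  [12,0],
  [13,14],
  [15,16],
  [17,1],
  [2,18],
  [19,20],
  [21,22],
  [23,24],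
  [25,3],
  [4,26],
  [27,28],
  [29,30],
  [31,32],
  [33,34],
  [28,5],
  [6,35],
  [30,36],
  [7,37],
  [38,39],
  [40,41],
  [42,43],
  [44,45],
  [39,8],
  [9,46],
  [41,47],
  [48,49],
  [43,10],
  [11,50],
  [45,51],
  [46,52],
  [51,12],
  [53,54],
  [55,56],
  [20,13],
  [14,57],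
  [22,58],
  [59,60],
  [54,15],
  [16,61],
  [56,62],
  [57,63],
  [62,17],
  [18,64],
  [60,65],
  [61,66],
  [65,19],
  [66,21],
  [67,68],
  [32,23],
  [24,69],
  [34,70],
  [35,71],
  [70,25],
  [26,72],
  [68,73],
  [69,74],
  [73,27],
  [74,29],
  [72,75],
  [36,31],
  [75,33],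
  [37,76],
  [49,77],
  [50,78],
  [77,38],
  [78,40],
  [76,79],
  [47,42],
  [79,44],
  [52,48],
  [64,80],
  [58,53],
  [80,55],
  [63,59],
  [71,67]]

def qConj : List (ℕ × List ℕ) := [(1,[1,7,3,4,49]),(2,[1,2,35,131,5]),(4,[7,2,3,50,5]),(5,[1,138,46,4,5])]

def uCert : List (Option (ℕ × List ℕ)) := [some (0,[]),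
some (1,[]),
some (2,[]),
some (3,[]),
none,
none,
some (2,[11]),
none,
none,
none,
none,
none,
none,
some (2,[1]),
none,
some (2,[4]),
none,
none,
none,
none,
some (1,[5]),
none,
some (1,[2]),
none,
some (2,[1,5,12]),
some (2,[4,13]),
some (2,[4,5,13]),
some (2,[13,2,13]),
some (4,[]),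
some (2,[1,12]),
some (4,[2]),
some (2,[1,2,12]),
some (3,[5]),
some (2,[4,2,13]),
some (4,[5]),
some (3,[2]),
none,
none,
none,
some (2,[12,2]),
none,
some (2,[13,5]),
none,
some (2,[13,2]),
none,
some (3,[14]),
some (2,[12,5]),
none,
none,
some (2,[12]),
some (2,[13]),
none,
none,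
none,
some (4,[14]),
none,
some (2,[13,2,16]),
some (4,[5,16]),
some (2,[4,2]),
none,
some (2,[12,16]),
some (2,[13,15]),
some (2,[4,2,1]),
some (2,[1,2]),
some (4,[16]),
some (2,[1,5]),
some (2,[4,5]),
some (2,[13,5,13]),
some (2,[12,15]),
some (2,[13,16]),
none,
none,
some (2,[13,5,15]),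
none,
none,
none,
some (1,[14]),
none,
none,
none,
some (2,[4,5,1])]

def uRep : List ℕ := [0,1,2,3,28]

def qCert : List (List (Option (ℕ × ℕ))) := [[none,
some (0,0),
some (1,0),
some (2,0),
some (3,0),
some (4,0),
some (5,0),
some (6,0),
some (7,0),
some (8,0),
some (9,0),
some (10,0),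
some (11,0),
some (12,0),
some (13,0),
some (14,0),
some (15,0),
some (16,0),
some (17,0),
some (18,0),
some (19,0),
some (20,0),
some (21,0),
some (22,0),
some (23,0),
some (24,0),
some (25,0),
some (26,0),
some (27,0),
some (28,0),
some (29,0),
some (30,0),
some (31,0),
some (32,0),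
some (33,0),
some (34,0),
some (35,0),
some (36,0),
some (37,0),
some (38,0),
some (39,0),
some (40,0),
some (41,0),
some (42,0),
some (43,0),
some (44,0),
some (45,0),
some (46,0),
some (47,0),
some (48,0),
some (49,0),
some (50,0),
some (51,0),
some (52,0),
some (53,0),
some (54,0),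
some (55,0),
some (56,0),
some (57,0),
some (58,0),
some (59,0),
some (60,0),
some (61,0),
some (62,0),
some (63,0),
some (64,0),
some (65,0),
some (66,0),
some (67,0),
some (68,0),
some (69,0),
some (70,0),
some (71,0),
some (72,0),
some (73,0),
some (74,0),
some (75,0),
some (76,0),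
some (77,0),
some (78,0),
some (79,0),
some (80,0),
some (81,0),
some (82,0),
some (83,0),
some (84,0),
some (85,0),
some (86,0),
some (87,0),
some (88,0),
some (89,0),
some (90,0),
some (91,0),
some (92,0),
some (93,0),
some (94,0),
some (95,0),
some (96,0),
some (97,0),
some (98,0),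
some (99,0),
some (100,0),
some (101,0),
some (102,0),
some (103,0),
some (104,0),
some (105,0),
some (106,0),
some (107,0),
some (108,0),
some (109,0),
some (110,0),
some (111,0),
some (112,0),
some (113,0),
some (114,0),
some (115,0),
some (116,0),
some (117,0),
some (118,0),
some (119,0),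
some (120,0),
some (121,0),
some (122,0),
some (123,0),
some (124,0),
some (125,0),
some (126,0),
some (127,0),
some (128,0),
some (129,0),
some (130,0),
some (131,0),
some (132,0),
some (133,0),
some (134,0),
some (135,0),
some (136,0),
some (137,0),
some (138,0),
some (139,0),
some (140,0),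
some (141,0),
some (142,0),
some (143,0),
some (144,0),
some (145,0),
some (146,0),
some (147,0),
some (148,0),
some (149,0),
some (150,0),
some (151,0),
some (152,0),
some (153,0),
some (154,0),
some (155,0),
some (156,0),
some (157,0),
some (158,0),
some (159,0),
some (160,0),
some (161,0),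
some (162,0),
some (163,0),
some (164,0),
some (165,0),
some (166,0),
some (167,0),
some (168,0),
some (169,0),
some (170,0),
some (171,0),
some (172,0),
some (173,0),
some (174,0),
some (175,0),
some (176,0),
some (177,0),
some (178,0),
some (179,0),
some (180,0),
some (181,0),
some (182,0),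
some (183,0),
some (184,0),
some (185,0),
some (186,0),
some (187,0),
some (188,0),
some (189,0),
some (190,0),
some (191,0),
some (192,0),
some (193,0),
some (194,0),
some (195,0),
some (196,0),
some (197,0),
some (198,0),
some (199,0),
some (200,0),
some (201,0),
some (202,0),
some (203,0),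
some (204,0),
some (205,0),
some (206,0),
some (207,0),
some (208,0),
some (209,0),
some (210,0),
some (211,0),
some (212,0),
some (213,0),
some (214,0),
some (215,0),
some (216,0),
some (217,0),
some (218,0),
some (219,0),
some (220,0),
some (221,0),
some (222,0),
some (223,0),
some (224,0),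
some (225,0),
some (226,0),
some (227,0),
some (228,0),
some (229,0),
some (230,0),
some (231,0),
some (232,0),
some (233,0),
some (234,0),
some (235,0),
some (236,0),
some (237,0),
some (238,0),
some (239,0),
some (240,0),
some (241,0)],
[some (242,0),
some (242,2),
some (243,0),
some (244,0),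
some (242,20),
some (245,0),
some (242,11),
some (243,2),
some (244,2),
some (242,43),
some (245,2),
some (246,0),
some (247,0),
some (243,20),
some (248,0),
some (249,0),
some (244,20),
some (250,0),
some (242,5),
some (245,20),
some (251,0),
some (243,11),
some (244,11),
some (242,82),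
some (245,11),
some (246,2),
some (247,2),
some (243,43),
some (248,2),
some (249,2),
some (244,43),
some (250,2),
some (242,14),
some (245,43),
some (251,2),
some (252,0),
some (246,20),
some (253,0),
some (254,0),
some (247,20),
some (255,0),
some (243,5),
some (248,20),
some (256,0),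
some (249,20),
some (257,0),
some (244,5),
some (250,20),
some (258,0),
some (245,5),
some (251,20),
some (246,11),
some (247,11),
some (243,82),
some (248,11),
some (249,11),
some (244,82),
some (250,11),
some (242,37),
some (245,82),
some (251,11),
some (252,2),
some (246,43),
some (253,2),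
some (254,2),
some (247,43),
some (255,2),
some (243,14),
some (248,43),
some (256,2),
some (249,43),
some (257,2),
some (244,14),
some (250,43),
some (258,2),
some (245,14),
some (251,43),
some (259,0),
some (252,20),
some (260,0),
some (246,5),
some (253,20),
some (261,0),
some (254,20),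
some (262,0),
some (247,5),
some (255,20),
some (263,0),
some (248,5),
some (256,20),
some (249,5),
some (257,20),
some (264,0),
some (250,5),
some (258,20),
some (251,5),
some (252,11),
some (246,82),
some (253,11),
some (254,11),
some (247,82),
some (255,11),
some (243,37),
some (248,82),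
some (256,11),
some (249,82),
some (257,11),
some (244,37),
some (250,82),
some (258,11),
some (245,37),
some (251,82),
some (259,2),
some (252,43),
some (260,2),
some (246,14),
some (253,43),
some (261,2),
some (254,43),
some (262,2),
some (247,14),
some (255,43),
some (263,2),
some (248,14),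
some (256,43),
some (249,14),
some (257,43),
some (264,2),
some (250,14),
some (258,43),
some (251,14),
some (259,20),
some (265,0),
some (252,5),
some (260,20),
some (266,0),
some (253,5),
some (261,20),
some (254,5),
some (262,20),
some (267,0),
some (255,5),
some (263,20),
some (256,5),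
some (257,5),
some (264,20),
some (258,5),
some (259,11),
some (252,82),
some (260,11),
some (246,37),
some (253,82),
some (261,11),
some (254,82),
some (262,11),
some (247,37),
some (255,82),
some (263,11),
some (248,37),
some (256,82),
some (249,37),
some (257,82),
some (264,11),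
some (250,37),
some (258,82),
some (251,37),
some (259,43),
some (265,2),
some (252,14),
some (260,43),
some (266,2),
some (253,14),
some (261,43),
some (254,14),
some (262,43),
some (267,2),
some (255,14),
some (263,43),
some (256,14),
some (257,14),
some (264,43),
some (258,14),
some (259,5),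
some (265,20),
some (268,0),
some (260,5),
some (266,20),
some (261,5),
some (262,5),
some (267,20),
some (263,5),
some (264,5),
some (259,82),
some (265,11),
some (252,37),
some (260,82),
some (266,11),
some (253,37),
some (261,82),
some (254,37),
some (262,82),
some (267,11),
some (255,37),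
some (263,82),
some (256,37),
some (257,37),
some (264,82),
some (258,37),
some (259,14),
some (265,43),
some (268,2),
some (260,14),
some (266,43),
some (261,14),
some (262,14),
some (267,43),
some (263,14),
some (264,14),
some (265,5),
some (268,20),
some (266,5),
some (267,5),
some (259,37),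
some (265,82),
some (268,11),
some (260,37),
some (266,82),
some (261,37),
some (262,37),
some (267,82),
some (263,37),
some (264,37),
some (265,14),
some (268,43),
some (266,14),
some (267,14),
some (268,5),
some (265,37),
some (268,82),
some (266,37),
some (267,37),
some (268,14),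
some (268,37)],
[some (269,0),
some (270,0),
some (269,15),
some (269,46),
none,
some (271,0),
some (272,0),
some (270,15),
some (270,46),
none,
some (273,0),
some (269,3),
some (269,18),
none,
some (271,15),
some (269,44),
none,
some (271,46),
none,
none,
some (274,0),
some (272,15),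
some (272,46),
none,
some (275,0),
some (270,3),
some (270,18),
none,
some (273,15),
some (270,44),
none,
some (273,46),
none,
none,
some (276,0),
some (269,90),
none,
some (271,3),
some (269,16),
none,
some (271,18),
none,
none,
some (274,15),
none,
some (271,44),
none,
none,
some (274,46),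
none,
none,
some (272,3),
some (272,18),
none,
some (275,15),
some (272,44),
none,
some (275,46),
none,
none,
some (277,0),
some (270,90),
none,
some (273,3),
some (270,16),
none,
some (273,18),
none,
none,
some (276,15),
none,
some (273,44),
none,
none,
some (276,46),
none,
none,
some (269,4),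
none,
some (271,90),
none,
none,
some (274,3),
none,
some (271,16),
none,
none,
some (274,18),
none,
none,
none,
none,
some (274,44),
none,
none,
none,
some (272,90),
none,
some (275,3),
some (272,16),
none,
some (275,18),
none,
none,
some (277,15),
none,
some (275,44),
none,
none,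
some (277,46),
none,
none,
some (270,4),
none,
some (273,90),
none,
none,
some (276,3),
none,
some (273,16),
none,
none,
some (276,18),
none,
none,
none,
none,
some (276,44),
none,
none,
none,
none,
some (271,4),
none,
none,
some (274,90),
none,
none,
none,
none,
some (274,16),
none,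
none,
none,
none,
none,
none,
some (272,4),
none,
some (275,90),
none,
none,
some (277,3),
none,
some (275,16),
none,
none,
some (277,18),
none,
none,
none,
none,
some (277,44),
none,
none,
none,
none,
some (273,4),
none,
none,
some (276,90),
none,
none,
none,
none,
some (276,16),
none,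
none,
none,
none,
none,
none,
none,
none,
some (274,4),
none,
none,
none,
none,
none,
none,
none,
none,
some (275,4),
none,
none,
some (277,90),
none,
none,
none,
none,
some (277,16),
none,
none,
none,
none,
none,
none,
none,
none,
some (276,4),
none,
none,
none,
none,
none,
none,
none,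
none,
none,
none,
none,
none,
none,
some (277,4),
none,
none,
none,
none,
none,
none,
none,
none,
none,
none,
none,
none,
none,
none,
none,
none,
none,
none],
[some (278,0),
some (278,11),
some (279,0),
some (280,0),
some (278,5),
some (281,0),
some (278,2),
some (279,11),
some (280,11),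
some (278,37),
some (281,11),
some (282,0),
some (283,0),
some (279,5),
some (284,0),
some (285,0),
some (280,5),
some (286,0),
some (278,20),
some (281,5),
some (287,0),
some (279,2),
some (280,2),
some (278,14),
some (281,2),
some (282,11),
some (283,11),
some (279,37),
some (284,11),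
some (285,11),
some (280,37),
some (286,11),
some (278,82),
some (281,37),
some (287,11),
some (288,0),
some (282,5),
some (289,0),
some (290,0),
some (283,5),
some (291,0),
some (279,20),
some (284,5),
some (292,0),
some (285,5),
some (293,0),
some (280,20),
some (286,5),
some (294,0),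
some (281,20),
some (287,5),
some (282,2),
some (283,2),
some (279,14),
some (284,2),
some (285,2),
some (280,14),
some (286,2),
some (278,43),
some (281,14),
some (287,2),
some (288,11),
some (282,37),
some (289,11),
some (290,11),
some (283,37),
some (291,11),
some (279,82),
some (284,37),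
some (292,11),
some (285,37),
some (293,11),
some (280,82),
some (286,37),
some (294,11),
some (281,82),
some (287,37),
some (295,0),
some (288,5),
some (296,0),
some (282,20),
some (289,5),
some (297,0),
some (290,5),
some (298,0),
some (283,20),
some (291,5),
some (299,0),
some (284,20),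
some (292,5),
some (285,20),
some (293,5),
some (300,0),
some (286,20),
some (294,5),
some (287,20),
some (288,2),
some (282,14),
some (289,2),
some (290,2),
some (283,14),
some (291,2),
some (279,43),
some (284,14),
some (292,2),
some (285,14),
some (293,2),
some (280,43),
some (286,14),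
some (294,2),
some (281,43),
some (287,14),
some (295,11),
some (288,37),
some (296,11),
some (282,82),
some (289,37),
some (297,11),
some (290,37),
some (298,11),
some (283,82),
some (291,37),
some (299,11),
some (284,82),
some (292,37),
some (285,82),
some (293,37),
some (300,11),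
some (286,82),
some (294,37),
some (287,82),
some (295,5),
some (301,0),
some (288,20),
some (296,5),
some (302,0),
some (289,20),
some (297,5),
some (290,20),
some (298,5),
some (303,0),
some (291,20),
some (299,5),
some (292,20),
some (293,20),
some (300,5),
some (294,20),
some (295,2),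
some (288,14),
some (296,2),
some (282,43),
some (289,14),
some (297,2),
some (290,14),
some (298,2),
some (283,43),
some (291,14),
some (299,2),
some (284,43),
some (292,14),
some (285,43),
some (293,14),
some (300,2),
some (286,43),
some (294,14),
some (287,43),
some (295,37),
some (301,11),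
some (288,82),
some (296,37),
some (302,11),
some (289,82),
some (297,37),
some (290,82),
some (298,37),
some (303,11),
some (291,82),
some (299,37),
some (292,82),
some (293,82),
some (300,37),
some (294,82),
some (295,20),
some (301,5),
some (304,0),
some (296,20),
some (302,5),
some (297,20),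
some (298,20),
some (303,5),
some (299,20),
some (300,20),
some (295,14),
some (301,2),
some (288,43),
some (296,14),
some (302,2),
some (289,43),
some (297,14),
some (290,43),
some (298,14),
some (303,2),
some (291,43),
some (299,14),
some (292,43),
some (293,43),
some (300,14),
some (294,43),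
some (295,82),
some (301,37),
some (304,11),
some (296,82),
some (302,37),
some (297,82),
some (298,82),
some (303,37),
some (299,82),
some (300,82),
some (301,20),
some (304,5),
some (302,20),
some (303,20),
some (295,43),
some (301,14),
some (304,2),
some (296,43),
some (302,14),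
some (297,43),
some (298,43),
some (303,14),
some (299,43),
some (300,43),
some (301,82),
some (304,37),
some (302,82),
some (303,82),
some (304,20),
some (301,43),
some (304,14),
some (302,43),
some (303,43),
some (304,82),
some (304,43)],
[some (305,0),
some (305,11),
some (306,0),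
some (307,0),
some (308,0),
none,
some (305,15),
some (306,11),
some (307,11),
some (308,11),
none,
some (309,0),
some (310,0),
some (311,0),
none,
some (311,82),
some (309,45),
none,
some (310,82),
none,
none,
some (306,15),
some (307,15),
some (308,15),
none,
some (309,11),
some (310,11),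
some (311,11),
none,
some (311,92),
some (309,5),
none,
some (310,92),
none,
none,
some (312,0),
some (313,0),
none,
some (313,82),
some (305,45),
none,
some (312,82),
none,
none,
some (312,45),
none,
some (313,45),
none,
none,
none,
none,
some (309,15),
some (310,15),
some (311,15),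
none,
some (311,20),
some (309,37),
none,
some (310,20),
none,
none,
some (312,11),
some (313,11),
none,
some (313,92),
some (305,5),
none,
some (312,92),
none,
none,
some (312,5),
none,
some (313,5),
none,
none,
none,
none,
some (308,82),
some (306,45),
none,
some (307,82),
none,
none,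
some (307,45),
none,
some (308,45),
none,
none,
none,
none,
some (306,82),
none,
none,
none,
none,
none,
some (312,15),
some (313,15),
none,
some (313,20),
some (305,37),
none,
some (312,20),
none,
none,
some (312,37),
none,
some (313,37),
none,
none,
none,
none,
some (308,92),
some (306,5),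
none,
some (307,92),
none,
none,
some (307,5),
none,
some (308,5),
none,
none,
none,
none,
some (306,92),
none,
none,
none,
none,
none,
some (310,45),
none,
some (311,45),
none,
none,
none,
none,
some (309,82),
none,
none,
none,
none,
none,
none,
none,
none,
some (308,20),
some (306,37),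
none,
some (307,20),
none,
none,
some (307,37),
none,
some (308,37),
none,
none,
none,
none,
some (306,20),
none,
none,
none,
none,
none,
some (310,5),
none,
some (311,5),
none,
none,
none,
none,
some (309,92),
none,
none,
none,
none,
none,
none,
none,
none,
some (305,82),
none,
none,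
none,
none,
none,
none,
none,
none,
none,
some (310,37),
none,
some (311,37),
none,
none,
none,
none,
some (309,20),
none,
none,
none,
none,
none,
none,
none,
none,
some (305,92),
none,
none,
none,
none,
none,
none,
none,
none,
none,
none,
none,
none,
none,
some (305,20),
none,
none,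
none,
none,
none,
none,
none,
none,
none,
none,
none,
none,
none,
none,
none,
none,
none,
none,
none,
none]]

def candTab : List M7 := [
  ⟨⟨1,0,0,0,0,1,0⟩,⟨0,1,0,0,0,0,2⟩,⟨0,0,1,0,0,0,0⟩,⟨0,0,0,1,0,0,0⟩,⟨0,0,0,0,1,0,0⟩,⟨0,0,0,0,0,1,0⟩,⟨0,0,0,0,0,0,1⟩⟩,
  ⟨⟨1,0,0,0,1,0,0⟩,⟨0,1,0,0,0,0,0⟩,⟨0,0,1,0,0,0,2⟩,⟨0,0,0,1,0,0,0⟩,⟨0,0,0,0,1,0,0⟩,⟨0,0,0,0,0,1,0⟩,⟨0,0,0,0,0,0,1⟩⟩,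
  ⟨⟨1,0,0,2,0,0,2⟩,⟨0,1,0,0,0,0,0⟩,⟨0,0,1,0,0,0,0⟩,⟨0,0,0,1,0,0,2⟩,⟨0,0,0,0,1,0,0⟩,⟨0,0,0,0,0,1,0⟩,⟨0,0,0,0,0,0,1⟩⟩,
  ⟨⟨1,0,1,0,0,0,0⟩,⟨0,1,0,0,0,0,0⟩,⟨0,0,1,0,0,0,0⟩,⟨0,0,0,1,0,0,0⟩,⟨0,0,0,0,1,0,2⟩,⟨0,0,0,0,0,1,0⟩,⟨0,0,0,0,0,0,1⟩⟩,
  ⟨⟨1,1,0,0,0,0,0⟩,⟨0,1,0,0,0,0,0⟩,⟨0,0,1,0,0,0,0⟩,⟨0,0,0,1,0,0,0⟩,⟨0,0,0,0,1,0,0⟩,⟨0,0,0,0,0,1,2⟩,⟨0,0,0,0,0,0,1⟩⟩,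
  ⟨⟨1,0,0,0,0,2,0⟩,⟨0,1,0,0,0,0,1⟩,⟨0,0,1,0,0,0,0⟩,⟨0,0,0,1,0,0,0⟩,⟨0,0,0,0,1,0,0⟩,⟨0,0,0,0,0,1,0⟩,⟨0,0,0,0,0,0,1⟩⟩,
  ⟨⟨1,0,0,0,1,1,0⟩,⟨0,1,0,0,0,0,2⟩,⟨0,0,1,0,0,0,2⟩,⟨0,0,0,1,0,0,0⟩,⟨0,0,0,0,1,0,0⟩,⟨0,0,0,0,0,1,0⟩,⟨0,0,0,0,0,0,1⟩⟩,
  ⟨⟨1,0,0,2,0,1,2⟩,⟨0,1,0,0,0,0,2⟩,⟨0,0,1,0,0,0,0⟩,⟨0,0,0,1,0,0,2⟩,⟨0,0,0,0,1,0,0⟩,⟨0,0,0,0,0,1,0⟩,⟨0,0,0,0,0,0,1⟩⟩,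
  ⟨⟨1,0,1,0,0,1,0⟩,⟨0,1,0,0,0,0,2⟩,⟨0,0,1,0,0,0,0⟩,⟨0,0,0,1,0,0,0⟩,⟨0,0,0,0,1,0,2⟩,⟨0,0,0,0,0,1,0⟩,⟨0,0,0,0,0,0,1⟩⟩,
  ⟨⟨1,1,0,0,0,1,2⟩,⟨0,1,0,0,0,0,2⟩,⟨0,0,1,0,0,0,0⟩,⟨0,0,0,1,0,0,0⟩,⟨0,0,0,0,1,0,0⟩,⟨0,0,0,0,0,1,2⟩,⟨0,0,0,0,0,0,1⟩⟩,
  ⟨⟨1,0,0,0,2,0,0⟩,⟨0,1,0,0,0,0,0⟩,⟨0,0,1,0,0,0,1⟩,⟨0,0,0,1,0,0,0⟩,⟨0,0,0,0,1,0,0⟩,⟨0,0,0,0,0,1,0⟩,⟨0,0,0,0,0,0,1⟩⟩,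
  ⟨⟨1,0,0,2,1,0,2⟩,⟨0,1,0,0,0,0,0⟩,⟨0,0,1,0,0,0,2⟩,⟨0,0,0,1,0,0,2⟩,⟨0,0,0,0,1,0,0⟩,⟨0,0,0,0,0,1,0⟩,⟨0,0,0,0,0,0,1⟩⟩,
  ⟨⟨1,0,1,0,1,0,2⟩,⟨0,1,0,0,0,0,0⟩,⟨0,0,1,0,0,0,2⟩,⟨0,0,0,1,0,0,0⟩,⟨0,0,0,0,1,0,2⟩,⟨0,0,0,0,0,1,0⟩,⟨0,0,0,0,0,0,1⟩⟩,
  ⟨⟨1,1,0,0,1,0,0⟩,⟨0,1,0,0,0,0,0⟩,⟨0,0,1,0,0,0,2⟩,⟨0,0,0,1,0,0,0⟩,⟨0,0,0,0,1,0,0⟩,⟨0,0,0,0,0,1,2⟩,⟨0,0,0,0,0,0,1⟩⟩,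
  ⟨⟨1,0,0,1,0,0,2⟩,⟨0,1,0,0,0,0,0⟩,⟨0,0,1,0,0,0,0⟩,⟨0,0,0,1,0,0,1⟩,⟨0,0,0,0,1,0,0⟩,⟨0,0,0,0,0,1,0⟩,⟨0,0,0,0,0,0,1⟩⟩,
  ⟨⟨1,0,1,2,0,0,2⟩,⟨0,1,0,0,0,0,0⟩,⟨0,0,1,0,0,0,0⟩,⟨0,0,0,1,0,0,2⟩,⟨0,0,0,0,1,0,2⟩,⟨0,0,0,0,0,1,0⟩,⟨0,0,0,0,0,0,1⟩⟩,
  ⟨⟨1,1,0,2,0,0,2⟩,⟨0,1,0,0,0,0,0⟩,⟨0,0,1,0,0,0,0⟩,⟨0,0,0,1,0,0,2⟩,⟨0,0,0,0,1,0,0⟩,⟨0,0,0,0,0,1,2⟩,⟨0,0,0,0,0,0,1⟩⟩,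
  ⟨⟨1,0,2,0,0,0,0⟩,⟨0,1,0,0,0,0,0⟩,⟨0,0,1,0,0,0,0⟩,⟨0,0,0,1,0,0,0⟩,⟨0,0,0,0,1,0,1⟩,⟨0,0,0,0,0,1,0⟩,⟨0,0,0,0,0,0,1⟩⟩,
  ⟨⟨1,1,1,0,0,0,0⟩,⟨0,1,0,0,0,0,0⟩,⟨0,0,1,0,0,0,0⟩,⟨0,0,0,1,0,0,0⟩,⟨0,0,0,0,1,0,2⟩,⟨0,0,0,0,0,1,2⟩,⟨0,0,0,0,0,0,1⟩⟩,
  ⟨⟨1,2,0,0,0,0,0⟩,⟨0,1,0,0,0,0,0⟩,⟨0,0,1,0,0,0,0⟩,⟨0,0,0,1,0,0,0⟩,⟨0,0,0,0,1,0,0⟩,⟨0,0,0,0,0,1,1⟩,⟨0,0,0,0,0,0,1⟩⟩,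
  ⟨⟨1,0,0,0,1,2,0⟩,⟨0,1,0,0,0,0,1⟩,⟨0,0,1,0,0,0,2⟩,⟨0,0,0,1,0,0,0⟩,⟨0,0,0,0,1,0,0⟩,⟨0,0,0,0,0,1,0⟩,⟨0,0,0,0,0,0,1⟩⟩,
  ⟨⟨1,0,0,2,0,2,2⟩,⟨0,1,0,0,0,0,1⟩,⟨0,0,1,0,0,0,0⟩,⟨0,0,0,1,0,0,2⟩,⟨0,0,0,0,1,0,0⟩,⟨0,0,0,0,0,1,0⟩,⟨0,0,0,0,0,0,1⟩⟩,
  ⟨⟨1,0,1,0,0,2,0⟩,⟨0,1,0,0,0,0,1⟩,⟨0,0,1,0,0,0,0⟩,⟨0,0,0,1,0,0,0⟩,⟨0,0,0,0,1,0,2⟩,⟨0,0,0,0,0,1,0⟩,⟨0,0,0,0,0,0,1⟩⟩,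
  ⟨⟨1,1,0,0,0,2,1⟩,⟨0,1,0,0,0,0,1⟩,⟨0,0,1,0,0,0,0⟩,⟨0,0,0,1,0,0,0⟩,⟨0,0,0,0,1,0,0⟩,⟨0,0,0,0,0,1,2⟩,⟨0,0,0,0,0,0,1⟩⟩,
  ⟨⟨1,0,0,0,2,1,0⟩,⟨0,1,0,0,0,0,2⟩,⟨0,0,1,0,0,0,1⟩,⟨0,0,0,1,0,0,0⟩,⟨0,0,0,0,1,0,0⟩,⟨0,0,0,0,0,1,0⟩,⟨0,0,0,0,0,0,1⟩⟩,
  ⟨⟨1,0,0,2,1,1,2⟩,⟨0,1,0,0,0,0,2⟩,⟨0,0,1,0,0,0,2⟩,⟨0,0,0,1,0,0,2⟩,⟨0,0,0,0,1,0,0⟩,⟨0,0,0,0,0,1,0⟩,⟨0,0,0,0,0,0,1⟩⟩,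
  ⟨⟨1,0,1,0,1,1,2⟩,⟨0,1,0,0,0,0,2⟩,⟨0,0,1,0,0,0,2⟩,⟨0,0,0,1,0,0,0⟩,⟨0,0,0,0,1,0,2⟩,⟨0,0,0,0,0,1,0⟩,⟨0,0,0,0,0,0,1⟩⟩,
  ⟨⟨1,1,0,0,1,1,2⟩,⟨0,1,0,0,0,0,2⟩,⟨0,0,1,0,0,0,2⟩,⟨0,0,0,1,0,0,0⟩,⟨0,0,0,0,1,0,0⟩,⟨0,0,0,0,0,1,2⟩,⟨0,0,0,0,0,0,1⟩⟩,
  ⟨⟨1,0,0,1,0,1,2⟩,⟨0,1,0,0,0,0,2⟩,⟨0,0,1,0,0,0,0⟩,⟨0,0,0,1,0,0,1⟩,⟨0,0,0,0,1,0,0⟩,⟨0,0,0,0,0,1,0⟩,⟨0,0,0,0,0,0,1⟩⟩,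
  ⟨⟨1,0,1,2,0,1,2⟩,⟨0,1,0,0,0,0,2⟩,⟨0,0,1,0,0,0,0⟩,⟨0,0,0,1,0,0,2⟩,⟨0,0,0,0,1,0,2⟩,⟨0,0,0,0,0,1,0⟩,⟨0,0,0,0,0,0,1⟩⟩,
  ⟨⟨1,1,0,2,0,1,1⟩,⟨0,1,0,0,0,0,2⟩,⟨0,0,1,0,0,0,0⟩,⟨0,0,0,1,0,0,2⟩,⟨0,0,0,0,1,0,0⟩,⟨0,0,0,0,0,1,2⟩,⟨0,0,0,0,0,0,1⟩⟩,
  ⟨⟨1,0,2,0,0,1,0⟩,⟨0,1,0,0,0,0,2⟩,⟨0,0,1,0,0,0,0⟩,⟨0,0,0,1,0,0,0⟩,⟨0,0,0,0,1,0,1⟩,⟨0,0,0,0,0,1,0⟩,⟨0,0,0,0,0,0,1⟩⟩,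
  ⟨⟨1,1,1,0,0,1,2⟩,⟨0,1,0,0,0,0,2⟩,⟨0,0,1,0,0,0,0⟩,⟨0,0,0,1,0,0,0⟩,⟨0,0,0,0,1,0,2⟩,⟨0,0,0,0,0,1,2⟩,⟨0,0,0,0,0,0,1⟩⟩,
  ⟨⟨1,2,0,0,0,1,1⟩,⟨0,1,0,0,0,0,2⟩,⟨0,0,1,0,0,0,0⟩,⟨0,0,0,1,0,0,0⟩,⟨0,0,0,0,1,0,0⟩,⟨0,0,0,0,0,1,1⟩,⟨0,0,0,0,0,0,1⟩⟩,
  ⟨⟨1,0,0,2,2,0,2⟩,⟨0,1,0,0,0,0,0⟩,⟨0,0,1,0,0,0,1⟩,⟨0,0,0,1,0,0,2⟩,⟨0,0,0,0,1,0,0⟩,⟨0,0,0,0,0,1,0⟩,⟨0,0,0,0,0,0,1⟩⟩,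
  ⟨⟨1,0,1,0,2,0,1⟩,⟨0,1,0,0,0,0,0⟩,⟨0,0,1,0,0,0,1⟩,⟨0,0,0,1,0,0,0⟩,⟨0,0,0,0,1,0,2⟩,⟨0,0,0,0,0,1,0⟩,⟨0,0,0,0,0,0,1⟩⟩,
  ⟨⟨1,1,0,0,2,0,0⟩,⟨0,1,0,0,0,0,0⟩,⟨0,0,1,0,0,0,1⟩,⟨0,0,0,1,0,0,0⟩,⟨0,0,0,0,1,0,0⟩,⟨0,0,0,0,0,1,2⟩,⟨0,0,0,0,0,0,1⟩⟩,
  ⟨⟨1,0,0,1,1,0,2⟩,⟨0,1,0,0,0,0,0⟩,⟨0,0,1,0,0,0,2⟩,⟨0,0,0,1,0,0,1⟩,⟨0,0,0,0,1,0,0⟩,⟨0,0,0,0,0,1,0⟩,⟨0,0,0,0,0,0,1⟩⟩,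
  ⟨⟨1,0,1,2,1,0,1⟩,⟨0,1,0,0,0,0,0⟩,⟨0,0,1,0,0,0,2⟩,⟨0,0,0,1,0,0,2⟩,⟨0,0,0,0,1,0,2⟩,⟨0,0,0,0,0,1,0⟩,⟨0,0,0,0,0,0,1⟩⟩,
  ⟨⟨1,1,0,2,1,0,2⟩,⟨0,1,0,0,0,0,0⟩,⟨0,0,1,0,0,0,2⟩,⟨0,0,0,1,0,0,2⟩,⟨0,0,0,0,1,0,0⟩,⟨0,0,0,0,0,1,2⟩,⟨0,0,0,0,0,0,1⟩⟩,
  ⟨⟨1,0,2,0,1,0,1⟩,⟨0,1,0,0,0,0,0⟩,⟨0,0,1,0,0,0,2⟩,⟨0,0,0,1,0,0,0⟩,⟨0,0,0,0,1,0,1⟩,⟨0,0,0,0,0,1,0⟩,⟨0,0,0,0,0,0,1⟩⟩,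
  ⟨⟨1,1,1,0,1,0,2⟩,⟨0,1,0,0,0,0,0⟩,⟨0,0,1,0,0,0,2⟩,⟨0,0,0,1,0,0,0⟩,⟨0,0,0,0,1,0,2⟩,⟨0,0,0,0,0,1,2⟩,⟨0,0,0,0,0,0,1⟩⟩,
  ⟨⟨1,2,0,0,1,0,0⟩,⟨0,1,0,0,0,0,0⟩,⟨0,0,1,0,0,0,2⟩,⟨0,0,0,1,0,0,0⟩,⟨0,0,0,0,1,0,0⟩,⟨0,0,0,0,0,1,1⟩,⟨0,0,0,0,0,0,1⟩⟩,
  ⟨⟨1,0,1,1,0,0,2⟩,⟨0,1,0,0,0,0,0⟩,⟨0,0,1,0,0,0,0⟩,⟨0,0,0,1,0,0,1⟩,⟨0,0,0,0,1,0,2⟩,⟨0,0,0,0,0,1,0⟩,⟨0,0,0,0,0,0,1⟩⟩,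
  ⟨⟨1,1,0,1,0,0,2⟩,⟨0,1,0,0,0,0,0⟩,⟨0,0,1,0,0,0,0⟩,⟨0,0,0,1,0,0,1⟩,⟨0,0,0,0,1,0,0⟩,⟨0,0,0,0,0,1,2⟩,⟨0,0,0,0,0,0,1⟩⟩,
  ⟨⟨1,0,2,2,0,0,2⟩,⟨0,1,0,0,0,0,0⟩,⟨0,0,1,0,0,0,0⟩,⟨0,0,0,1,0,0,2⟩,⟨0,0,0,0,1,0,1⟩,⟨0,0,0,0,0,1,0⟩,⟨0,0,0,0,0,0,1⟩⟩,
  ⟨⟨1,1,1,2,0,0,2⟩,⟨0,1,0,0,0,0,0⟩,⟨0,0,1,0,0,0,0⟩,⟨0,0,0,1,0,0,2⟩,⟨0,0,0,0,1,0,2⟩,⟨0,0,0,0,0,1,2⟩,⟨0,0,0,0,0,0,1⟩⟩,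
  ⟨⟨1,2,0,2,0,0,2⟩,⟨0,1,0,0,0,0,0⟩,⟨0,0,1,0,0,0,0⟩,⟨0,0,0,1,0,0,2⟩,⟨0,0,0,0,1,0,0⟩,⟨0,0,0,0,0,1,1⟩,⟨0,0,0,0,0,0,1⟩⟩,
  ⟨⟨1,1,2,0,0,0,0⟩,⟨0,1,0,0,0,0,0⟩,⟨0,0,1,0,0,0,0⟩,⟨0,0,0,1,0,0,0⟩,⟨0,0,0,0,1,0,1⟩,⟨0,0,0,0,0,1,2⟩,⟨0,0,0,0,0,0,1⟩⟩,
  ⟨⟨1,2,1,0,0,0,0⟩,⟨0,1,0,0,0,0,0⟩,⟨0,0,1,0,0,0,0⟩,⟨0,0,0,1,0,0,0⟩,⟨0,0,0,0,1,0,2⟩,⟨0,0,0,0,0,1,1⟩,⟨0,0,0,0,0,0,1⟩⟩,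
  ⟨⟨1,0,0,0,2,2,0⟩,⟨0,1,0,0,0,0,1⟩,⟨0,0,1,0,0,0,1⟩,⟨0,0,0,1,0,0,0⟩,⟨0,0,0,0,1,0,0⟩,⟨0,0,0,0,0,1,0⟩,⟨0,0,0,0,0,0,1⟩⟩,
  ⟨⟨1,0,0,2,1,2,2⟩,⟨0,1,0,0,0,0,1⟩,⟨0,0,1,0,0,0,2⟩,⟨0,0,0,1,0,0,2⟩,⟨0,0,0,0,1,0,0⟩,⟨0,0,0,0,0,1,0⟩,⟨0,0,0,0,0,0,1⟩⟩,
  ⟨⟨1,0,1,0,1,2,2⟩,⟨0,1,0,0,0,0,1⟩,⟨0,0,1,0,0,0,2⟩,⟨0,0,0,1,0,0,0⟩,⟨0,0,0,0,1,0,2⟩,⟨0,0,0,0,0,1,0⟩,⟨0,0,0,0,0,0,1⟩⟩,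
  ⟨⟨1,1,0,0,1,2,1⟩,⟨0,1,0,0,0,0,1⟩,⟨0,0,1,0,0,0,2⟩,⟨0,0,0,1,0,0,0⟩,⟨0,0,0,0,1,0,0⟩,⟨0,0,0,0,0,1,2⟩,⟨0,0,0,0,0,0,1⟩⟩,
  ⟨⟨1,0,0,1,0,2,2⟩,⟨0,1,0,0,0,0,1⟩,⟨0,0,1,0,0,0,0⟩,⟨0,0,0,1,0,0,1⟩,⟨0,0,0,0,1,0,0⟩,⟨0,0,0,0,0,1,0⟩,⟨0,0,0,0,0,0,1⟩⟩,
  ⟨⟨1,0,1,2,0,2,2⟩,⟨0,1,0,0,0,0,1⟩,⟨0,0,1,0,0,0,0⟩,⟨0,0,0,1,0,0,2⟩,⟨0,0,0,0,1,0,2⟩,⟨0,0,0,0,0,1,0⟩,⟨0,0,0,0,0,0,1⟩⟩,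
  ⟨⟨1,1,0,2,0,2,0⟩,⟨0,1,0,0,0,0,1⟩,⟨0,0,1,0,0,0,0⟩,⟨0,0,0,1,0,0,2⟩,⟨0,0,0,0,1,0,0⟩,⟨0,0,0,0,0,1,2⟩,⟨0,0,0,0,0,0,1⟩⟩,
  ⟨⟨1,0,2,0,0,2,0⟩,⟨0,1,0,0,0,0,1⟩,⟨0,0,1,0,0,0,0⟩,⟨0,0,0,1,0,0,0⟩,⟨0,0,0,0,1,0,1⟩,⟨0,0,0,0,0,1,0⟩,⟨0,0,0,0,0,0,1⟩⟩,
  ⟨⟨1,1,1,0,0,2,1⟩,⟨0,1,0,0,0,0,1⟩,⟨0,0,1,0,0,0,0⟩,⟨0,0,0,1,0,0,0⟩,⟨0,0,0,0,1,0,2⟩,⟨0,0,0,0,0,1,2⟩,⟨0,0,0,0,0,0,1⟩⟩,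
  ⟨⟨1,2,0,0,0,2,2⟩,⟨0,1,0,0,0,0,1⟩,⟨0,0,1,0,0,0,0⟩,⟨0,0,0,1,0,0,0⟩,⟨0,0,0,0,1,0,0⟩,⟨0,0,0,0,0,1,1⟩,⟨0,0,0,0,0,0,1⟩⟩,
  ⟨⟨1,0,0,2,2,1,2⟩,⟨0,1,0,0,0,0,2⟩,⟨0,0,1,0,0,0,1⟩,⟨0,0,0,1,0,0,2⟩,⟨0,0,0,0,1,0,0⟩,⟨0,0,0,0,0,1,0⟩,⟨0,0,0,0,0,0,1⟩⟩,
  ⟨⟨1,0,1,0,2,1,1⟩,⟨0,1,0,0,0,0,2⟩,⟨0,0,1,0,0,0,1⟩,⟨0,0,0,1,0,0,0⟩,⟨0,0,0,0,1,0,2⟩,⟨0,0,0,0,0,1,0⟩,⟨0,0,0,0,0,0,1⟩⟩,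
  ⟨⟨1,1,0,0,2,1,2⟩,⟨0,1,0,0,0,0,2⟩,⟨0,0,1,0,0,0,1⟩,⟨0,0,0,1,0,0,0⟩,⟨0,0,0,0,1,0,0⟩,⟨0,0,0,0,0,1,2⟩,⟨0,0,0,0,0,0,1⟩⟩,
  ⟨⟨1,0,0,1,1,1,2⟩,⟨0,1,0,0,0,0,2⟩,⟨0,0,1,0,0,0,2⟩,⟨0,0,0,1,0,0,1⟩,⟨0,0,0,0,1,0,0⟩,⟨0,0,0,0,0,1,0⟩,⟨0,0,0,0,0,0,1⟩⟩,
  ⟨⟨1,0,1,2,1,1,1⟩,⟨0,1,0,0,0,0,2⟩,⟨0,0,1,0,0,0,2⟩,⟨0,0,0,1,0,0,2⟩,⟨0,0,0,0,1,0,2⟩,⟨0,0,0,0,0,1,0⟩,⟨0,0,0,0,0,0,1⟩⟩,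
  ⟨⟨1,1,0,2,1,1,1⟩,⟨0,1,0,0,0,0,2⟩,⟨0,0,1,0,0,0,2⟩,⟨0,0,0,1,0,0,2⟩,⟨0,0,0,0,1,0,0⟩,⟨0,0,0,0,0,1,2⟩,⟨0,0,0,0,0,0,1⟩⟩,
  ⟨⟨1,0,2,0,1,1,1⟩,⟨0,1,0,0,0,0,2⟩,⟨0,0,1,0,0,0,2⟩,⟨0,0,0,1,0,0,0⟩,⟨0,0,0,0,1,0,1⟩,⟨0,0,0,0,0,1,0⟩,⟨0,0,0,0,0,0,1⟩⟩,
  ⟨⟨1,1,1,0,1,1,1⟩,⟨0,1,0,0,0,0,2⟩,⟨0,0,1,0,0,0,2⟩,⟨0,0,0,1,0,0,0⟩,⟨0,0,0,0,1,0,2⟩,⟨0,0,0,0,0,1,2⟩,⟨0,0,0,0,0,0,1⟩⟩,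
  ⟨⟨1,2,0,0,1,1,1⟩,⟨0,1,0,0,0,0,2⟩,⟨0,0,1,0,0,0,2⟩,⟨0,0,0,1,0,0,0⟩,⟨0,0,0,0,1,0,0⟩,⟨0,0,0,0,0,1,1⟩,⟨0,0,0,0,0,0,1⟩⟩,
  ⟨⟨1,0,1,1,0,1,2⟩,⟨0,1,0,0,0,0,2⟩,⟨0,0,1,0,0,0,0⟩,⟨0,0,0,1,0,0,1⟩,⟨0,0,0,0,1,0,2⟩,⟨0,0,0,0,0,1,0⟩,⟨0,0,0,0,0,0,1⟩⟩,
  ⟨⟨1,1,0,1,0,1,1⟩,⟨0,1,0,0,0,0,2⟩,⟨0,0,1,0,0,0,0⟩,⟨0,0,0,1,0,0,1⟩,⟨0,0,0,0,1,0,0⟩,⟨0,0,0,0,0,1,2⟩,⟨0,0,0,0,0,0,1⟩⟩,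
  ⟨⟨1,0,2,2,0,1,2⟩,⟨0,1,0,0,0,0,2⟩,⟨0,0,1,0,0,0,0⟩,⟨0,0,0,1,0,0,2⟩,⟨0,0,0,0,1,0,1⟩,⟨0,0,0,0,0,1,0⟩,⟨0,0,0,0,0,0,1⟩⟩,
  ⟨⟨1,1,1,2,0,1,1⟩,⟨0,1,0,0,0,0,2⟩,⟨0,0,1,0,0,0,0⟩,⟨0,0,0,1,0,0,2⟩,⟨0,0,0,0,1,0,2⟩,⟨0,0,0,0,0,1,2⟩,⟨0,0,0,0,0,0,1⟩⟩,
  ⟨⟨1,2,0,2,0,1,0⟩,⟨0,1,0,0,0,0,2⟩,⟨0,0,1,0,0,0,0⟩,⟨0,0,0,1,0,0,2⟩,⟨0,0,0,0,1,0,0⟩,⟨0,0,0,0,0,1,1⟩,⟨0,0,0,0,0,0,1⟩⟩,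
  ⟨⟨1,1,2,0,0,1,2⟩,⟨0,1,0,0,0,0,2⟩,⟨0,0,1,0,0,0,0⟩,⟨0,0,0,1,0,0,0⟩,⟨0,0,0,0,1,0,1⟩,⟨0,0,0,0,0,1,2⟩,⟨0,0,0,0,0,0,1⟩⟩,
  ⟨⟨1,2,1,0,0,1,1⟩,⟨0,1,0,0,0,0,2⟩,⟨0,0,1,0,0,0,0⟩,⟨0,0,0,1,0,0,0⟩,⟨0,0,0,0,1,0,2⟩,⟨0,0,0,0,0,1,1⟩,⟨0,0,0,0,0,0,1⟩⟩,
  ⟨⟨1,0,0,1,2,0,2⟩,⟨0,1,0,0,0,0,0⟩,⟨0,0,1,0,0,0,1⟩,⟨0,0,0,1,0,0,1⟩,⟨0,0,0,0,1,0,0⟩,⟨0,0,0,0,0,1,0⟩,⟨0,0,0,0,0,0,1⟩⟩,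
  ⟨⟨1,0,1,2,2,0,0⟩,⟨0,1,0,0,0,0,0⟩,⟨0,0,1,0,0,0,1⟩,⟨0,0,0,1,0,0,2⟩,⟨0,0,0,0,1,0,2⟩,⟨0,0,0,0,0,1,0⟩,⟨0,0,0,0,0,0,1⟩⟩,
  ⟨⟨1,1,0,2,2,0,2⟩,⟨0,1,0,0,0,0,0⟩,⟨0,0,1,0,0,0,1⟩,⟨0,0,0,1,0,0,2⟩,⟨0,0,0,0,1,0,0⟩,⟨0,0,0,0,0,1,2⟩,⟨0,0,0,0,0,0,1⟩⟩,
  ⟨⟨1,0,2,0,2,0,2⟩,⟨0,1,0,0,0,0,0⟩,⟨0,0,1,0,0,0,1⟩,⟨0,0,0,1,0,0,0⟩,⟨0,0,0,0,1,0,1⟩,⟨0,0,0,0,0,1,0⟩,⟨0,0,0,0,0,0,1⟩⟩,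
  ⟨⟨1,1,1,0,2,0,1⟩,⟨0,1,0,0,0,0,0⟩,⟨0,0,1,0,0,0,1⟩,⟨0,0,0,1,0,0,0⟩,⟨0,0,0,0,1,0,2⟩,⟨0,0,0,0,0,1,2⟩,⟨0,0,0,0,0,0,1⟩⟩,
  ⟨⟨1,2,0,0,2,0,0⟩,⟨0,1,0,0,0,0,0⟩,⟨0,0,1,0,0,0,1⟩,⟨0,0,0,1,0,0,0⟩,⟨0,0,0,0,1,0,0⟩,⟨0,0,0,0,0,1,1⟩,⟨0,0,0,0,0,0,1⟩⟩,
  ⟨⟨1,0,1,1,1,0,1⟩,⟨0,1,0,0,0,0,0⟩,⟨0,0,1,0,0,0,2⟩,⟨0,0,0,1,0,0,1⟩,⟨0,0,0,0,1,0,2⟩,⟨0,0,0,0,0,1,0⟩,⟨0,0,0,0,0,0,1⟩⟩,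
  ⟨⟨1,1,0,1,1,0,2⟩,⟨0,1,0,0,0,0,0⟩,⟨0,0,1,0,0,0,2⟩,⟨0,0,0,1,0,0,1⟩,⟨0,0,0,0,1,0,0⟩,⟨0,0,0,0,0,1,2⟩,⟨0,0,0,0,0,0,1⟩⟩,
  ⟨⟨1,0,2,2,1,0,0⟩,⟨0,1,0,0,0,0,0⟩,⟨0,0,1,0,0,0,2⟩,⟨0,0,0,1,0,0,2⟩,⟨0,0,0,0,1,0,1⟩,⟨0,0,0,0,0,1,0⟩,⟨0,0,0,0,0,0,1⟩⟩,
  ⟨⟨1,1,1,2,1,0,1⟩,⟨0,1,0,0,0,0,0⟩,⟨0,0,1,0,0,0,2⟩,⟨0,0,0,1,0,0,2⟩,⟨0,0,0,0,1,0,2⟩,⟨0,0,0,0,0,1,2⟩,⟨0,0,0,0,0,0,1⟩⟩,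
  ⟨⟨1,2,0,2,1,0,2⟩,⟨0,1,0,0,0,0,0⟩,⟨0,0,1,0,0,0,2⟩,⟨0,0,0,1,0,0,2⟩,⟨0,0,0,0,1,0,0⟩,⟨0,0,0,0,0,1,1⟩,⟨0,0,0,0,0,0,1⟩⟩,
  ⟨⟨1,1,2,0,1,0,1⟩,⟨0,1,0,0,0,0,0⟩,⟨0,0,1,0,0,0,2⟩,⟨0,0,0,1,0,0,0⟩,⟨0,0,0,0,1,0,1⟩,⟨0,0,0,0,0,1,2⟩,⟨0,0,0,0,0,0,1⟩⟩,
  ⟨⟨1,2,1,0,1,0,2⟩,⟨0,1,0,0,0,0,0⟩,⟨0,0,1,0,0,0,2⟩,⟨0,0,0,1,0,0,0⟩,⟨0,0,0,0,1,0,2⟩,⟨0,0,0,0,0,1,1⟩,⟨0,0,0,0,0,0,1⟩⟩,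
  ⟨⟨1,0,2,1,0,0,2⟩,⟨0,1,0,0,0,0,0⟩,⟨0,0,1,0,0,0,0⟩,⟨0,0,0,1,0,0,1⟩,⟨0,0,0,0,1,0,1⟩,⟨0,0,0,0,0,1,0⟩,⟨0,0,0,0,0,0,1⟩⟩,
  ⟨⟨1,1,1,1,0,0,2⟩,⟨0,1,0,0,0,0,0⟩,⟨0,0,1,0,0,0,0⟩,⟨0,0,0,1,0,0,1⟩,⟨0,0,0,0,1,0,2⟩,⟨0,0,0,0,0,1,2⟩,⟨0,0,0,0,0,0,1⟩⟩,
  ⟨⟨1,2,0,1,0,0,2⟩,⟨0,1,0,0,0,0,0⟩,⟨0,0,1,0,0,0,0⟩,⟨0,0,0,1,0,0,1⟩,⟨0,0,0,0,1,0,0⟩,⟨0,0,0,0,0,1,1⟩,⟨0,0,0,0,0,0,1⟩⟩,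
  ⟨⟨1,1,2,2,0,0,2⟩,⟨0,1,0,0,0,0,0⟩,⟨0,0,1,0,0,0,0⟩,⟨0,0,0,1,0,0,2⟩,⟨0,0,0,0,1,0,1⟩,⟨0,0,0,0,0,1,2⟩,⟨0,0,0,0,0,0,1⟩⟩,
  ⟨⟨1,2,1,2,0,0,2⟩,⟨0,1,0,0,0,0,0⟩,⟨0,0,1,0,0,0,0⟩,⟨0,0,0,1,0,0,2⟩,⟨0,0,0,0,1,0,2⟩,⟨0,0,0,0,0,1,1⟩,⟨0,0,0,0,0,0,1⟩⟩,
  ⟨⟨1,2,2,0,0,0,0⟩,⟨0,1,0,0,0,0,0⟩,⟨0,0,1,0,0,0,0⟩,⟨0,0,0,1,0,0,0⟩,⟨0,0,0,0,1,0,1⟩,⟨0,0,0,0,0,1,1⟩,⟨0,0,0,0,0,0,1⟩⟩,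
  ⟨⟨1,0,0,2,2,2,2⟩,⟨0,1,0,0,0,0,1⟩,⟨0,0,1,0,0,0,1⟩,⟨0,0,0,1,0,0,2⟩,⟨0,0,0,0,1,0,0⟩,⟨0,0,0,0,0,1,0⟩,⟨0,0,0,0,0,0,1⟩⟩,
  ⟨⟨1,0,1,0,2,2,1⟩,⟨0,1,0,0,0,0,1⟩,⟨0,0,1,0,0,0,1⟩,⟨0,0,0,1,0,0,0⟩,⟨0,0,0,0,1,0,2⟩,⟨0,0,0,0,0,1,0⟩,⟨0,0,0,0,0,0,1⟩⟩,
  ⟨⟨1,1,0,0,2,2,1⟩,⟨0,1,0,0,0,0,1⟩,⟨0,0,1,0,0,0,1⟩,⟨0,0,0,1,0,0,0⟩,⟨0,0,0,0,1,0,0⟩,⟨0,0,0,0,0,1,2⟩,⟨0,0,0,0,0,0,1⟩⟩,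
  ⟨⟨1,0,0,1,1,2,2⟩,⟨0,1,0,0,0,0,1⟩,⟨0,0,1,0,0,0,2⟩,⟨0,0,0,1,0,0,1⟩,⟨0,0,0,0,1,0,0⟩,⟨0,0,0,0,0,1,0⟩,⟨0,0,0,0,0,0,1⟩⟩,
  ⟨⟨1,0,1,2,1,2,1⟩,⟨0,1,0,0,0,0,1⟩,⟨0,0,1,0,0,0,2⟩,⟨0,0,0,1,0,0,2⟩,⟨0,0,0,0,1,0,2⟩,⟨0,0,0,0,0,1,0⟩,⟨0,0,0,0,0,0,1⟩⟩,
  ⟨⟨1,1,0,2,1,2,0⟩,⟨0,1,0,0,0,0,1⟩,⟨0,0,1,0,0,0,2⟩,⟨0,0,0,1,0,0,2⟩,⟨0,0,0,0,1,0,0⟩,⟨0,0,0,0,0,1,2⟩,⟨0,0,0,0,0,0,1⟩⟩,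
  ⟨⟨1,0,2,0,1,2,1⟩,⟨0,1,0,0,0,0,1⟩,⟨0,0,1,0,0,0,2⟩,⟨0,0,0,1,0,0,0⟩,⟨0,0,0,0,1,0,1⟩,⟨0,0,0,0,0,1,0⟩,⟨0,0,0,0,0,0,1⟩⟩,
  ⟨⟨1,1,1,0,1,2,0⟩,⟨0,1,0,0,0,0,1⟩,⟨0,0,1,0,0,0,2⟩,⟨0,0,0,1,0,0,0⟩,⟨0,0,0,0,1,0,2⟩,⟨0,0,0,0,0,1,2⟩,⟨0,0,0,0,0,0,1⟩⟩,
  ⟨⟨1,2,0,0,1,2,2⟩,⟨0,1,0,0,0,0,1⟩,⟨0,0,1,0,0,0,2⟩,⟨0,0,0,1,0,0,0⟩,⟨0,0,0,0,1,0,0⟩,⟨0,0,0,0,0,1,1⟩,⟨0,0,0,0,0,0,1⟩⟩,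
  ⟨⟨1,0,1,1,0,2,2⟩,⟨0,1,0,0,0,0,1⟩,⟨0,0,1,0,0,0,0⟩,⟨0,0,0,1,0,0,1⟩,⟨0,0,0,0,1,0,2⟩,⟨0,0,0,0,0,1,0⟩,⟨0,0,0,0,0,0,1⟩⟩,
  ⟨⟨1,1,0,1,0,2,0⟩,⟨0,1,0,0,0,0,1⟩,⟨0,0,1,0,0,0,0⟩,⟨0,0,0,1,0,0,1⟩,⟨0,0,0,0,1,0,0⟩,⟨0,0,0,0,0,1,2⟩,⟨0,0,0,0,0,0,1⟩⟩,
  ⟨⟨1,0,2,2,0,2,2⟩,⟨0,1,0,0,0,0,1⟩,⟨0,0,1,0,0,0,0⟩,⟨0,0,0,1,0,0,2⟩,⟨0,0,0,0,1,0,1⟩,⟨0,0,0,0,0,1,0⟩,⟨0,0,0,0,0,0,1⟩⟩,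
  ⟨⟨1,1,1,2,0,2,0⟩,⟨0,1,0,0,0,0,1⟩,⟨0,0,1,0,0,0,0⟩,⟨0,0,0,1,0,0,2⟩,⟨0,0,0,0,1,0,2⟩,⟨0,0,0,0,0,1,2⟩,⟨0,0,0,0,0,0,1⟩⟩,
  ⟨⟨1,2,0,2,0,2,1⟩,⟨0,1,0,0,0,0,1⟩,⟨0,0,1,0,0,0,0⟩,⟨0,0,0,1,0,0,2⟩,⟨0,0,0,0,1,0,0⟩,⟨0,0,0,0,0,1,1⟩,⟨0,0,0,0,0,0,1⟩⟩,
  ⟨⟨1,1,2,0,0,2,1⟩,⟨0,1,0,0,0,0,1⟩,⟨0,0,1,0,0,0,0⟩,⟨0,0,0,1,0,0,0⟩,⟨0,0,0,0,1,0,1⟩,⟨0,0,0,0,0,1,2⟩,⟨0,0,0,0,0,0,1⟩⟩,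
  ⟨⟨1,2,1,0,0,2,2⟩,⟨0,1,0,0,0,0,1⟩,⟨0,0,1,0,0,0,0⟩,⟨0,0,0,1,0,0,0⟩,⟨0,0,0,0,1,0,2⟩,⟨0,0,0,0,0,1,1⟩,⟨0,0,0,0,0,0,1⟩⟩,
  ⟨⟨1,0,0,1,2,1,2⟩,⟨0,1,0,0,0,0,2⟩,⟨0,0,1,0,0,0,1⟩,⟨0,0,0,1,0,0,1⟩,⟨0,0,0,0,1,0,0⟩,⟨0,0,0,0,0,1,0⟩,⟨0,0,0,0,0,0,1⟩⟩,
  ⟨⟨1,0,1,2,2,1,0⟩,⟨0,1,0,0,0,0,2⟩,⟨0,0,1,0,0,0,1⟩,⟨0,0,0,1,0,0,2⟩,⟨0,0,0,0,1,0,2⟩,⟨0,0,0,0,0,1,0⟩,⟨0,0,0,0,0,0,1⟩⟩,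
  ⟨⟨1,1,0,2,2,1,1⟩,⟨0,1,0,0,0,0,2⟩,⟨0,0,1,0,0,0,1⟩,⟨0,0,0,1,0,0,2⟩,⟨0,0,0,0,1,0,0⟩,⟨0,0,0,0,0,1,2⟩,⟨0,0,0,0,0,0,1⟩⟩,
  ⟨⟨1,0,2,0,2,1,2⟩,⟨0,1,0,0,0,0,2⟩,⟨0,0,1,0,0,0,1⟩,⟨0,0,0,1,0,0,0⟩,⟨0,0,0,0,1,0,1⟩,⟨0,0,0,0,0,1,0⟩,⟨0,0,0,0,0,0,1⟩⟩,
  ⟨⟨1,1,1,0,2,1,0⟩,⟨0,1,0,0,0,0,2⟩,⟨0,0,1,0,0,0,1⟩,⟨0,0,0,1,0,0,0⟩,⟨0,0,0,0,1,0,2⟩,⟨0,0,0,0,0,1,2⟩,⟨0,0,0,0,0,0,1⟩⟩,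
  ⟨⟨1,2,0,0,2,1,1⟩,⟨0,1,0,0,0,0,2⟩,⟨0,0,1,0,0,0,1⟩,⟨0,0,0,1,0,0,0⟩,⟨0,0,0,0,1,0,0⟩,⟨0,0,0,0,0,1,1⟩,⟨0,0,0,0,0,0,1⟩⟩,
  ⟨⟨1,0,1,1,1,1,1⟩,⟨0,1,0,0,0,0,2⟩,⟨0,0,1,0,0,0,2⟩,⟨0,0,0,1,0,0,1⟩,⟨0,0,0,0,1,0,2⟩,⟨0,0,0,0,0,1,0⟩,⟨0,0,0,0,0,0,1⟩⟩,
  ⟨⟨1,1,0,1,1,1,1⟩,⟨0,1,0,0,0,0,2⟩,⟨0,0,1,0,0,0,2⟩,⟨0,0,0,1,0,0,1⟩,⟨0,0,0,0,1,0,0⟩,⟨0,0,0,0,0,1,2⟩,⟨0,0,0,0,0,0,1⟩⟩,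
  ⟨⟨1,0,2,2,1,1,0⟩,⟨0,1,0,0,0,0,2⟩,⟨0,0,1,0,0,0,2⟩,⟨0,0,0,1,0,0,2⟩,⟨0,0,0,0,1,0,1⟩,⟨0,0,0,0,0,1,0⟩,⟨0,0,0,0,0,0,1⟩⟩,
  ⟨⟨1,1,1,2,1,1,0⟩,⟨0,1,0,0,0,0,2⟩,⟨0,0,1,0,0,0,2⟩,⟨0,0,0,1,0,0,2⟩,⟨0,0,0,0,1,0,2⟩,⟨0,0,0,0,0,1,2⟩,⟨0,0,0,0,0,0,1⟩⟩,
  ⟨⟨1,2,0,2,1,1,0⟩,⟨0,1,0,0,0,0,2⟩,⟨0,0,1,0,0,0,2⟩,⟨0,0,0,1,0,0,2⟩,⟨0,0,0,0,1,0,0⟩,⟨0,0,0,0,0,1,1⟩,⟨0,0,0,0,0,0,1⟩⟩,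
  ⟨⟨1,1,2,0,1,1,0⟩,⟨0,1,0,0,0,0,2⟩,⟨0,0,1,0,0,0,2⟩,⟨0,0,0,1,0,0,0⟩,⟨0,0,0,0,1,0,1⟩,⟨0,0,0,0,0,1,2⟩,⟨0,0,0,0,0,0,1⟩⟩,
  ⟨⟨1,2,1,0,1,1,0⟩,⟨0,1,0,0,0,0,2⟩,⟨0,0,1,0,0,0,2⟩,⟨0,0,0,1,0,0,0⟩,⟨0,0,0,0,1,0,2⟩,⟨0,0,0,0,0,1,1⟩,⟨0,0,0,0,0,0,1⟩⟩,
  ⟨⟨1,0,2,1,0,1,2⟩,⟨0,1,0,0,0,0,2⟩,⟨0,0,1,0,0,0,0⟩,⟨0,0,0,1,0,0,1⟩,⟨0,0,0,0,1,0,1⟩,⟨0,0,0,0,0,1,0⟩,⟨0,0,0,0,0,0,1⟩⟩,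
  ⟨⟨1,1,1,1,0,1,1⟩,⟨0,1,0,0,0,0,2⟩,⟨0,0,1,0,0,0,0⟩,⟨0,0,0,1,0,0,1⟩,⟨0,0,0,0,1,0,2⟩,⟨0,0,0,0,0,1,2⟩,⟨0,0,0,0,0,0,1⟩⟩,
  ⟨⟨1,2,0,1,0,1,0⟩,⟨0,1,0,0,0,0,2⟩,⟨0,0,1,0,0,0,0⟩,⟨0,0,0,1,0,0,1⟩,⟨0,0,0,0,1,0,0⟩,⟨0,0,0,0,0,1,1⟩,⟨0,0,0,0,0,0,1⟩⟩,
  ⟨⟨1,1,2,2,0,1,1⟩,⟨0,1,0,0,0,0,2⟩,⟨0,0,1,0,0,0,0⟩,⟨0,0,0,1,0,0,2⟩,⟨0,0,0,0,1,0,1⟩,⟨0,0,0,0,0,1,2⟩,⟨0,0,0,0,0,0,1⟩⟩,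
  ⟨⟨1,2,1,2,0,1,0⟩,⟨0,1,0,0,0,0,2⟩,⟨0,0,1,0,0,0,0⟩,⟨0,0,0,1,0,0,2⟩,⟨0,0,0,0,1,0,2⟩,⟨0,0,0,0,0,1,1⟩,⟨0,0,0,0,0,0,1⟩⟩,
  ⟨⟨1,2,2,0,0,1,1⟩,⟨0,1,0,0,0,0,2⟩,⟨0,0,1,0,0,0,0⟩,⟨0,0,0,1,0,0,0⟩,⟨0,0,0,0,1,0,1⟩,⟨0,0,0,0,0,1,1⟩,⟨0,0,0,0,0,0,1⟩⟩,
  ⟨⟨1,0,1,1,2,0,0⟩,⟨0,1,0,0,0,0,0⟩,⟨0,0,1,0,0,0,1⟩,⟨0,0,0,1,0,0,1⟩,⟨0,0,0,0,1,0,2⟩,⟨0,0,0,0,0,1,0⟩,⟨0,0,0,0,0,0,1⟩⟩,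
  ⟨⟨1,1,0,1,2,0,2⟩,⟨0,1,0,0,0,0,0⟩,⟨0,0,1,0,0,0,1⟩,⟨0,0,0,1,0,0,1⟩,⟨0,0,0,0,1,0,0⟩,⟨0,0,0,0,0,1,2⟩,⟨0,0,0,0,0,0,1⟩⟩,
  ⟨⟨1,0,2,2,2,0,1⟩,⟨0,1,0,0,0,0,0⟩,⟨0,0,1,0,0,0,1⟩,⟨0,0,0,1,0,0,2⟩,⟨0,0,0,0,1,0,1⟩,⟨0,0,0,0,0,1,0⟩,⟨0,0,0,0,0,0,1⟩⟩,
  ⟨⟨1,1,1,2,2,0,0⟩,⟨0,1,0,0,0,0,0⟩,⟨0,0,1,0,0,0,1⟩,⟨0,0,0,1,0,0,2⟩,⟨0,0,0,0,1,0,2⟩,⟨0,0,0,0,0,1,2⟩,⟨0,0,0,0,0,0,1⟩⟩,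
  ⟨⟨1,2,0,2,2,0,2⟩,⟨0,1,0,0,0,0,0⟩,⟨0,0,1,0,0,0,1⟩,⟨0,0,0,1,0,0,2⟩,⟨0,0,0,0,1,0,0⟩,⟨0,0,0,0,0,1,1⟩,⟨0,0,0,0,0,0,1⟩⟩,
  ⟨⟨1,1,2,0,2,0,2⟩,⟨0,1,0,0,0,0,0⟩,⟨0,0,1,0,0,0,1⟩,⟨0,0,0,1,0,0,0⟩,⟨0,0,0,0,1,0,1⟩,⟨0,0,0,0,0,1,2⟩,⟨0,0,0,0,0,0,1⟩⟩,
  ⟨⟨1,2,1,0,2,0,1⟩,⟨0,1,0,0,0,0,0⟩,⟨0,0,1,0,0,0,1⟩,⟨0,0,0,1,0,0,0⟩,⟨0,0,0,0,1,0,2⟩,⟨0,0,0,0,0,1,1⟩,⟨0,0,0,0,0,0,1⟩⟩,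
  ⟨⟨1,0,2,1,1,0,0⟩,⟨0,1,0,0,0,0,0⟩,⟨0,0,1,0,0,0,2⟩,⟨0,0,0,1,0,0,1⟩,⟨0,0,0,0,1,0,1⟩,⟨0,0,0,0,0,1,0⟩,⟨0,0,0,0,0,0,1⟩⟩,
  ⟨⟨1,1,1,1,1,0,1⟩,⟨0,1,0,0,0,0,0⟩,⟨0,0,1,0,0,0,2⟩,⟨0,0,0,1,0,0,1⟩,⟨0,0,0,0,1,0,2⟩,⟨0,0,0,0,0,1,2⟩,⟨0,0,0,0,0,0,1⟩⟩,
  ⟨⟨1,2,0,1,1,0,2⟩,⟨0,1,0,0,0,0,0⟩,⟨0,0,1,0,0,0,2⟩,⟨0,0,0,1,0,0,1⟩,⟨0,0,0,0,1,0,0⟩,⟨0,0,0,0,0,1,1⟩,⟨0,0,0,0,0,0,1⟩⟩,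
  ⟨⟨1,1,2,2,1,0,0⟩,⟨0,1,0,0,0,0,0⟩,⟨0,0,1,0,0,0,2⟩,⟨0,0,0,1,0,0,2⟩,⟨0,0,0,0,1,0,1⟩,⟨0,0,0,0,0,1,2⟩,⟨0,0,0,0,0,0,1⟩⟩,
  ⟨⟨1,2,1,2,1,0,1⟩,⟨0,1,0,0,0,0,0⟩,⟨0,0,1,0,0,0,2⟩,⟨0,0,0,1,0,0,2⟩,⟨0,0,0,0,1,0,2⟩,⟨0,0,0,0,0,1,1⟩,⟨0,0,0,0,0,0,1⟩⟩,
  ⟨⟨1,2,2,0,1,0,1⟩,⟨0,1,0,0,0,0,0⟩,⟨0,0,1,0,0,0,2⟩,⟨0,0,0,1,0,0,0⟩,⟨0,0,0,0,1,0,1⟩,⟨0,0,0,0,0,1,1⟩,⟨0,0,0,0,0,0,1⟩⟩,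
  ⟨⟨1,1,2,1,0,0,2⟩,⟨0,1,0,0,0,0,0⟩,⟨0,0,1,0,0,0,0⟩,⟨0,0,0,1,0,0,1⟩,⟨0,0,0,0,1,0,1⟩,⟨0,0,0,0,0,1,2⟩,⟨0,0,0,0,0,0,1⟩⟩,
  ⟨⟨1,2,1,1,0,0,2⟩,⟨0,1,0,0,0,0,0⟩,⟨0,0,1,0,0,0,0⟩,⟨0,0,0,1,0,0,1⟩,⟨0,0,0,0,1,0,2⟩,⟨0,0,0,0,0,1,1⟩,⟨0,0,0,0,0,0,1⟩⟩,
  ⟨⟨1,2,2,2,0,0,2⟩,⟨0,1,0,0,0,0,0⟩,⟨0,0,1,0,0,0,0⟩,⟨0,0,0,1,0,0,2⟩,⟨0,0,0,0,1,0,1⟩,⟨0,0,0,0,0,1,1⟩,⟨0,0,0,0,0,0,1⟩⟩,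
  ⟨⟨1,0,0,1,2,2,2⟩,⟨0,1,0,0,0,0,1⟩,⟨0,0,1,0,0,0,1⟩,⟨0,0,0,1,0,0,1⟩,⟨0,0,0,0,1,0,0⟩,⟨0,0,0,0,0,1,0⟩,⟨0,0,0,0,0,0,1⟩⟩,
  ⟨⟨1,0,1,2,2,2,0⟩,⟨0,1,0,0,0,0,1⟩,⟨0,0,1,0,0,0,1⟩,⟨0,0,0,1,0,0,2⟩,⟨0,0,0,0,1,0,2⟩,⟨0,0,0,0,0,1,0⟩,⟨0,0,0,0,0,0,1⟩⟩,
  ⟨⟨1,1,0,2,2,2,0⟩,⟨0,1,0,0,0,0,1⟩,⟨0,0,1,0,0,0,1⟩,⟨0,0,0,1,0,0,2⟩,⟨0,0,0,0,1,0,0⟩,⟨0,0,0,0,0,1,2⟩,⟨0,0,0,0,0,0,1⟩⟩,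
  ⟨⟨1,0,2,0,2,2,2⟩,⟨0,1,0,0,0,0,1⟩,⟨0,0,1,0,0,0,1⟩,⟨0,0,0,1,0,0,0⟩,⟨0,0,0,0,1,0,1⟩,⟨0,0,0,0,0,1,0⟩,⟨0,0,0,0,0,0,1⟩⟩,
  ⟨⟨1,1,1,0,2,2,2⟩,⟨0,1,0,0,0,0,1⟩,⟨0,0,1,0,0,0,1⟩,⟨0,0,0,1,0,0,0⟩,⟨0,0,0,0,1,0,2⟩,⟨0,0,0,0,0,1,2⟩,⟨0,0,0,0,0,0,1⟩⟩,
  ⟨⟨1,2,0,0,2,2,2⟩,⟨0,1,0,0,0,0,1⟩,⟨0,0,1,0,0,0,1⟩,⟨0,0,0,1,0,0,0⟩,⟨0,0,0,0,1,0,0⟩,⟨0,0,0,0,0,1,1⟩,⟨0,0,0,0,0,0,1⟩⟩,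
  ⟨⟨1,0,1,1,1,2,1⟩,⟨0,1,0,0,0,0,1⟩,⟨0,0,1,0,0,0,2⟩,⟨0,0,0,1,0,0,1⟩,⟨0,0,0,0,1,0,2⟩,⟨0,0,0,0,0,1,0⟩,⟨0,0,0,0,0,0,1⟩⟩,
  ⟨⟨1,1,0,1,1,2,0⟩,⟨0,1,0,0,0,0,1⟩,⟨0,0,1,0,0,0,2⟩,⟨0,0,0,1,0,0,1⟩,⟨0,0,0,0,1,0,0⟩,⟨0,0,0,0,0,1,2⟩,⟨0,0,0,0,0,0,1⟩⟩,
  ⟨⟨1,0,2,2,1,2,0⟩,⟨0,1,0,0,0,0,1⟩,⟨0,0,1,0,0,0,2⟩,⟨0,0,0,1,0,0,2⟩,⟨0,0,0,0,1,0,1⟩,⟨0,0,0,0,0,1,0⟩,⟨0,0,0,0,0,0,1⟩⟩,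
  ⟨⟨1,1,1,2,1,2,2⟩,⟨0,1,0,0,0,0,1⟩,⟨0,0,1,0,0,0,2⟩,⟨0,0,0,1,0,0,2⟩,⟨0,0,0,0,1,0,2⟩,⟨0,0,0,0,0,1,2⟩,⟨0,0,0,0,0,0,1⟩⟩,
  ⟨⟨1,2,0,2,1,2,1⟩,⟨0,1,0,0,0,0,1⟩,⟨0,0,1,0,0,0,2⟩,⟨0,0,0,1,0,0,2⟩,⟨0,0,0,0,1,0,0⟩,⟨0,0,0,0,0,1,1⟩,⟨0,0,0,0,0,0,1⟩⟩,
  ⟨⟨1,1,2,0,1,2,2⟩,⟨0,1,0,0,0,0,1⟩,⟨0,0,1,0,0,0,2⟩,⟨0,0,0,1,0,0,0⟩,⟨0,0,0,0,1,0,1⟩,⟨0,0,0,0,0,1,2⟩,⟨0,0,0,0,0,0,1⟩⟩,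
  ⟨⟨1,2,1,0,1,2,1⟩,⟨0,1,0,0,0,0,1⟩,⟨0,0,1,0,0,0,2⟩,⟨0,0,0,1,0,0,0⟩,⟨0,0,0,0,1,0,2⟩,⟨0,0,0,0,0,1,1⟩,⟨0,0,0,0,0,0,1⟩⟩,
  ⟨⟨1,0,2,1,0,2,2⟩,⟨0,1,0,0,0,0,1⟩,⟨0,0,1,0,0,0,0⟩,⟨0,0,0,1,0,0,1⟩,⟨0,0,0,0,1,0,1⟩,⟨0,0,0,0,0,1,0⟩,⟨0,0,0,0,0,0,1⟩⟩,
  ⟨⟨1,1,1,1,0,2,0⟩,⟨0,1,0,0,0,0,1⟩,⟨0,0,1,0,0,0,0⟩,⟨0,0,0,1,0,0,1⟩,⟨0,0,0,0,1,0,2⟩,⟨0,0,0,0,0,1,2⟩,⟨0,0,0,0,0,0,1⟩⟩,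
  ⟨⟨1,2,0,1,0,2,1⟩,⟨0,1,0,0,0,0,1⟩,⟨0,0,1,0,0,0,0⟩,⟨0,0,0,1,0,0,1⟩,⟨0,0,0,0,1,0,0⟩,⟨0,0,0,0,0,1,1⟩,⟨0,0,0,0,0,0,1⟩⟩,
  ⟨⟨1,1,2,2,0,2,0⟩,⟨0,1,0,0,0,0,1⟩,⟨0,0,1,0,0,0,0⟩,⟨0,0,0,1,0,0,2⟩,⟨0,0,0,0,1,0,1⟩,⟨0,0,0,0,0,1,2⟩,⟨0,0,0,0,0,0,1⟩⟩,
  ⟨⟨1,2,1,2,0,2,1⟩,⟨0,1,0,0,0,0,1⟩,⟨0,0,1,0,0,0,0⟩,⟨0,0,0,1,0,0,2⟩,⟨0,0,0,0,1,0,2⟩,⟨0,0,0,0,0,1,1⟩,⟨0,0,0,0,0,0,1⟩⟩,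
  ⟨⟨1,2,2,0,0,2,2⟩,⟨0,1,0,0,0,0,1⟩,⟨0,0,1,0,0,0,0⟩,⟨0,0,0,1,0,0,0⟩,⟨0,0,0,0,1,0,1⟩,⟨0,0,0,0,0,1,1⟩,⟨0,0,0,0,0,0,1⟩⟩,
  ⟨⟨1,0,1,1,2,1,0⟩,⟨0,1,0,0,0,0,2⟩,⟨0,0,1,0,0,0,1⟩,⟨0,0,0,1,0,0,1⟩,⟨0,0,0,0,1,0,2⟩,⟨0,0,0,0,0,1,0⟩,⟨0,0,0,0,0,0,1⟩⟩,
  ⟨⟨1,1,0,1,2,1,1⟩,⟨0,1,0,0,0,0,2⟩,⟨0,0,1,0,0,0,1⟩,⟨0,0,0,1,0,0,1⟩,⟨0,0,0,0,1,0,0⟩,⟨0,0,0,0,0,1,2⟩,⟨0,0,0,0,0,0,1⟩⟩,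
  ⟨⟨1,0,2,2,2,1,1⟩,⟨0,1,0,0,0,0,2⟩,⟨0,0,1,0,0,0,1⟩,⟨0,0,0,1,0,0,2⟩,⟨0,0,0,0,1,0,1⟩,⟨0,0,0,0,0,1,0⟩,⟨0,0,0,0,0,0,1⟩⟩,
  ⟨⟨1,1,1,2,2,1,2⟩,⟨0,1,0,0,0,0,2⟩,⟨0,0,1,0,0,0,1⟩,⟨0,0,0,1,0,0,2⟩,⟨0,0,0,0,1,0,2⟩,⟨0,0,0,0,0,1,2⟩,⟨0,0,0,0,0,0,1⟩⟩,
  ⟨⟨1,2,0,2,2,1,0⟩,⟨0,1,0,0,0,0,2⟩,⟨0,0,1,0,0,0,1⟩,⟨0,0,0,1,0,0,2⟩,⟨0,0,0,0,1,0,0⟩,⟨0,0,0,0,0,1,1⟩,⟨0,0,0,0,0,0,1⟩⟩,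
  ⟨⟨1,1,2,0,2,1,1⟩,⟨0,1,0,0,0,0,2⟩,⟨0,0,1,0,0,0,1⟩,⟨0,0,0,1,0,0,0⟩,⟨0,0,0,0,1,0,1⟩,⟨0,0,0,0,0,1,2⟩,⟨0,0,0,0,0,0,1⟩⟩,
  ⟨⟨1,2,1,0,2,1,2⟩,⟨0,1,0,0,0,0,2⟩,⟨0,0,1,0,0,0,1⟩,⟨0,0,0,1,0,0,0⟩,⟨0,0,0,0,1,0,2⟩,⟨0,0,0,0,0,1,1⟩,⟨0,0,0,0,0,0,1⟩⟩,
  ⟨⟨1,0,2,1,1,1,0⟩,⟨0,1,0,0,0,0,2⟩,⟨0,0,1,0,0,0,2⟩,⟨0,0,0,1,0,0,1⟩,⟨0,0,0,0,1,0,1⟩,⟨0,0,0,0,0,1,0⟩,⟨0,0,0,0,0,0,1⟩⟩,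
  ⟨⟨1,1,1,1,1,1,0⟩,⟨0,1,0,0,0,0,2⟩,⟨0,0,1,0,0,0,2⟩,⟨0,0,0,1,0,0,1⟩,⟨0,0,0,0,1,0,2⟩,⟨0,0,0,0,0,1,2⟩,⟨0,0,0,0,0,0,1⟩⟩,
  ⟨⟨1,2,0,1,1,1,0⟩,⟨0,1,0,0,0,0,2⟩,⟨0,0,1,0,0,0,2⟩,⟨0,0,0,1,0,0,1⟩,⟨0,0,0,0,1,0,0⟩,⟨0,0,0,0,0,1,1⟩,⟨0,0,0,0,0,0,1⟩⟩,
  ⟨⟨1,1,2,2,1,1,2⟩,⟨0,1,0,0,0,0,2⟩,⟨0,0,1,0,0,0,2⟩,⟨0,0,0,1,0,0,2⟩,⟨0,0,0,0,1,0,1⟩,⟨0,0,0,0,0,1,2⟩,⟨0,0,0,0,0,0,1⟩⟩,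
  ⟨⟨1,2,1,2,1,1,2⟩,⟨0,1,0,0,0,0,2⟩,⟨0,0,1,0,0,0,2⟩,⟨0,0,0,1,0,0,2⟩,⟨0,0,0,0,1,0,2⟩,⟨0,0,0,0,0,1,1⟩,⟨0,0,0,0,0,0,1⟩⟩,
  ⟨⟨1,2,2,0,1,1,2⟩,⟨0,1,0,0,0,0,2⟩,⟨0,0,1,0,0,0,2⟩,⟨0,0,0,1,0,0,0⟩,⟨0,0,0,0,1,0,1⟩,⟨0,0,0,0,0,1,1⟩,⟨0,0,0,0,0,0,1⟩⟩,
  ⟨⟨1,1,2,1,0,1,1⟩,⟨0,1,0,0,0,0,2⟩,⟨0,0,1,0,0,0,0⟩,⟨0,0,0,1,0,0,1⟩,⟨0,0,0,0,1,0,1⟩,⟨0,0,0,0,0,1,2⟩,⟨0,0,0,0,0,0,1⟩⟩,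
  ⟨⟨1,2,1,1,0,1,0⟩,⟨0,1,0,0,0,0,2⟩,⟨0,0,1,0,0,0,0⟩,⟨0,0,0,1,0,0,1⟩,⟨0,0,0,0,1,0,2⟩,⟨0,0,0,0,0,1,1⟩,⟨0,0,0,0,0,0,1⟩⟩,
  ⟨⟨1,2,2,2,0,1,0⟩,⟨0,1,0,0,0,0,2⟩,⟨0,0,1,0,0,0,0⟩,⟨0,0,0,1,0,0,2⟩,⟨0,0,0,0,1,0,1⟩,⟨0,0,0,0,0,1,1⟩,⟨0,0,0,0,0,0,1⟩⟩,
  ⟨⟨1,0,2,1,2,0,1⟩,⟨0,1,0,0,0,0,0⟩,⟨0,0,1,0,0,0,1⟩,⟨0,0,0,1,0,0,1⟩,⟨0,0,0,0,1,0,1⟩,⟨0,0,0,0,0,1,0⟩,⟨0,0,0,0,0,0,1⟩⟩,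
  ⟨⟨1,1,1,1,2,0,0⟩,⟨0,1,0,0,0,0,0⟩,⟨0,0,1,0,0,0,1⟩,⟨0,0,0,1,0,0,1⟩,⟨0,0,0,0,1,0,2⟩,⟨0,0,0,0,0,1,2⟩,⟨0,0,0,0,0,0,1⟩⟩,
  ⟨⟨1,2,0,1,2,0,2⟩,⟨0,1,0,0,0,0,0⟩,⟨0,0,1,0,0,0,1⟩,⟨0,0,0,1,0,0,1⟩,⟨0,0,0,0,1,0,0⟩,⟨0,0,0,0,0,1,1⟩,⟨0,0,0,0,0,0,1⟩⟩,
  ⟨⟨1,1,2,2,2,0,1⟩,⟨0,1,0,0,0,0,0⟩,⟨0,0,1,0,0,0,1⟩,⟨0,0,0,1,0,0,2⟩,⟨0,0,0,0,1,0,1⟩,⟨0,0,0,0,0,1,2⟩,⟨0,0,0,0,0,0,1⟩⟩,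
  ⟨⟨1,2,1,2,2,0,0⟩,⟨0,1,0,0,0,0,0⟩,⟨0,0,1,0,0,0,1⟩,⟨0,0,0,1,0,0,2⟩,⟨0,0,0,0,1,0,2⟩,⟨0,0,0,0,0,1,1⟩,⟨0,0,0,0,0,0,1⟩⟩,
  ⟨⟨1,2,2,0,2,0,2⟩,⟨0,1,0,0,0,0,0⟩,⟨0,0,1,0,0,0,1⟩,⟨0,0,0,1,0,0,0⟩,⟨0,0,0,0,1,0,1⟩,⟨0,0,0,0,0,1,1⟩,⟨0,0,0,0,0,0,1⟩⟩,
  ⟨⟨1,1,2,1,1,0,0⟩,⟨0,1,0,0,0,0,0⟩,⟨0,0,1,0,0,0,2⟩,⟨0,0,0,1,0,0,1⟩,⟨0,0,0,0,1,0,1⟩,⟨0,0,0,0,0,1,2⟩,⟨0,0,0,0,0,0,1⟩⟩,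
  ⟨⟨1,2,1,1,1,0,1⟩,⟨0,1,0,0,0,0,0⟩,⟨0,0,1,0,0,0,2⟩,⟨0,0,0,1,0,0,1⟩,⟨0,0,0,0,1,0,2⟩,⟨0,0,0,0,0,1,1⟩,⟨0,0,0,0,0,0,1⟩⟩,
  ⟨⟨1,2,2,2,1,0,0⟩,⟨0,1,0,0,0,0,0⟩,⟨0,0,1,0,0,0,2⟩,⟨0,0,0,1,0,0,2⟩,⟨0,0,0,0,1,0,1⟩,⟨0,0,0,0,0,1,1⟩,⟨0,0,0,0,0,0,1⟩⟩,
  ⟨⟨1,2,2,1,0,0,2⟩,⟨0,1,0,0,0,0,0⟩,⟨0,0,1,0,0,0,0⟩,⟨0,0,0,1,0,0,1⟩,⟨0,0,0,0,1,0,1⟩,⟨0,0,0,0,0,1,1⟩,⟨0,0,0,0,0,0,1⟩⟩,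
  ⟨⟨1,0,1,1,2,2,0⟩,⟨0,1,0,0,0,0,1⟩,⟨0,0,1,0,0,0,1⟩,⟨0,0,0,1,0,0,1⟩,⟨0,0,0,0,1,0,2⟩,⟨0,0,0,0,0,1,0⟩,⟨0,0,0,0,0,0,1⟩⟩,
  ⟨⟨1,1,0,1,2,2,0⟩,⟨0,1,0,0,0,0,1⟩,⟨0,0,1,0,0,0,1⟩,⟨0,0,0,1,0,0,1⟩,⟨0,0,0,0,1,0,0⟩,⟨0,0,0,0,0,1,2⟩,⟨0,0,0,0,0,0,1⟩⟩,
  ⟨⟨1,0,2,2,2,2,1⟩,⟨0,1,0,0,0,0,1⟩,⟨0,0,1,0,0,0,1⟩,⟨0,0,0,1,0,0,2⟩,⟨0,0,0,0,1,0,1⟩,⟨0,0,0,0,0,1,0⟩,⟨0,0,0,0,0,0,1⟩⟩,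
  ⟨⟨1,1,1,2,2,2,1⟩,⟨0,1,0,0,0,0,1⟩,⟨0,0,1,0,0,0,1⟩,⟨0,0,0,1,0,0,2⟩,⟨0,0,0,0,1,0,2⟩,⟨0,0,0,0,0,1,2⟩,⟨0,0,0,0,0,0,1⟩⟩,
  ⟨⟨1,2,0,2,2,2,1⟩,⟨0,1,0,0,0,0,1⟩,⟨0,0,1,0,0,0,1⟩,⟨0,0,0,1,0,0,2⟩,⟨0,0,0,0,1,0,0⟩,⟨0,0,0,0,0,1,1⟩,⟨0,0,0,0,0,0,1⟩⟩,
  ⟨⟨1,1,2,0,2,2,0⟩,⟨0,1,0,0,0,0,1⟩,⟨0,0,1,0,0,0,1⟩,⟨0,0,0,1,0,0,0⟩,⟨0,0,0,0,1,0,1⟩,⟨0,0,0,0,0,1,2⟩,⟨0,0,0,0,0,0,1⟩⟩,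
  ⟨⟨1,2,1,0,2,2,0⟩,⟨0,1,0,0,0,0,1⟩,⟨0,0,1,0,0,0,1⟩,⟨0,0,0,1,0,0,0⟩,⟨0,0,0,0,1,0,2⟩,⟨0,0,0,0,0,1,1⟩,⟨0,0,0,0,0,0,1⟩⟩,
  ⟨⟨1,0,2,1,1,2,0⟩,⟨0,1,0,0,0,0,1⟩,⟨0,0,1,0,0,0,2⟩,⟨0,0,0,1,0,0,1⟩,⟨0,0,0,0,1,0,1⟩,⟨0,0,0,0,0,1,0⟩,⟨0,0,0,0,0,0,1⟩⟩,
  ⟨⟨1,1,1,1,1,2,2⟩,⟨0,1,0,0,0,0,1⟩,⟨0,0,1,0,0,0,2⟩,⟨0,0,0,1,0,0,1⟩,⟨0,0,0,0,1,0,2⟩,⟨0,0,0,0,0,1,2⟩,⟨0,0,0,0,0,0,1⟩⟩,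
  ⟨⟨1,2,0,1,1,2,1⟩,⟨0,1,0,0,0,0,1⟩,⟨0,0,1,0,0,0,2⟩,⟨0,0,0,1,0,0,1⟩,⟨0,0,0,0,1,0,0⟩,⟨0,0,0,0,0,1,1⟩,⟨0,0,0,0,0,0,1⟩⟩,
  ⟨⟨1,1,2,2,1,2,1⟩,⟨0,1,0,0,0,0,1⟩,⟨0,0,1,0,0,0,2⟩,⟨0,0,0,1,0,0,2⟩,⟨0,0,0,0,1,0,1⟩,⟨0,0,0,0,0,1,2⟩,⟨0,0,0,0,0,0,1⟩⟩,
  ⟨⟨1,2,1,2,1,2,0⟩,⟨0,1,0,0,0,0,1⟩,⟨0,0,1,0,0,0,2⟩,⟨0,0,0,1,0,0,2⟩,⟨0,0,0,0,1,0,2⟩,⟨0,0,0,0,0,1,1⟩,⟨0,0,0,0,0,0,1⟩⟩,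
  ⟨⟨1,2,2,0,1,2,0⟩,⟨0,1,0,0,0,0,1⟩,⟨0,0,1,0,0,0,2⟩,⟨0,0,0,1,0,0,0⟩,⟨0,0,0,0,1,0,1⟩,⟨0,0,0,0,0,1,1⟩,⟨0,0,0,0,0,0,1⟩⟩,
  ⟨⟨1,1,2,1,0,2,0⟩,⟨0,1,0,0,0,0,1⟩,⟨0,0,1,0,0,0,0⟩,⟨0,0,0,1,0,0,1⟩,⟨0,0,0,0,1,0,1⟩,⟨0,0,0,0,0,1,2⟩,⟨0,0,0,0,0,0,1⟩⟩,
  ⟨⟨1,2,1,1,0,2,1⟩,⟨0,1,0,0,0,0,1⟩,⟨0,0,1,0,0,0,0⟩,⟨0,0,0,1,0,0,1⟩,⟨0,0,0,0,1,0,2⟩,⟨0,0,0,0,0,1,1⟩,⟨0,0,0,0,0,0,1⟩⟩,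
  ⟨⟨1,2,2,2,0,2,1⟩,⟨0,1,0,0,0,0,1⟩,⟨0,0,1,0,0,0,0⟩,⟨0,0,0,1,0,0,2⟩,⟨0,0,0,0,1,0,1⟩,⟨0,0,0,0,0,1,1⟩,⟨0,0,0,0,0,0,1⟩⟩,
  ⟨⟨1,0,2,1,2,1,1⟩,⟨0,1,0,0,0,0,2⟩,⟨0,0,1,0,0,0,1⟩,⟨0,0,0,1,0,0,1⟩,⟨0,0,0,0,1,0,1⟩,⟨0,0,0,0,0,1,0⟩,⟨0,0,0,0,0,0,1⟩⟩,
  ⟨⟨1,1,1,1,2,1,2⟩,⟨0,1,0,0,0,0,2⟩,⟨0,0,1,0,0,0,1⟩,⟨0,0,0,1,0,0,1⟩,⟨0,0,0,0,1,0,2⟩,⟨0,0,0,0,0,1,2⟩,⟨0,0,0,0,0,0,1⟩⟩,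
  ⟨⟨1,2,0,1,2,1,0⟩,⟨0,1,0,0,0,0,2⟩,⟨0,0,1,0,0,0,1⟩,⟨0,0,0,1,0,0,1⟩,⟨0,0,0,0,1,0,0⟩,⟨0,0,0,0,0,1,1⟩,⟨0,0,0,0,0,0,1⟩⟩,
  ⟨⟨1,1,2,2,2,1,0⟩,⟨0,1,0,0,0,0,2⟩,⟨0,0,1,0,0,0,1⟩,⟨0,0,0,1,0,0,2⟩,⟨0,0,0,0,1,0,1⟩,⟨0,0,0,0,0,1,2⟩,⟨0,0,0,0,0,0,1⟩⟩,
  ⟨⟨1,2,1,2,2,1,1⟩,⟨0,1,0,0,0,0,2⟩,⟨0,0,1,0,0,0,1⟩,⟨0,0,0,1,0,0,2⟩,⟨0,0,0,0,1,0,2⟩,⟨0,0,0,0,0,1,1⟩,⟨0,0,0,0,0,0,1⟩⟩,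
  ⟨⟨1,2,2,0,2,1,0⟩,⟨0,1,0,0,0,0,2⟩,⟨0,0,1,0,0,0,1⟩,⟨0,0,0,1,0,0,0⟩,⟨0,0,0,0,1,0,1⟩,⟨0,0,0,0,0,1,1⟩,⟨0,0,0,0,0,0,1⟩⟩,
  ⟨⟨1,1,2,1,1,1,2⟩,⟨0,1,0,0,0,0,2⟩,⟨0,0,1,0,0,0,2⟩,⟨0,0,0,1,0,0,1⟩,⟨0,0,0,0,1,0,1⟩,⟨0,0,0,0,0,1,2⟩,⟨0,0,0,0,0,0,1⟩⟩,
  ⟨⟨1,2,1,1,1,1,2⟩,⟨0,1,0,0,0,0,2⟩,⟨0,0,1,0,0,0,2⟩,⟨0,0,0,1,0,0,1⟩,⟨0,0,0,0,1,0,2⟩,⟨0,0,0,0,0,1,1⟩,⟨0,0,0,0,0,0,1⟩⟩,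
  ⟨⟨1,2,2,2,1,1,1⟩,⟨0,1,0,0,0,0,2⟩,⟨0,0,1,0,0,0,2⟩,⟨0,0,0,1,0,0,2⟩,⟨0,0,0,0,1,0,1⟩,⟨0,0,0,0,0,1,1⟩,⟨0,0,0,0,0,0,1⟩⟩,
  ⟨⟨1,2,2,1,0,1,0⟩,⟨0,1,0,0,0,0,2⟩,⟨0,0,1,0,0,0,0⟩,⟨0,0,0,1,0,0,1⟩,⟨0,0,0,0,1,0,1⟩,⟨0,0,0,0,0,1,1⟩,⟨0,0,0,0,0,0,1⟩⟩,
  ⟨⟨1,1,2,1,2,0,1⟩,⟨0,1,0,0,0,0,0⟩,⟨0,0,1,0,0,0,1⟩,⟨0,0,0,1,0,0,1⟩,⟨0,0,0,0,1,0,1⟩,⟨0,0,0,0,0,1,2⟩,⟨0,0,0,0,0,0,1⟩⟩,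
  ⟨⟨1,2,1,1,2,0,0⟩,⟨0,1,0,0,0,0,0⟩,⟨0,0,1,0,0,0,1⟩,⟨0,0,0,1,0,0,1⟩,⟨0,0,0,0,1,0,2⟩,⟨0,0,0,0,0,1,1⟩,⟨0,0,0,0,0,0,1⟩⟩,
  ⟨⟨1,2,2,2,2,0,1⟩,⟨0,1,0,0,0,0,0⟩,⟨0,0,1,0,0,0,1⟩,⟨0,0,0,1,0,0,2⟩,⟨0,0,0,0,1,0,1⟩,⟨0,0,0,0,0,1,1⟩,⟨0,0,0,0,0,0,1⟩⟩,
  ⟨⟨1,2,2,1,1,0,0⟩,⟨0,1,0,0,0,0,0⟩,⟨0,0,1,0,0,0,2⟩,⟨0,0,0,1,0,0,1⟩,⟨0,0,0,0,1,0,1⟩,⟨0,0,0,0,0,1,1⟩,⟨0,0,0,0,0,0,1⟩⟩,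
  ⟨⟨1,0,2,1,2,2,1⟩,⟨0,1,0,0,0,0,1⟩,⟨0,0,1,0,0,0,1⟩,⟨0,0,0,1,0,0,1⟩,⟨0,0,0,0,1,0,1⟩,⟨0,0,0,0,0,1,0⟩,⟨0,0,0,0,0,0,1⟩⟩,
  ⟨⟨1,1,1,1,2,2,1⟩,⟨0,1,0,0,0,0,1⟩,⟨0,0,1,0,0,0,1⟩,⟨0,0,0,1,0,0,1⟩,⟨0,0,0,0,1,0,2⟩,⟨0,0,0,0,0,1,2⟩,⟨0,0,0,0,0,0,1⟩⟩,
  ⟨⟨1,2,0,1,2,2,1⟩,⟨0,1,0,0,0,0,1⟩,⟨0,0,1,0,0,0,1⟩,⟨0,0,0,1,0,0,1⟩,⟨0,0,0,0,1,0,0⟩,⟨0,0,0,0,0,1,1⟩,⟨0,0,0,0,0,0,1⟩⟩,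
  ⟨⟨1,1,2,2,2,2,2⟩,⟨0,1,0,0,0,0,1⟩,⟨0,0,1,0,0,0,1⟩,⟨0,0,0,1,0,0,2⟩,⟨0,0,0,0,1,0,1⟩,⟨0,0,0,0,0,1,2⟩,⟨0,0,0,0,0,0,1⟩⟩,
  ⟨⟨1,2,1,2,2,2,2⟩,⟨0,1,0,0,0,0,1⟩,⟨0,0,1,0,0,0,1⟩,⟨0,0,0,1,0,0,2⟩,⟨0,0,0,0,1,0,2⟩,⟨0,0,0,0,0,1,1⟩,⟨0,0,0,0,0,0,1⟩⟩,
  ⟨⟨1,2,2,0,2,2,1⟩,⟨0,1,0,0,0,0,1⟩,⟨0,0,1,0,0,0,1⟩,⟨0,0,0,1,0,0,0⟩,⟨0,0,0,0,1,0,1⟩,⟨0,0,0,0,0,1,1⟩,⟨0,0,0,0,0,0,1⟩⟩,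
  ⟨⟨1,1,2,1,1,2,1⟩,⟨0,1,0,0,0,0,1⟩,⟨0,0,1,0,0,0,2⟩,⟨0,0,0,1,0,0,1⟩,⟨0,0,0,0,1,0,1⟩,⟨0,0,0,0,0,1,2⟩,⟨0,0,0,0,0,0,1⟩⟩,
  ⟨⟨1,2,1,1,1,2,0⟩,⟨0,1,0,0,0,0,1⟩,⟨0,0,1,0,0,0,2⟩,⟨0,0,0,1,0,0,1⟩,⟨0,0,0,0,1,0,2⟩,⟨0,0,0,0,0,1,1⟩,⟨0,0,0,0,0,0,1⟩⟩,
  ⟨⟨1,2,2,2,1,2,2⟩,⟨0,1,0,0,0,0,1⟩,⟨0,0,1,0,0,0,2⟩,⟨0,0,0,1,0,0,2⟩,⟨0,0,0,0,1,0,1⟩,⟨0,0,0,0,0,1,1⟩,⟨0,0,0,0,0,0,1⟩⟩,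
  ⟨⟨1,2,2,1,0,2,1⟩,⟨0,1,0,0,0,0,1⟩,⟨0,0,1,0,0,0,0⟩,⟨0,0,0,1,0,0,1⟩,⟨0,0,0,0,1,0,1⟩,⟨0,0,0,0,0,1,1⟩,⟨0,0,0,0,0,0,1⟩⟩,
  ⟨⟨1,1,2,1,2,1,0⟩,⟨0,1,0,0,0,0,2⟩,⟨0,0,1,0,0,0,1⟩,⟨0,0,0,1,0,0,1⟩,⟨0,0,0,0,1,0,1⟩,⟨0,0,0,0,0,1,2⟩,⟨0,0,0,0,0,0,1⟩⟩,
  ⟨⟨1,2,1,1,2,1,1⟩,⟨0,1,0,0,0,0,2⟩,⟨0,0,1,0,0,0,1⟩,⟨0,0,0,1,0,0,1⟩,⟨0,0,0,0,1,0,2⟩,⟨0,0,0,0,0,1,1⟩,⟨0,0,0,0,0,0,1⟩⟩,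
  ⟨⟨1,2,2,2,2,1,2⟩,⟨0,1,0,0,0,0,2⟩,⟨0,0,1,0,0,0,1⟩,⟨0,0,0,1,0,0,2⟩,⟨0,0,0,0,1,0,1⟩,⟨0,0,0,0,0,1,1⟩,⟨0,0,0,0,0,0,1⟩⟩,
  ⟨⟨1,2,2,1,1,1,1⟩,⟨0,1,0,0,0,0,2⟩,⟨0,0,1,0,0,0,2⟩,⟨0,0,0,1,0,0,1⟩,⟨0,0,0,0,1,0,1⟩,⟨0,0,0,0,0,1,1⟩,⟨0,0,0,0,0,0,1⟩⟩,
  ⟨⟨1,2,2,1,2,0,1⟩,⟨0,1,0,0,0,0,0⟩,⟨0,0,1,0,0,0,1⟩,⟨0,0,0,1,0,0,1⟩,⟨0,0,0,0,1,0,1⟩,⟨0,0,0,0,0,1,1⟩,⟨0,0,0,0,0,0,1⟩⟩,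
  ⟨⟨1,1,2,1,2,2,2⟩,⟨0,1,0,0,0,0,1⟩,⟨0,0,1,0,0,0,1⟩,⟨0,0,0,1,0,0,1⟩,⟨0,0,0,0,1,0,1⟩,⟨0,0,0,0,0,1,2⟩,⟨0,0,0,0,0,0,1⟩⟩,
  ⟨⟨1,2,1,1,2,2,2⟩,⟨0,1,0,0,0,0,1⟩,⟨0,0,1,0,0,0,1⟩,⟨0,0,0,1,0,0,1⟩,⟨0,0,0,0,1,0,2⟩,⟨0,0,0,0,0,1,1⟩,⟨0,0,0,0,0,0,1⟩⟩,
  ⟨⟨1,2,2,2,2,2,0⟩,⟨0,1,0,0,0,0,1⟩,⟨0,0,1,0,0,0,1⟩,⟨0,0,0,1,0,0,2⟩,⟨0,0,0,0,1,0,1⟩,⟨0,0,0,0,0,1,1⟩,⟨0,0,0,0,0,0,1⟩⟩,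
  ⟨⟨1,2,2,1,1,2,2⟩,⟨0,1,0,0,0,0,1⟩,⟨0,0,1,0,0,0,2⟩,⟨0,0,0,1,0,0,1⟩,⟨0,0,0,0,1,0,1⟩,⟨0,0,0,0,0,1,1⟩,⟨0,0,0,0,0,0,1⟩⟩,
  ⟨⟨1,2,2,1,2,1,2⟩,⟨0,1,0,0,0,0,2⟩,⟨0,0,1,0,0,0,1⟩,⟨0,0,0,1,0,0,1⟩,⟨0,0,0,0,1,0,1⟩,⟨0,0,0,0,0,1,1⟩,⟨0,0,0,0,0,0,1⟩⟩,
  ⟨⟨1,2,2,1,2,2,0⟩,⟨0,1,0,0,0,0,1⟩,⟨0,0,1,0,0,0,1⟩,⟨0,0,0,1,0,0,1⟩,⟨0,0,0,0,1,0,1⟩,⟨0,0,0,0,0,1,1⟩,⟨0,0,0,0,0,0,1⟩⟩,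
  ⟨⟨1,0,0,0,0,0,0⟩,⟨0,1,1,0,0,0,0⟩,⟨0,0,1,0,0,0,0⟩,⟨0,0,0,1,0,0,0⟩,⟨0,0,0,0,1,2,0⟩,⟨0,0,0,0,0,1,0⟩,⟨0,0,0,0,0,0,1⟩⟩,
  ⟨⟨1,0,0,0,1,2,0⟩,⟨0,1,1,0,0,0,0⟩,⟨0,0,1,0,0,0,2⟩,⟨0,0,0,1,0,0,0⟩,⟨0,0,0,0,1,2,0⟩,⟨0,0,0,0,0,1,0⟩,⟨0,0,0,0,0,0,1⟩⟩,
  ⟨⟨1,0,0,2,0,0,2⟩,⟨0,1,1,0,0,0,0⟩,⟨0,0,1,0,0,0,0⟩,⟨0,0,0,1,0,0,2⟩,⟨0,0,0,0,1,2,0⟩,⟨0,0,0,0,0,1,0⟩,⟨0,0,0,0,0,0,1⟩⟩,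
  ⟨⟨1,1,1,0,0,0,0⟩,⟨0,1,1,0,0,0,0⟩,⟨0,0,1,0,0,0,0⟩,⟨0,0,0,1,0,0,0⟩,⟨0,0,0,0,1,2,0⟩,⟨0,0,0,0,0,1,2⟩,⟨0,0,0,0,0,0,1⟩⟩,
  ⟨⟨1,0,0,0,2,1,0⟩,⟨0,1,1,0,0,0,0⟩,⟨0,0,1,0,0,0,1⟩,⟨0,0,0,1,0,0,0⟩,⟨0,0,0,0,1,2,0⟩,⟨0,0,0,0,0,1,0⟩,⟨0,0,0,0,0,0,1⟩⟩,
  ⟨⟨1,0,0,2,1,2,2⟩,⟨0,1,1,0,0,0,0⟩,⟨0,0,1,0,0,0,2⟩,⟨0,0,0,1,0,0,2⟩,⟨0,0,0,0,1,2,0⟩,⟨0,0,0,0,0,1,0⟩,⟨0,0,0,0,0,0,1⟩⟩,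
  ⟨⟨1,1,1,0,1,2,0⟩,⟨0,1,1,0,0,0,0⟩,⟨0,0,1,0,0,0,2⟩,⟨0,0,0,1,0,0,0⟩,⟨0,0,0,0,1,2,0⟩,⟨0,0,0,0,0,1,2⟩,⟨0,0,0,0,0,0,1⟩⟩,
  ⟨⟨1,0,0,1,0,0,2⟩,⟨0,1,1,0,0,0,0⟩,⟨0,0,1,0,0,0,0⟩,⟨0,0,0,1,0,0,1⟩,⟨0,0,0,0,1,2,0⟩,⟨0,0,0,0,0,1,0⟩,⟨0,0,0,0,0,0,1⟩⟩,
  ⟨⟨1,1,1,2,0,0,2⟩,⟨0,1,1,0,0,0,0⟩,⟨0,0,1,0,0,0,0⟩,⟨0,0,0,1,0,0,2⟩,⟨0,0,0,0,1,2,0⟩,⟨0,0,0,0,0,1,2⟩,⟨0,0,0,0,0,0,1⟩⟩,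
  ⟨⟨1,2,2,0,0,0,0⟩,⟨0,1,1,0,0,0,0⟩,⟨0,0,1,0,0,0,0⟩,⟨0,0,0,1,0,0,0⟩,⟨0,0,0,0,1,2,0⟩,⟨0,0,0,0,0,1,1⟩,⟨0,0,0,0,0,0,1⟩⟩,
  ⟨⟨1,0,0,2,2,1,2⟩,⟨0,1,1,0,0,0,0⟩,⟨0,0,1,0,0,0,1⟩,⟨0,0,0,1,0,0,2⟩,⟨0,0,0,0,1,2,0⟩,⟨0,0,0,0,0,1,0⟩,⟨0,0,0,0,0,0,1⟩⟩,
  ⟨⟨1,1,1,0,2,1,0⟩,⟨0,1,1,0,0,0,0⟩,⟨0,0,1,0,0,0,1⟩,⟨0,0,0,1,0,0,0⟩,⟨0,0,0,0,1,2,0⟩,⟨0,0,0,0,0,1,2⟩,⟨0,0,0,0,0,0,1⟩⟩,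
  ⟨⟨1,0,0,1,1,2,2⟩,⟨0,1,1,0,0,0,0⟩,⟨0,0,1,0,0,0,2⟩,⟨0,0,0,1,0,0,1⟩,⟨0,0,0,0,1,2,0⟩,⟨0,0,0,0,0,1,0⟩,⟨0,0,0,0,0,0,1⟩⟩,
  ⟨⟨1,1,1,2,1,2,2⟩,⟨0,1,1,0,0,0,0⟩,⟨0,0,1,0,0,0,2⟩,⟨0,0,0,1,0,0,2⟩,⟨0,0,0,0,1,2,0⟩,⟨0,0,0,0,0,1,2⟩,⟨0,0,0,0,0,0,1⟩⟩,
  ⟨⟨1,2,2,0,1,2,0⟩,⟨0,1,1,0,0,0,0⟩,⟨0,0,1,0,0,0,2⟩,⟨0,0,0,1,0,0,0⟩,⟨0,0,0,0,1,2,0⟩,⟨0,0,0,0,0,1,1⟩,⟨0,0,0,0,0,0,1⟩⟩,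
  ⟨⟨1,1,1,1,0,0,2⟩,⟨0,1,1,0,0,0,0⟩,⟨0,0,1,0,0,0,0⟩,⟨0,0,0,1,0,0,1⟩,⟨0,0,0,0,1,2,0⟩,⟨0,0,0,0,0,1,2⟩,⟨0,0,0,0,0,0,1⟩⟩,
  ⟨⟨1,2,2,2,0,0,2⟩,⟨0,1,1,0,0,0,0⟩,⟨0,0,1,0,0,0,0⟩,⟨0,0,0,1,0,0,2⟩,⟨0,0,0,0,1,2,0⟩,⟨0,0,0,0,0,1,1⟩,⟨0,0,0,0,0,0,1⟩⟩,
  ⟨⟨1,0,0,1,2,1,2⟩,⟨0,1,1,0,0,0,0⟩,⟨0,0,1,0,0,0,1⟩,⟨0,0,0,1,0,0,1⟩,⟨0,0,0,0,1,2,0⟩,⟨0,0,0,0,0,1,0⟩,⟨0,0,0,0,0,0,1⟩⟩,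
  ⟨⟨1,1,1,2,2,1,2⟩,⟨0,1,1,0,0,0,0⟩,⟨0,0,1,0,0,0,1⟩,⟨0,0,0,1,0,0,2⟩,⟨0,0,0,0,1,2,0⟩,⟨0,0,0,0,0,1,2⟩,⟨0,0,0,0,0,0,1⟩⟩,
  ⟨⟨1,2,2,0,2,1,0⟩,⟨0,1,1,0,0,0,0⟩,⟨0,0,1,0,0,0,1⟩,⟨0,0,0,1,0,0,0⟩,⟨0,0,0,0,1,2,0⟩,⟨0,0,0,0,0,1,1⟩,⟨0,0,0,0,0,0,1⟩⟩,
  ⟨⟨1,1,1,1,1,2,2⟩,⟨0,1,1,0,0,0,0⟩,⟨0,0,1,0,0,0,2⟩,⟨0,0,0,1,0,0,1⟩,⟨0,0,0,0,1,2,0⟩,⟨0,0,0,0,0,1,2⟩,⟨0,0,0,0,0,0,1⟩⟩,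
  ⟨⟨1,2,2,2,1,2,2⟩,⟨0,1,1,0,0,0,0⟩,⟨0,0,1,0,0,0,2⟩,⟨0,0,0,1,0,0,2⟩,⟨0,0,0,0,1,2,0⟩,⟨0,0,0,0,0,1,1⟩,⟨0,0,0,0,0,0,1⟩⟩,
  ⟨⟨1,2,2,1,0,0,2⟩,⟨0,1,1,0,0,0,0⟩,⟨0,0,1,0,0,0,0⟩,⟨0,0,0,1,0,0,1⟩,⟨0,0,0,0,1,2,0⟩,⟨0,0,0,0,0,1,1⟩,⟨0,0,0,0,0,0,1⟩⟩,
  ⟨⟨1,1,1,1,2,1,2⟩,⟨0,1,1,0,0,0,0⟩,⟨0,0,1,0,0,0,1⟩,⟨0,0,0,1,0,0,1⟩,⟨0,0,0,0,1,2,0⟩,⟨0,0,0,0,0,1,2⟩,⟨0,0,0,0,0,0,1⟩⟩,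
  ⟨⟨1,2,2,2,2,1,2⟩,⟨0,1,1,0,0,0,0⟩,⟨0,0,1,0,0,0,1⟩,⟨0,0,0,1,0,0,2⟩,⟨0,0,0,0,1,2,0⟩,⟨0,0,0,0,0,1,1⟩,⟨0,0,0,0,0,0,1⟩⟩,
  ⟨⟨1,2,2,1,1,2,2⟩,⟨0,1,1,0,0,0,0⟩,⟨0,0,1,0,0,0,2⟩,⟨0,0,0,1,0,0,1⟩,⟨0,0,0,0,1,2,0⟩,⟨0,0,0,0,0,1,1⟩,⟨0,0,0,0,0,0,1⟩⟩,
  ⟨⟨1,2,2,1,2,1,2⟩,⟨0,1,1,0,0,0,0⟩,⟨0,0,1,0,0,0,1⟩,⟨0,0,0,1,0,0,1⟩,⟨0,0,0,0,1,2,0⟩,⟨0,0,0,0,0,1,1⟩,⟨0,0,0,0,0,0,1⟩⟩,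
  ⟨⟨1,0,0,0,0,0,0⟩,⟨0,1,0,0,0,0,0⟩,⟨0,0,1,2,2,0,0⟩,⟨0,0,0,1,2,0,0⟩,⟨0,0,0,0,1,0,0⟩,⟨0,0,0,0,0,1,0⟩,⟨0,0,0,0,0,0,1⟩⟩,
  ⟨⟨1,0,0,0,0,1,0⟩,⟨0,1,0,0,0,0,2⟩,⟨0,0,1,2,2,0,0⟩,⟨0,0,0,1,2,0,0⟩,⟨0,0,0,0,1,0,0⟩,⟨0,0,0,0,0,1,0⟩,⟨0,0,0,0,0,0,1⟩⟩,
  ⟨⟨1,1,0,0,0,0,0⟩,⟨0,1,0,0,0,0,0⟩,⟨0,0,1,2,2,0,0⟩,⟨0,0,0,1,2,0,0⟩,⟨0,0,0,0,1,0,0⟩,⟨0,0,0,0,0,1,2⟩,⟨0,0,0,0,0,0,1⟩⟩,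
  ⟨⟨1,0,0,0,0,2,0⟩,⟨0,1,0,0,0,0,1⟩,⟨0,0,1,2,2,0,0⟩,⟨0,0,0,1,2,0,0⟩,⟨0,0,0,0,1,0,0⟩,⟨0,0,0,0,0,1,0⟩,⟨0,0,0,0,0,0,1⟩⟩,
  ⟨⟨1,1,0,0,0,1,2⟩,⟨0,1,0,0,0,0,2⟩,⟨0,0,1,2,2,0,0⟩,⟨0,0,0,1,2,0,0⟩,⟨0,0,0,0,1,0,0⟩,⟨0,0,0,0,0,1,2⟩,⟨0,0,0,0,0,0,1⟩⟩,
  ⟨⟨1,2,0,0,0,0,0⟩,⟨0,1,0,0,0,0,0⟩,⟨0,0,1,2,2,0,0⟩,⟨0,0,0,1,2,0,0⟩,⟨0,0,0,0,1,0,0⟩,⟨0,0,0,0,0,1,1⟩,⟨0,0,0,0,0,0,1⟩⟩,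
  ⟨⟨1,1,0,0,0,2,1⟩,⟨0,1,0,0,0,0,1⟩,⟨0,0,1,2,2,0,0⟩,⟨0,0,0,1,2,0,0⟩,⟨0,0,0,0,1,0,0⟩,⟨0,0,0,0,0,1,2⟩,⟨0,0,0,0,0,0,1⟩⟩,
  ⟨⟨1,2,0,0,0,1,1⟩,⟨0,1,0,0,0,0,2⟩,⟨0,0,1,2,2,0,0⟩,⟨0,0,0,1,2,0,0⟩,⟨0,0,0,0,1,0,0⟩,⟨0,0,0,0,0,1,1⟩,⟨0,0,0,0,0,0,1⟩⟩,
  ⟨⟨1,2,0,0,0,2,2⟩,⟨0,1,0,0,0,0,1⟩,⟨0,0,1,2,2,0,0⟩,⟨0,0,0,1,2,0,0⟩,⟨0,0,0,0,1,0,0⟩,⟨0,0,0,0,0,1,1⟩,⟨0,0,0,0,0,0,1⟩⟩,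
  ⟨⟨1,0,0,0,0,0,0⟩,⟨0,1,2,0,0,0,0⟩,⟨0,0,1,0,0,0,0⟩,⟨0,0,0,1,0,0,0⟩,⟨0,0,0,0,1,1,0⟩,⟨0,0,0,0,0,1,0⟩,⟨0,0,0,0,0,0,1⟩⟩,
  ⟨⟨1,0,0,0,1,1,0⟩,⟨0,1,2,0,0,0,0⟩,⟨0,0,1,0,0,0,2⟩,⟨0,0,0,1,0,0,0⟩,⟨0,0,0,0,1,1,0⟩,⟨0,0,0,0,0,1,0⟩,⟨0,0,0,0,0,0,1⟩⟩,
  ⟨⟨1,0,0,2,0,0,2⟩,⟨0,1,2,0,0,0,0⟩,⟨0,0,1,0,0,0,0⟩,⟨0,0,0,1,0,0,2⟩,⟨0,0,0,0,1,1,0⟩,⟨0,0,0,0,0,1,0⟩,⟨0,0,0,0,0,0,1⟩⟩,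
  ⟨⟨1,1,2,0,0,0,0⟩,⟨0,1,2,0,0,0,0⟩,⟨0,0,1,0,0,0,0⟩,⟨0,0,0,1,0,0,0⟩,⟨0,0,0,0,1,1,0⟩,⟨0,0,0,0,0,1,2⟩,⟨0,0,0,0,0,0,1⟩⟩,
  ⟨⟨1,0,0,0,2,2,0⟩,⟨0,1,2,0,0,0,0⟩,⟨0,0,1,0,0,0,1⟩,⟨0,0,0,1,0,0,0⟩,⟨0,0,0,0,1,1,0⟩,⟨0,0,0,0,0,1,0⟩,⟨0,0,0,0,0,0,1⟩⟩,
  ⟨⟨1,0,0,2,1,1,2⟩,⟨0,1,2,0,0,0,0⟩,⟨0,0,1,0,0,0,2⟩,⟨0,0,0,1,0,0,2⟩,⟨0,0,0,0,1,1,0⟩,⟨0,0,0,0,0,1,0⟩,⟨0,0,0,0,0,0,1⟩⟩,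
  ⟨⟨1,1,2,0,1,1,0⟩,⟨0,1,2,0,0,0,0⟩,⟨0,0,1,0,0,0,2⟩,⟨0,0,0,1,0,0,0⟩,⟨0,0,0,0,1,1,0⟩,⟨0,0,0,0,0,1,2⟩,⟨0,0,0,0,0,0,1⟩⟩,
  ⟨⟨1,0,0,1,0,0,2⟩,⟨0,1,2,0,0,0,0⟩,⟨0,0,1,0,0,0,0⟩,⟨0,0,0,1,0,0,1⟩,⟨0,0,0,0,1,1,0⟩,⟨0,0,0,0,0,1,0⟩,⟨0,0,0,0,0,0,1⟩⟩,
  ⟨⟨1,1,2,2,0,0,2⟩,⟨0,1,2,0,0,0,0⟩,⟨0,0,1,0,0,0,0⟩,⟨0,0,0,1,0,0,2⟩,⟨0,0,0,0,1,1,0⟩,⟨0,0,0,0,0,1,2⟩,⟨0,0,0,0,0,0,1⟩⟩,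
  ⟨⟨1,2,1,0,0,0,0⟩,⟨0,1,2,0,0,0,0⟩,⟨0,0,1,0,0,0,0⟩,⟨0,0,0,1,0,0,0⟩,⟨0,0,0,0,1,1,0⟩,⟨0,0,0,0,0,1,1⟩,⟨0,0,0,0,0,0,1⟩⟩,
  ⟨⟨1,0,0,2,2,2,2⟩,⟨0,1,2,0,0,0,0⟩,⟨0,0,1,0,0,0,1⟩,⟨0,0,0,1,0,0,2⟩,⟨0,0,0,0,1,1,0⟩,⟨0,0,0,0,0,1,0⟩,⟨0,0,0,0,0,0,1⟩⟩,
  ⟨⟨1,1,2,0,2,2,0⟩,⟨0,1,2,0,0,0,0⟩,⟨0,0,1,0,0,0,1⟩,⟨0,0,0,1,0,0,0⟩,⟨0,0,0,0,1,1,0⟩,⟨0,0,0,0,0,1,2⟩,⟨0,0,0,0,0,0,1⟩⟩,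
  ⟨⟨1,0,0,1,1,1,2⟩,⟨0,1,2,0,0,0,0⟩,⟨0,0,1,0,0,0,2⟩,⟨0,0,0,1,0,0,1⟩,⟨0,0,0,0,1,1,0⟩,⟨0,0,0,0,0,1,0⟩,⟨0,0,0,0,0,0,1⟩⟩,
  ⟨⟨1,1,2,2,1,1,2⟩,⟨0,1,2,0,0,0,0⟩,⟨0,0,1,0,0,0,2⟩,⟨0,0,0,1,0,0,2⟩,⟨0,0,0,0,1,1,0⟩,⟨0,0,0,0,0,1,2⟩,⟨0,0,0,0,0,0,1⟩⟩,
  ⟨⟨1,2,1,0,1,1,0⟩,⟨0,1,2,0,0,0,0⟩,⟨0,0,1,0,0,0,2⟩,⟨0,0,0,1,0,0,0⟩,⟨0,0,0,0,1,1,0⟩,⟨0,0,0,0,0,1,1⟩,⟨0,0,0,0,0,0,1⟩⟩,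
  ⟨⟨1,1,2,1,0,0,2⟩,⟨0,1,2,0,0,0,0⟩,⟨0,0,1,0,0,0,0⟩,⟨0,0,0,1,0,0,1⟩,⟨0,0,0,0,1,1,0⟩,⟨0,0,0,0,0,1,2⟩,⟨0,0,0,0,0,0,1⟩⟩,
  ⟨⟨1,2,1,2,0,0,2⟩,⟨0,1,2,0,0,0,0⟩,⟨0,0,1,0,0,0,0⟩,⟨0,0,0,1,0,0,2⟩,⟨0,0,0,0,1,1,0⟩,⟨0,0,0,0,0,1,1⟩,⟨0,0,0,0,0,0,1⟩⟩,
  ⟨⟨1,0,0,1,2,2,2⟩,⟨0,1,2,0,0,0,0⟩,⟨0,0,1,0,0,0,1⟩,⟨0,0,0,1,0,0,1⟩,⟨0,0,0,0,1,1,0⟩,⟨0,0,0,0,0,1,0⟩,⟨0,0,0,0,0,0,1⟩⟩,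
  ⟨⟨1,1,2,2,2,2,2⟩,⟨0,1,2,0,0,0,0⟩,⟨0,0,1,0,0,0,1⟩,⟨0,0,0,1,0,0,2⟩,⟨0,0,0,0,1,1,0⟩,⟨0,0,0,0,0,1,2⟩,⟨0,0,0,0,0,0,1⟩⟩,
  ⟨⟨1,2,1,0,2,2,0⟩,⟨0,1,2,0,0,0,0⟩,⟨0,0,1,0,0,0,1⟩,⟨0,0,0,1,0,0,0⟩,⟨0,0,0,0,1,1,0⟩,⟨0,0,0,0,0,1,1⟩,⟨0,0,0,0,0,0,1⟩⟩,
  ⟨⟨1,1,2,1,1,1,2⟩,⟨0,1,2,0,0,0,0⟩,⟨0,0,1,0,0,0,2⟩,⟨0,0,0,1,0,0,1⟩,⟨0,0,0,0,1,1,0⟩,⟨0,0,0,0,0,1,2⟩,⟨0,0,0,0,0,0,1⟩⟩,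
  ⟨⟨1,2,1,2,1,1,2⟩,⟨0,1,2,0,0,0,0⟩,⟨0,0,1,0,0,0,2⟩,⟨0,0,0,1,0,0,2⟩,⟨0,0,0,0,1,1,0⟩,⟨0,0,0,0,0,1,1⟩,⟨0,0,0,0,0,0,1⟩⟩,
  ⟨⟨1,2,1,1,0,0,2⟩,⟨0,1,2,0,0,0,0⟩,⟨0,0,1,0,0,0,0⟩,⟨0,0,0,1,0,0,1⟩,⟨0,0,0,0,1,1,0⟩,⟨0,0,0,0,0,1,1⟩,⟨0,0,0,0,0,0,1⟩⟩,
  ⟨⟨1,1,2,1,2,2,2⟩,⟨0,1,2,0,0,0,0⟩,⟨0,0,1,0,0,0,1⟩,⟨0,0,0,1,0,0,1⟩,⟨0,0,0,0,1,1,0⟩,⟨0,0,0,0,0,1,2⟩,⟨0,0,0,0,0,0,1⟩⟩,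
  ⟨⟨1,2,1,2,2,2,2⟩,⟨0,1,2,0,0,0,0⟩,⟨0,0,1,0,0,0,1⟩,⟨0,0,0,1,0,0,2⟩,⟨0,0,0,0,1,1,0⟩,⟨0,0,0,0,0,1,1⟩,⟨0,0,0,0,0,0,1⟩⟩,
  ⟨⟨1,2,1,1,1,1,2⟩,⟨0,1,2,0,0,0,0⟩,⟨0,0,1,0,0,0,2⟩,⟨0,0,0,1,0,0,1⟩,⟨0,0,0,0,1,1,0⟩,⟨0,0,0,0,0,1,1⟩,⟨0,0,0,0,0,0,1⟩⟩,
  ⟨⟨1,2,1,1,2,2,2⟩,⟨0,1,2,0,0,0,0⟩,⟨0,0,1,0,0,0,1⟩,⟨0,0,0,1,0,0,1⟩,⟨0,0,0,0,1,1,0⟩,⟨0,0,0,0,0,1,1⟩,⟨0,0,0,0,0,0,1⟩⟩,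
  ⟨⟨1,0,0,0,0,0,0⟩,⟨0,1,2,1,2,1,0⟩,⟨0,0,1,0,0,1,0⟩,⟨0,0,0,1,0,1,0⟩,⟨0,0,0,0,1,1,0⟩,⟨0,0,0,0,0,1,0⟩,⟨0,0,0,0,0,0,1⟩⟩,
  ⟨⟨1,0,0,0,1,1,0⟩,⟨0,1,2,1,2,1,0⟩,⟨0,0,1,0,0,1,2⟩,⟨0,0,0,1,0,1,0⟩,⟨0,0,0,0,1,1,0⟩,⟨0,0,0,0,0,1,0⟩,⟨0,0,0,0,0,0,1⟩⟩,
  ⟨⟨1,0,0,2,0,2,2⟩,⟨0,1,2,1,2,1,0⟩,⟨0,0,1,0,0,1,0⟩,⟨0,0,0,1,0,1,2⟩,⟨0,0,0,0,1,1,0⟩,⟨0,0,0,0,0,1,0⟩,⟨0,0,0,0,0,0,1⟩⟩,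
  ⟨⟨1,0,1,0,0,1,0⟩,⟨0,1,2,1,2,1,0⟩,⟨0,0,1,0,0,1,0⟩,⟨0,0,0,1,0,1,0⟩,⟨0,0,0,0,1,1,2⟩,⟨0,0,0,0,0,1,0⟩,⟨0,0,0,0,0,0,1⟩⟩,
  ⟨⟨1,0,0,0,2,2,0⟩,⟨0,1,2,1,2,1,0⟩,⟨0,0,1,0,0,1,1⟩,⟨0,0,0,1,0,1,0⟩,⟨0,0,0,0,1,1,0⟩,⟨0,0,0,0,0,1,0⟩,⟨0,0,0,0,0,0,1⟩⟩,
  ⟨⟨1,0,0,2,1,0,2⟩,⟨0,1,2,1,2,1,0⟩,⟨0,0,1,0,0,1,2⟩,⟨0,0,0,1,0,1,2⟩,⟨0,0,0,0,1,1,0⟩,⟨0,0,0,0,0,1,0⟩,⟨0,0,0,0,0,0,1⟩⟩,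
  ⟨⟨1,0,1,0,1,2,2⟩,⟨0,1,2,1,2,1,0⟩,⟨0,0,1,0,0,1,2⟩,⟨0,0,0,1,0,1,0⟩,⟨0,0,0,0,1,1,2⟩,⟨0,0,0,0,0,1,0⟩,⟨0,0,0,0,0,0,1⟩⟩,
  ⟨⟨1,0,0,2,2,1,2⟩,⟨0,1,2,1,2,1,0⟩,⟨0,0,1,0,0,1,1⟩,⟨0,0,0,1,0,1,2⟩,⟨0,0,0,0,1,1,0⟩,⟨0,0,0,0,0,1,0⟩,⟨0,0,0,0,0,0,1⟩⟩,
  ⟨⟨1,0,1,0,2,0,1⟩,⟨0,1,2,1,2,1,0⟩,⟨0,0,1,0,0,1,1⟩,⟨0,0,0,1,0,1,0⟩,⟨0,0,0,0,1,1,2⟩,⟨0,0,0,0,0,1,0⟩,⟨0,0,0,0,0,0,1⟩⟩]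

def candCert : List (ℕ × List ℕ) := [(2,[9,14,12]),
(2,[8,14]),
(3,[13,9]),
(2,[9]),
(2,[9,13]),
(2,[9,14,13]),
(2,[8,14,4]),
(3,[13,5,9,12]),
(2,[5,9,1,2]),
(3,[13,5,9,15,12]),
(2,[9,14]),
(3,[13,2,9]),
(3,[13,5,8,15]),
(2,[9,10,14]),
(3,[13,8]),
(3,[13,9,15]),
(3,[13,9,16,12]),
(2,[8]),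
(2,[8,11]),
(2,[9,12]),
(2,[8,14,1]),
(3,[13,5,9,13]),
(2,[5,9,4,2]),
(5,[9,12]),
(2,[9,14,1]),
(3,[13,2,9,4]),
(3,[13,5,8,4,15]),
(3,[13,5,9,1,15,12]),
(3,[13,5,8,13]),
(3,[13,5,9,12,15]),
(5,[5,9,12]),
(2,[5,8,4,2]),
(3,[13,5,9,4,15,11]),
(5,[9,13]),
(3,[13,5,9]),
(5,[8]),
(2,[8,11,14]),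
(3,[13,5,8]),
(5,[2,8]),
(3,[13,9,16,12,2]),
(5,[9]),
(3,[13,5,9,15,11]),
(2,[9,11,14]),
(3,[13,8,16]),
(3,[13,8,16,13]),
(3,[13,9,16]),
(3,[13,9,16,11]),
(3,[13,9,16,13]),
(2,[9,10]),
(2,[8,10]),
(2,[9,14,4]),
(3,[13,2,9,1]),
(3,[13,5,8,1,15]),
(5,[9,4,12]),
(3,[13,5,8,12]),
(3,[13,5,9,13,15]),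
(2,[5,8,12]),
(2,[5,8,1,2]),
(5,[9,4,11]),
(3,[13,5,9,15,13]),
(3,[13,5,9,1]),
(5,[8,1]),
(3,[13,5,9,4,15,12]),
(3,[13,5,8,4]),
(5,[2,8,4]),
(5,[5,9,1,12]),
(5,[9,4]),
(5,[9,1,11]),
(5,[9,1,13]),
(3,[13,5,9,1,14]),
(5,[5,8,13]),
(3,[13,5,9,12,16]),
(5,[5,9,4,11]),
(2,[5,8,13]),
(3,[13,5,9,15,11,13]),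
(5,[9,1,10]),
(3,[13,2,8]),
(2,[2,9]),
(3,[13,9,16,12,5]),
(3,[13,5,9,15]),
(5,[9,11]),
(2,[8,10,14]),
(5,[5,8]),
(3,[13,9,15,10,14]),
(2,[5,8]),
(5,[5,9,11]),
(3,[13,9,16,13,2]),
(5,[8,10]),
(3,[13,5,9,15,10]),
(3,[13,8,15]),
(3,[13,8,15,11]),
(3,[13,8,16,12]),
(3,[13,9,15,10]),
(3,[13,9,16,10]),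
(2,[9,11]),
(3,[13,5,9,4]),
(5,[8,4]),
(5,[9,1,12]),
(3,[13,5,8,1]),
(5,[2,8,1]),
(2,[5,8,4,12]),
(5,[9,1]),
(2,[9,10,14,1]),
(3,[13,5,9,4,15,13]),
(3,[13,5,9,4,14]),
(2,[5,9,13]),
(3,[13,5,9,13,16]),
(2,[5,8,4,11]),
(5,[5,9,13]),
(5,[9,11,13]),
(3,[13,5,9,1,15,10]),
(3,[13,2,8,1]),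
(2,[2,9,1]),
(5,[5,9,4,12]),
(3,[13,5,9,1,15]),
(2,[8,11,14,1]),
(5,[9,4,13]),
(5,[5,8,4]),
(5,[5,8,1,13]),
(2,[5,8,4]),
(2,[5,8,1,11]),
(2,[5,8,1,13]),
(2,[9,10,14,4]),
(2,[9,11,14,4]),
(3,[13,5,8,13,15]),
(5,[5,8,10,12]),
(2,[5,9,12]),
(5,[5,9,11,13]),
(2,[5,8,1,10]),
(5,[9,10,12]),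
(2,[5,9]),
(3,[13,9,16,11,14]),
(5,[5,9]),
(2,[5,8,11]),
(3,[13,9,16,13,5]),
(3,[13,5,8,15,10]),
(5,[9,10]),
(2,[2,8]),
(5,[2,9,11]),
(3,[13,9,15,11,14]),
(2,[2,9,10]),
(5,[5,9,10]),
(5,[8,11]),
(3,[13,8,16,10]),
(3,[13,8,15,10]),
(3,[13,9,15,11]),
(3,[13,2,8,4]),
(2,[2,9,4]),
(2,[5,8,1,12]),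
(3,[13,5,9,4,15]),
(3,[13,5,9,1,15,11]),
(3,[13,5,9,1,15,13]),
(5,[5,8,1]),
(2,[5,9,4,13]),
(2,[5,8,1]),
(3,[13,5,9,12,16,11]),
(5,[5,9,4,13]),
(3,[13,5,9,15,11,1]),
(5,[9,4,10]),
(3,[13,5,8,12,15]),
(2,[5,9,10,12]),
(5,[5,8,12]),
(2,[5,8,11,13]),
(5,[5,9,1,10]),
(3,[13,5,9,15,10,12]),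
(2,[5,9,1]),
(5,[5,8,4,13]),
(5,[5,9,1]),
(3,[13,5,9,13,16,11]),
(2,[5,8,4,13]),
(5,[9,11,1]),
(3,[13,5,9,4,15,10]),
(2,[2,8,4]),
(2,[5,9,10,4]),
(2,[5,9,1,12]),
(3,[13,5,9,13,15,10]),
(3,[13,5,9,13,16,10]),
(3,[13,5,9,15,10,4]),
(5,[5,8,1,10]),
(2,[5,9,11,13]),
(2,[5,8,10,12]),
(5,[2,9]),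
(2,[2,8,11]),
(3,[13,9,16,10,14]),
(5,[2,8,10]),
(2,[5,8,10]),
(3,[13,5,8,15,11]),
(2,[5,9,10]),
(5,[2,9,10]),
(2,[2,9,11]),
(3,[13,8,16,11]),
(2,[5,9,4]),
(2,[5,9,1,13]),
(5,[5,9,4]),
(5,[5,9,1,11]),
(5,[5,9,1,13]),
(2,[8,11,14,4]),
(2,[8,10,14,4]),
(2,[2,8,1]),
(3,[13,5,8,13,15,11]),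
(5,[5,8,4,12]),
(5,[5,9,11,1]),
(2,[5,8,4,10]),
(2,[9,11,14,1]),
(2,[5,9,1,10]),
(5,[5,8,11,13]),
(5,[5,9,10,12]),
(5,[2,9,1]),
(3,[13,5,8,12,15,11]),
(2,[5,9,4,12]),
(2,[5,8,11,1]),
(5,[5,9,4,10]),
(2,[8,10,14,1]),
(3,[13,5,9,4,14,10]),
(3,[13,5,8,12,15,10]),
(5,[5,9,10,4]),
(2,[5,9,4,11]),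
(5,[5,8,10]),
(2,[2,8,10]),
(5,[2,8,11]),
(2,[5,9,11]),
(5,[2,9,4]),
(5,[5,8,10,4]),
(5,[5,8,1,12]),
(3,[13,5,9,12,15,10]),
(3,[13,5,9,12,16,10]),
(5,[9,10,4]),
(5,[5,8,4,10]),
(2,[5,9,11,1]),
(3,[13,5,9,12,15,11]),
(5,[5,8,4,11]),
(2,[5,9,4,10]),
(5,[5,8,11,1]),
(3,[13,5,9,13,15,11]),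
(5,[5,8,1,11]),
(5,[5,8,11]),
(3,[13,5,9,1,14,10]),
(3,[13,5,8,13,15,10]),
(2,[5,8,10,4]),
(3,[13,5,9,1,14,11]),
(3,[13,5,9,4,14,11]),
(2,[5,9,1,11]),
(2,[]),
(4,[14,12,8]),
(0,[9,9,14]),
(4,[3]),
(4,[14,13,9]),
(4,[14,12,7,9,15]),
(4,[3,14,4,14]),
(1,[14]),
(4,[5,4,3,5,1,5]),
(4,[3,14,11,14]),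
(4,[14,13,6,8,16]),
(4,[3,14,1,14]),
(4,[14,12,7,9,16]),
(4,[3,2,4,3,5]),
(4,[3,14,4,13,14]),
(4,[2,4,3,2,1,2]),
(4,[3,14,13,3,2,13,14]),
(4,[14,13,6,8,15]),
(4,[3,5,1,0,2]),
(4,[3,14,1,12,14]),
(4,[3,5,4,3,2]),
(4,[14,4,3,13,2,14]),
(4,[3,14,13,3,5,13,14]),
(4,[3,2,1,5,0]),
(4,[14,1,5,12,0,14]),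
(4,[14,4,3,13,5,14]),
(4,[14,1,2,12,0,14]),
(3,[]),
(0,[9,13]),
(0,[9,14,12]),
(1,[9,13]),
(6,[15,13]),
(1,[9,14,12]),
(4,[4,14,13,5,0,7,15,12]),
(4,[4,14,13,0,2,7,16,13]),
(6,[2,9,12]),
(2,[7]),
(4,[14,13,8]),
(1,[9,9,14]),
(4,[14,13,8,14,12,14]),
(4,[14,12,9]),
(4,[14,13,3,7,15]),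
(4,[14,12,9,14,10,14]),
(0,[14]),
(4,[14,13,3,5,7,16,12,14]),
(4,[14,13,8,14,13,14]),
(4,[14,12,0,6,16]),
(4,[14,13,8,14,11,14]),
(4,[14,13,3,7,16]),
(4,[14,12,0,2,6,15,10,14]),
(4,[14,12,9,14,11,14]),
(4,[14,13,3,2,7,15,12,14]),
(4,[14,13,3,5,7,16,13,14]),
(4,[14,12,0,6,15]),
(4,[14,13,3,5,7,16,11,14]),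
(4,[14,13,8,14,10,14]),
(4,[14,12,5,0,6,16,10,14]),
(4,[14,12,0,2,6,15,11,14]),
(4,[14,13,3,2,7,15,13,14]),
(4,[14,13,3,2,7,15,11,14]),
(4,[14,13,3,5,7,16,10,14]),
(4,[14,12,5,0,6,16,11,14]),
(4,[14,13,3,2,7,15,10,14]),
(5,[2]),
(4,[14,13,0,2,8]),
(6,[4,2,7]),
(4,[3,14,12,7,7,15]),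
(4,[14,12,3,2,9]),
(4,[4,14,13,3,6,15]),
(6,[4,5,7,16]),
(6,[1,6]),
(6,[0,7,14])]

def repTab : List M7 := [
  ⟨⟨1,0,0,2,0,0,2⟩,⟨0,1,0,0,1,0,0⟩,⟨0,0,1,0,0,2,0⟩,⟨0,0,0,1,0,0,2⟩,⟨0,0,0,0,1,0,0⟩,⟨0,0,0,0,0,1,0⟩,⟨0,0,0,0,0,0,1⟩⟩,
  ⟨⟨1,0,0,2,0,0,2⟩,⟨0,1,0,0,2,0,0⟩,⟨0,0,1,0,0,1,0⟩,⟨0,0,0,1,0,0,2⟩,⟨0,0,0,0,1,0,0⟩,⟨0,0,0,0,0,1,0⟩,⟨0,0,0,0,0,0,1⟩⟩,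
  ⟨⟨1,0,0,0,0,0,0⟩,⟨0,1,1,0,0,0,0⟩,⟨0,0,1,0,0,0,0⟩,⟨0,0,0,1,0,0,0⟩,⟨0,0,0,0,1,2,0⟩,⟨0,0,0,0,0,1,0⟩,⟨0,0,0,0,0,0,1⟩⟩,
  ⟨⟨1,0,0,0,0,0,0⟩,⟨0,1,0,0,0,0,0⟩,⟨0,0,1,2,2,0,0⟩,⟨0,0,0,1,2,0,0⟩,⟨0,0,0,0,1,0,0⟩,⟨0,0,0,0,0,1,0⟩,⟨0,0,0,0,0,0,1⟩⟩,
  ⟨⟨1,1,0,0,0,0,0⟩,⟨0,1,1,0,0,0,0⟩,⟨0,0,1,0,0,0,0⟩,⟨0,0,0,1,0,0,0⟩,⟨0,0,0,0,1,2,1⟩,⟨0,0,0,0,0,1,2⟩,⟨0,0,0,0,0,0,1⟩⟩,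
  ⟨⟨1,0,0,0,0,0,0⟩,⟨0,1,2,0,1,1,0⟩,⟨0,0,1,0,0,2,0⟩,⟨0,0,0,1,0,0,0⟩,⟨0,0,0,0,1,1,0⟩,⟨0,0,0,0,0,1,0⟩,⟨0,0,0,0,0,0,1⟩⟩,
  ⟨⟨1,0,0,1,1,0,2⟩,⟨0,1,1,1,0,2,0⟩,⟨0,0,1,0,0,0,2⟩,⟨0,0,0,1,0,1,1⟩,⟨0,0,0,0,1,2,0⟩,⟨0,0,0,0,0,1,0⟩,⟨0,0,0,0,0,0,1⟩⟩]

def repWord : List (List ℕ) := [
  [0,1,2,1,0,2,1,2,1,0,1,1],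
  [0,1,0,0,2,1,0,1,2,1,1,0,2,1,0],
  [1],
  [2],
  [1,0],
  [2,1,2,1,2],
  [0,1,2,1,0,1,2,1,0,2]]

def repMat : M7 := ⟨⟨1,0,0,2,0,0,2⟩,⟨0,1,0,0,1,0,0⟩,⟨0,0,1,0,0,2,0⟩,⟨0,0,0,1,0,0,2⟩,⟨0,0,0,0,1,0,0⟩,⟨0,0,0,0,0,1,0⟩,⟨0,0,0,0,0,0,1⟩⟩

def twinMat : M7 := ⟨⟨1,0,0,2,0,0,2⟩,⟨0,1,0,0,2,0,0⟩,⟨0,0,1,0,0,1,0⟩,⟨0,0,0,1,0,0,2⟩,⟨0,0,0,0,1,0,0⟩,⟨0,0,0,0,0,1,0⟩,⟨0,0,0,0,0,0,1⟩⟩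

def negPlane : M7 := ⟨⟨1,0,0,0,0,0,0⟩,⟨0,1,0,0,0,0,0⟩,⟨0,0,2,0,0,0,0⟩,⟨0,0,0,1,0,0,0⟩,⟨0,0,0,0,2,0,0⟩,⟨0,0,0,0,0,1,0⟩,⟨0,0,0,0,0,0,1⟩⟩

def negThree : M7 := ⟨⟨2,0,0,0,0,0,0⟩,⟨0,1,0,0,0,0,0⟩,⟨0,0,1,0,0,0,0⟩,⟨0,0,0,2,0,0,0⟩,⟨0,0,0,0,1,0,0⟩,⟨0,0,0,0,0,1,0⟩,⟨0,0,0,0,0,0,2⟩⟩

def repSquare : List (List ℕ) := [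
  [9,9],
  [9,9],
  [7],
  [11],
  [14,13,8,14,13,14],
  [7],
  [5,15]]

def leviTab : List (List ℕ) := [
  [],
  [],
  [],
  [],
  [],
  [],
  [],
  [],
  [],
  [],
  [],
  [],
  [],
  [],
  [],
  [],
  [],
  [],
  [],
  [],
  [],
  [],
  [],
  [],
  [],
  [],
  [],
  [],
  [],
  [],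
  [],
  [],
  [],
  [],
  [],
  [],
  [],
  [],
  [],
  [],
  [],
  [],
  [],
  [],
  [],
  [],
  [],
  [],
  [],
  [],
  [],
  [],
  [],
  [],
  [],
  [],
  [],
  [],
  [],
  [],
  [],
  [],
  [],
  [],
  [],
  [],
  [],
  [],
  [],
  [],
  [],
  [],
  [],
  [],
  [],
  [],
  [],
  [],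
  [],
  [],
  [],
  [],
  [],
  [],
  [],
  [],
  [],
  [],
  [],
  [],
  [],
  [],
  [],
  [],
  [],
  [],
  [],
  [],
  [],
  [],
  [],
  [],
  [],
  [],
  [],
  [],
  [],
  [],
  [],
  [],
  [],
  [],
  [],
  [],
  [],
  [],
  [],
  [],
  [],
  [],
  [],
  [],
  [],
  [],
  [],
  [],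
  [],
  [],
  [],
  [],
  [],
  [],
  [],
  [],
  [],
  [12],
  [3,12],
  [0,12],
  [12,0],
  [3,12,0],
  [0,12,0],
  [12,3],
  [3,12,3],
  [0,12,3],
  [11,13],
  [3,11,13],
  [0,11,13],
  [12,0,4],
  [0,11,13,0],
  [11,13,0],
  [12,3,4],
  [11,13,3],
  [0,12,3,4],
  [4,11],
  [3,4,11],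
  [0,4,11],
  [12,0,1],
  [4,3,11],
  [0,12,0,1],
  [12,3,1],
  [0,4,0,11],
  [4,0,11],
  [],
  [],
  [],
  [],
  [],
  [],
  [],
  [],
  [],
  [],
  [],
  [],
  [],
  [],
  [],
  [],
  [],
  [],
  [],
  [],
  [],
  [],
  [],
  [],
  [],
  [],
  [],
  [13],
  [3,13],
  [0,13],
  [13,3],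
  [3,13,3],
  [0,13,3],
  [13,0],
  [3,13,0],
  [0,13,0],
  [10,12],
  [3,10,12],
  [0,10,12],
  [13,3,1],
  [10,12,3],
  [0,13,3,1],
  [13,0,1],
  [0,10,12,0],
  [10,12,0],
  [1,10],
  [3,1,10],
  [0,1,10],
  [13,3,4],
  [0,1,0,10],
  [1,0,10],
  [13,0,4],
  [1,3,10],
  [0,13,0,4],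
  [],
  [],
  [],
  [],
  [],
  [],
  [],
  [],
  [],
  [],
  [],
  [],
  [],
  [],
  [],
  [],
  [],
  [],
  [],
  [],
  [],
  [],
  [],
  [],
  [],
  [],
  [],
  [],
  [],
  [],
  [],
  [],
  [],
  [],
  [],
  [],
  [],
  [3],
  [0],
  [8,4,9],
  [4,3,1],
  [1,0,4],
  [8,1,9],
  [1,3,4],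
  [4,0,1],
  [],
  [],
  [],
  [],
  [],
  [],
  [],
  [],
  [],
  [],
  [],
  [],
  [],
  [],
  [],
  [],
  [],
  [],
  [4],
  [3,4],
  [0,4],
  [0,4,3],
  [4,3],
  [1,0,1],
  [3,4,0],
  [0,4,0],
  [4,0],
  [],
  [],
  [],
  [],
  [],
  [],
  [],
  [],
  [],
  [],
  [],
  [],
  [],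
  [],
  [],
  [],
  [],
  [],
  [1],
  [3,1],
  [0,1],
  [3,1,0],
  [0,1,0],
  [1,0],
  [0,1,3],
  [1,3],
  [3,1,3],
  [],
  [],
  [],
  [],
  [],
  [],
  [],
  [],
  [],
  [],
  [],
  [],
  [],
  [],
  [],
  [],
  [],
  [],
  [11,11],
  [3,11,11],
  [0,11,11],
  [4,12,0,4],
  [4,3,11,13],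
  [1,0,11,1],
  [4,12,3,4],
  [1,3,11,1],
  [4,0,11,13],
  [],
  [],
  [],
  [],
  [],
  [],
  [],
  [],
  [],
  [],
  [],
  [],
  [],
  [],
  [],
  [],
  [],
  [],
  [],
  [],
  [],
  [],
  [],
  [],
  [],
  [],
  [],
  [1,11],
  [3,1,11],
  [0,1,11],
  [3,1,0,11],
  [0,1,0,11],
  [1,0,11],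
  [0,1,3,11],
  [1,3,11],
  [3,1,3,11],
  [4,12],
  [3,4,12],
  [0,4,12],
  [4,12,0],
  [4,3,12],
  [0,4,12,0],
  [4,12,3],
  [0,4,0,12],
  [4,0,12],
  [],
  [],
  [],
  [],
  [],
  [],
  [],
  [],
  [],
  [],
  [],
  [],
  [],
  [],
  [],
  [],
  [],
  [],
  [],
  [],
  [],
  [],
  [],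
  [],
  [],
  [],
  [],
  [10,10],
  [3,10,10],
  [0,10,10],
  [1,13,3,1],
  [4,3,10,4],
  [1,0,10,12],
  [1,13,0,1],
  [1,3,10,12],
  [4,0,10,4],
  [],
  [],
  [],
  [],
  [],
  [],
  [],
  [],
  [],
  [1,13],
  [3,1,13],
  [0,1,13],
  [1,13,3],
  [0,1,0,13],
  [1,0,13],
  [1,13,0],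
  [1,3,13],
  [0,1,13,0],
  [],
  [],
  [],
  [],
  [],
  [],
  [],
  [],
  [],
  [],
  [],
  [],
  [],
  [],
  [],
  [],
  [],
  [],
  [],
  [],
  [],
  [],
  [],
  [],
  [],
  [],
  [],
  [],
  [],
  [],
  [],
  [],
  [],
  [],
  [],
  [],
  [4,10],
  [3,4,10],
  [0,4,10],
  [0,4,3,10],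
  [4,3,10],
  [1,0,1,10],
  [1,13,0,4],
  [0,4,0,10],
  [4,0,10],
  [],
  [],
  [],
  [],
  [],
  [],
  [],
  [],
  [],
  [],
  [],
  [],
  [],
  [],
  [],
  [],
  [],
  [],
  [12,12],
  [3,12,12],
  [0,12,12],
  [12,0,12],
  [3,12,0,12],
  [0,12,0,12],
  [12,3,12],
  [3,12,3,12],
  [0,12,3,12],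
  [],
  [],
  [],
  [],
  [],
  [],
  [],
  [],
  [],
  [],
  [],
  [],
  [],
  [],
  [],
  [],
  [],
  [],
  [1,12,12],
  [3,1,12,12],
  [0,1,12,12],
  [1,12,0,12],
  [0,1,0,12,12],
  [1,0,12,12],
  [1,12,3,12],
  [1,3,12,12],
  [0,1,12,3,12],
  [],
  [],
  [],
  [],
  [],
  [],
  [],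
  [],
  [],
  [],
  [],
  [],
  [],
  [],
  [],
  [],
  [],
  [],
  [4,12,12],
  [3,4,12,12],
  [0,4,12,12],
  [4,12,0,12],
  [4,3,12,12],
  [0,4,12,0,12],
  [4,12,3,12],
  [0,4,0,12,12],
  [4,0,12,12],
  [],
  [],
  [],
  [],
  [],
  [],
  [],
  [],
  [],
  [],
  [],
  [],
  [],
  [],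
  [],
  [],
  [],
  [],
  [11],
  [3,11],
  [0,11],
  [1,12,0,1],
  [4,3,1,11],
  [1,0,4,11],
  [1,12,3,1],
  [1,3,4,11],
  [4,0,1,11],
  [],
  [],
  [],
  [],
  [],
  [],
  [],
  [],
  [],
  [11,1],
  [3,11,1],
  [0,11,1],
  [0,11,1,3],
  [11,1,3],
  [1,0,11,13],
  [1,12,3,4],
  [0,11,1,0],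
  [11,1,0],
  [],
  [],
  [],
  [],
  [],
  [],
  [],
  [],
  [],
  [1,12],
  [3,1,12],
  [0,1,12],
  [1,12,0],
  [0,1,0,12],
  [1,0,12],
  [1,12,3],
  [1,3,12],
  [0,1,12,3],
  [],
  [],
  [],
  [],
  [],
  [],
  [],
  [],
  [],
  [],
  [],
  [],
  [],
  [],
  [],
  [],
  [],
  [],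
  [],
  [],
  [],
  [],
  [],
  [],
  [],
  [],
  [],
  [],
  [],
  [],
  [],
  [],
  [],
  [],
  [],
  [],
  [10],
  [3,10],
  [0,10],
  [4,13,3,4],
  [4,3,1,10],
  [1,0,4,10],
  [4,13,0,4],
  [1,3,4,10],
  [4,0,1,10],
  [4,13],
  [3,4,13],
  [0,4,13],
  [4,13,3],
  [4,3,13],
  [0,4,13,3],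
  [4,13,0],
  [0,4,0,13],
  [4,0,13],
  [],
  [],
  [],
  [],
  [],
  [],
  [],
  [],
  [],
  [],
  [],
  [],
  [],
  [],
  [],
  [],
  [],
  [],
  [],
  [],
  [],
  [],
  [],
  [],
  [],
  [],
  [],
  [10,4],
  [3,10,4],
  [0,10,4],
  [3,10,4,0],
  [0,10,4,0],
  [10,4,0],
  [0,10,4,3],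
  [10,4,3],
  [3,10,4,3],
  [],
  [],
  [],
  [],
  [],
  [],
  [],
  [],
  []]

end Cfsg.Agent.TwoGroups.OmegaSevenThree
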