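import Mathlib

/-!
# Seven by seven matrices over the field of three elements, for evaluation by the kernel

Entries are natural numbers reduced modulo three; the basis is `e₁ e₂ e₃ x₀ f₃ f₂ f₁`.
-/

set_option autoImplicit false

namespace Cfsg.Agent.TwoGroups.OmegaSevenThree

/-- A row. -/
structure R7 where
  a : ℕ
  b : ℕ
  c : ℕ
  d : ℕ
  e : ℕ
  f : ℕ
  g : ℕ
deriving DecidableEq

/-- A matrix, by rows. -/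
structure M7 where
  r0 : R7
  r1 : R7
  r2 : R7
  r3 : R7
  r4 : R7
  r5 : R7
  r6 : R7
deriving DecidableEq

def R7.get (r : R7) : Fin 7 → ℕ := ![r.a, r.b, r.c, r.d, r.e, r.f, r.g]

def M7.row (A : M7) : Fin 7 → R7 := ![A.r0, A.r1, A.r2, A.r3, A.r4, A.r5, A.r6]

def M7.get (A : M7) (i j : Fin 7) : ℕ := (A.row i).get j

def rowMul (r : R7) (B : M7) : R7 :=
  ⟨(r.a * B.r0.a + r.b * B.r1.a + r.c * B.r2.a + r.d * B.r3.a + r.e * B.r4.a + r.f * B.r5.a + r.g * B.r6.a) % 3,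
   (r.a * B.r0.b + r.b * B.r1.b + r.c * B.r2.b + r.d * B.r3.b + r.e * B.r4.b + r.f * B.r5.b + r.g * B.r6.b) % 3,
   (r.a * B.r0.c + r.b * B.r1.c + r.c * B.r2.c + r.d * B.r3.c + r.e * B.r4.c + r.f * B.r5.c + r.g * B.r6.c) % 3,
   (r.a * B.r0.d + r.b * B.r1.d + r.c * B.r2.d + r.d * B.r3.d + r.e * B.r4.d + r.f * B.r5.d + r.g * B.r6.d) % 3,
   (r.a * B.r0.e + r.b * B.r1.e + r.c * B.r2.e + r.d * B.r3.e + r.e * B.r4.e + r.f * B.r5.e + r.g * B.r6.e) % 3,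
   (r.a * B.r0.f + r.b * B.r1.f + r.c * B.r2.f + r.d * B.r3.f + r.e * B.r4.f + r.f * B.r5.f + r.g * B.r6.f) % 3,
   (r.a * B.r0.g + r.b * B.r1.g + r.c * B.r2.g + r.d * B.r3.g + r.e * B.r4.g + r.f * B.r5.g + r.g * B.r6.g) % 3⟩

def M7.mul (A B : M7) : M7 :=
  ⟨rowMul A.r0 B, rowMul A.r1 B, rowMul A.r2 B, rowMul A.r3 B, rowMul A.r4 B, rowMul A.r5 B, rowMul A.r6 B⟩

def M7.transpose (A : M7) : M7 :=
  ⟨⟨A.r0.a, A.r1.a, A.r2.a, A.r3.a, A.r4.a, A.r5.a, A.r6.a⟩,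
   ⟨A.r0.b, A.r1.b, A.r2.b, A.r3.b, A.r4.b, A.r5.b, A.r6.b⟩,
   ⟨A.r0.c, A.r1.c, A.r2.c, A.r3.c, A.r4.c, A.r5.c, A.r6.c⟩,
   ⟨A.r0.d, A.r1.d, A.r2.d, A.r3.d, A.r4.d, A.r5.d, A.r6.d⟩,
   ⟨A.r0.e, A.r1.e, A.r2.e, A.r3.e, A.r4.e, A.r5.e, A.r6.e⟩,
   ⟨A.r0.f, A.r1.f, A.r2.f, A.r3.f, A.r4.f, A.r5.f, A.r6.f⟩,
   ⟨A.r0.g, A.r1.g, A.r2.g, A.r3.g, A.r4.g, A.r5.g, A.r6.g⟩⟩

def eye : M7 :=
  ⟨⟨1,0,0,0,0,0,0⟩,⟨0,1,0,0,0,0,0⟩,⟨0,0,1,0,0,0,0⟩,⟨0,0,0,1,0,0,0⟩,⟨0,0,0,0,1,0,0⟩,⟨0,0,0,0,0,1,0⟩,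
   ⟨0,0,0,0,0,0,1⟩⟩

/-- The Gram matrix of the polar form of `x₀² + ∑ xᵢ yᵢ`. -/
def gram : M7 :=
  ⟨⟨0,0,0,0,0,0,1⟩,⟨0,0,0,0,0,1,0⟩,⟨0,0,0,0,1,0,0⟩,⟨0,0,0,2,0,0,0⟩,⟨0,0,1,0,0,0,0⟩,⟨0,1,0,0,0,0,0⟩,
   ⟨1,0,0,0,0,0,0⟩⟩

/-- The matrix over `ZMod 3`. -/
def M7.toM (A : M7) : Matrix (Fin 7) (Fin 7) (ZMod 3) := Matrix.of fun i j => (A.get i j : ZMod 3)

theorem toM_apply (A : M7) (i j : Fin 7) : A.toM i j = (A.get i j : ZMod 3) := rfl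

theorem row_mul (A B : M7) (i : Fin 7) : (A.mul B).row i = rowMul (A.row i) B := by
  fin_cases i <;> rfl

theorem cast_rowMul (r : R7) (B : M7) (j : Fin 7) :
    (((rowMul r B).get j : ℕ) : ZMod 3) = ∑ k, (r.get k : ZMod 3) * (B.get k j : ZMod 3) := by
  rw [Fin.sum_univ_seven]
  fin_cases j <;> simp [R7.get, M7.get, M7.row, rowMul, ZMod.natCast_mod]

theorem toM_mul (A B : M7) : (A.mul B).toM = A.toM * B.toM := by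
  ext i j
  rw [Matrix.mul_apply, toM_apply, M7.get, row_mul, cast_rowMul]
  rfl

theorem toM_transpose (A : M7) : A.transpose.toM = A.toM.transpose := by
  ext i j
  fin_cases i <;> fin_cases j <;> rfl

theorem toM_eye : eye.toM = 1 := by
  decide +kernel

/-- Product of a word read in a table. -/
def evalWord (T : List M7) (w : List ℕ) : M7 := (w.map fun k => T.getD k eye).foldr M7.mul eye

end Cfsg.Agent.TwoGroups.OmegaSevenThree
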