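import Cfsg.Agent.TwoGroups.OmegaSevenThree.Elems

/-!
# The class of Jordan type `3 + 2 + 2` splits in Ω₇(3)

An element centralising the first representative stabilises its fixed space, a maximal totally singular
subspace; reducing it there by a word in root elements leaves an element of order dividing three.
-/

set_option autoImplicit false
set_option maxRecDepth 20000
set_option maxHeartbeats 1000000

namespace Cfsg.Agent.TwoGroups.OmegaSevenThree

open Matrix Cfsg.Agent

theorem negPlane_ok : IsIsom negPlane ∧ negPlane.mul negPlane = eye := by decide +kernel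

theorem negThree_ok : IsIsom negThree ∧ negThree.mul negThree = eye := by decide +kernel

/-- Minus one on the plane `e₃, f₃`. -/
def rPlane : O7 := ofTwo negPlane negPlane_ok.1 negPlane_ok.2

/-- Minus one on the space `e₁, x₀, f₁`. -/
def rThree : O7 := ofTwo negThree negThree_ok.1 negThree_ok.2

theorem mat_rPlane : mat rPlane = negPlane.toM := mat_ofTwo _ _ _

theorem mat_rThree : mat rThree = negThree.toM := mat_ofTwo _ _ _

theorem rPlane_mul_self : rPlane * rPlane = 1 :=
  eq_of_mat (mat_mul_toM mat_rPlane mat_rPlane) (by rw [map_one, toM_eye]) negPlane_ok.2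

theorem rThree_mul_self : rThree * rThree = 1 :=
  eq_of_mat (mat_mul_toM mat_rThree mat_rThree) (by rw [map_one, toM_eye]) negThree_ok.2

/-- An isometry fixing `e₁, e₂, e₃` and `x₀` modulo their span has order dividing three. -/
theorem unip_cube {Y : Matrix (Fin 7) (Fin 7) K} (hY : Y.transpose * gram.toM * Y = gram.toM)
    (hc : ∀ i : Fin 7, Y i 0 = (1 : Matrix (Fin 7) (Fin 7) K) i 0 ∧ Y i 1 = (1 : Matrix (Fin 7) (Fin 7) K) i 1 ∧
      Y i 2 = (1 : Matrix (Fin 7) (Fin 7) K) i 2) (h33 : Y 3 3 = 1) : Y * (Y * Y) = 1 := by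
  have hr : ∀ j : Fin 7, Y 6 j = (1 : Matrix (Fin 7) (Fin 7) K) 6 j ∧
      Y 5 j = (1 : Matrix (Fin 7) (Fin 7) K) 5 j ∧ Y 4 j = (1 : Matrix (Fin 7) (Fin 7) K) 4 j := by
    intro j
    have a := congrFun (congrFun hY 0) j
    have b := congrFun (congrFun hY 1) j
    have c := congrFun (congrFun hY 2) j
    simp [Matrix.mul_apply, Fin.sum_univ_seven, toM_apply, gram, M7.get, M7.row, R7.get, hc] at a b c
    fin_cases j <;> simp_all [Matrix.one_apply]
  have hK : (Y - 1) * ((Y - 1) * (Y - 1)) = 0 := by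
    ext i j
    fin_cases i <;> fin_cases j <;> simp [Matrix.mul_apply, Fin.sum_univ_seven, hc, hr, h33]
  have h3 : (3 : Matrix (Fin 7) (Fin 7) K) = 0 := by decide +kernel
  calc Y * (Y * Y) = (Y - 1) * ((Y - 1) * (Y - 1)) + 3 * ((Y - 1) * (Y - 1)) + 3 * (Y - 1) + 1 := by
        noncomm_ring
    _ = 1 := by rw [hK, h3, zero_mul, zero_mul, add_zero, add_zero, zero_add]

/-- The three columns determined by six entries. -/
def colsMat (a b p q s t : ℕ) : M7 :=
  ⟨⟨1,a,b,0,0,0,0⟩,⟨0,p,q,0,0,0,0⟩,⟨0,s,t,0,0,0,0⟩,⟨0,0,0,0,0,0,0⟩,⟨0,0,0,0,0,0,0⟩,⟨0,0,0,0,0,0,0⟩,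
   ⟨0,0,0,0,0,0,0⟩⟩

theorem levi_table (a b p q s t : K) (h : p * t - q * s = 1) :
    ∃ w, (∀ k, (evalWord letTab w).toM 3 k = (1 : Matrix (Fin 7) (Fin 7) K) 3 k) ∧
      (∀ i j : Fin 7, (j : ℕ) < 3 →
        ((evalWord letTab w).mul (colsMat a.val b.val p.val q.val s.val t.val)).toM i j =
          (1 : Matrix (Fin 7) (Fin 7) K) i j) := by
  have ht : ((List.range 729).all fun k =>
      decide ((((k / 9 % 3) * (k / 243 % 3) + 2 * (k / 27 % 3) * (k / 81 % 3)) % 3) ≠ 1) ||
      (decide ((evalWord letTab (leviTab.getD k [])).r3 = eye.r3) &&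
        decide (((evalWord letTab (leviTab.getD k [])).mul (colsMat (k % 3) (k / 3 % 3) (k / 9 % 3) (k / 27 % 3)
          (k / 81 % 3) (k / 243 % 3))) = colsMat 0 0 1 0 0 1))) = true := by decide +kernel
  have hlt : ∀ x : K, x.val < 3 := fun x => ZMod.val_lt x
  set k := a.val + 3 * b.val + 9 * p.val + 27 * q.val + 81 * s.val + 243 * t.val with hk
  have ha := hlt a; have hb := hlt b; have hp := hlt p; have hq := hlt q; have hs := hlt s; have htt := hlt t
  have e : k % 3 = a.val ∧ k / 3 % 3 = b.val ∧ k / 9 % 3 = p.val ∧ k / 27 % 3 = q.val ∧ k / 81 % 3 = s.val ∧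
      k / 243 % 3 = t.val := by omega
  obtain ⟨e0, e1, e2, e3, e4, e5⟩ := e
  have := List.all_eq_true.1 ht k (List.mem_range.2 (by omega))
  rw [e0, e1, e2, e3, e4, e5] at this
  simp only [Bool.or_eq_true, Bool.and_eq_true, decide_eq_true_eq] at this
  rcases this with h' | ⟨h3, hcol⟩
  · refine absurd ?_ h'
    have : ∀ p t q s : K, p * t - q * s = 1 → (p.val * t.val + 2 * q.val * s.val) % 3 = 1 := by decide
    exact this p t q s h
  · refine ⟨leviTab.getD k [], fun j => ?_, fun i j hj => ?_⟩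
    · rw [toM_apply, M7.get, show (evalWord letTab (leviTab.getD k [])).row 3 =
        (evalWord letTab (leviTab.getD k [])).r3 from rfl, h3]
      fin_cases j <;> rfl
    · rw [hcol]
      fin_cases i <;> fin_cases j <;> first | rfl | (exact absurd hj (by decide))

/-- The first representative minus one. -/
def nilPart : Matrix (Fin 7) (Fin 7) K :=
  !![0,0,0,-1,0,0,-1; 0,0,0,0,1,0,0; 0,0,0,0,0,-1,0; 0,0,0,0,0,0,-1; 0,0,0,0,0,0,0; 0,0,0,0,0,0,0;
    0,0,0,0,0,0,0]

/-- Linear consequences of commuting with the first representative. -/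
theorem commute_facts {X : Matrix (Fin 7) (Fin 7) K}
    (h : X * (repTab.getD 0 eye).toM = (repTab.getD 0 eye).toM * X) :
    X 6 0 = 0 ∧ X 6 1 = 0 ∧ X 6 2 = 0 ∧ X 4 0 = 0 ∧ X 4 1 = 0 ∧ X 4 2 = 0 ∧ X 5 0 = 0 ∧ X 5 1 = 0 ∧
      X 5 2 = 0 ∧ X 3 0 = 0 ∧ X 3 1 = 0 ∧ X 3 2 = 0 ∧ X 1 0 = 0 ∧ X 2 0 = 0 ∧ X 6 5 = 0 ∧ X 3 3 = X 0 0 ∧
      X 6 6 = X 0 0 ∧ X 5 5 = X 2 2 ∧ X 4 5 = -(X 1 2) := by
  have hN : (repTab.getD 0 eye).toM = 1 + nilPart := by decide +kernel
  rw [hN, Matrix.mul_add, Matrix.add_mul, Matrix.mul_one, Matrix.one_mul] at h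
  have E := fun i j => congrFun (congrFun (add_left_cancel h).symm i) j
  have e60 : X 6 0 = 0 := by simpa [Matrix.mul_apply, Fin.sum_univ_seven, nilPart] using E 3 0
  have e61 : X 6 1 = 0 := by simpa [Matrix.mul_apply, Fin.sum_univ_seven, nilPart] using E 3 1
  have e62 : X 6 2 = 0 := by simpa [Matrix.mul_apply, Fin.sum_univ_seven, nilPart] using E 3 2
  have e40 : X 4 0 = 0 := by simpa [Matrix.mul_apply, Fin.sum_univ_seven, nilPart] using E 1 0
  have e41 : X 4 1 = 0 := by simpa [Matrix.mul_apply, Fin.sum_univ_seven, nilPart] using E 1 1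
  have e42 : X 4 2 = 0 := by simpa [Matrix.mul_apply, Fin.sum_univ_seven, nilPart] using E 1 2
  have e50 : X 5 0 = 0 := by simpa [Matrix.mul_apply, Fin.sum_univ_seven, nilPart] using E 2 0
  have e51 : X 5 1 = 0 := by simpa [Matrix.mul_apply, Fin.sum_univ_seven, nilPart] using E 2 1
  have e52 : X 5 2 = 0 := by simpa [Matrix.mul_apply, Fin.sum_univ_seven, nilPart] using E 2 2
  have e30 : X 3 0 = 0 := by simpa [Matrix.mul_apply, Fin.sum_univ_seven, nilPart, e60] using E 0 0
  have e31 : X 3 1 = 0 := by simpa [Matrix.mul_apply, Fin.sum_univ_seven, nilPart, e61] using E 0 1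
  have e32 : X 3 2 = 0 := by simpa [Matrix.mul_apply, Fin.sum_univ_seven, nilPart, e62] using E 0 2
  have e43 : X 4 3 = 0 := by simpa [Matrix.mul_apply, Fin.sum_univ_seven, nilPart, e40] using E 4 6
  have e53 : X 5 3 = 0 := by simpa [Matrix.mul_apply, Fin.sum_univ_seven, nilPart, e50] using E 5 6
  have e10 : X 1 0 = 0 := by simpa [Matrix.mul_apply, Fin.sum_univ_seven, nilPart, e43] using E 1 3
  have e20 : X 2 0 = 0 := by simpa [Matrix.mul_apply, Fin.sum_univ_seven, nilPart, e53] using E 2 3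
  have e65 : X 6 5 = 0 := by simpa [Matrix.mul_apply, Fin.sum_univ_seven, nilPart, e32] using E 3 5
  have e63 : X 6 3 = 0 := by simpa [Matrix.mul_apply, Fin.sum_univ_seven, nilPart, e30] using E 3 3
  have e33 : X 3 3 = X 0 0 := by simpa [Matrix.mul_apply, Fin.sum_univ_seven, nilPart, e63] using E 0 3
  have e66 : X 6 6 = X 0 0 := by simpa [Matrix.mul_apply, Fin.sum_univ_seven, nilPart, e30, e33] using E 3 6
  have e55 : X 5 5 = X 2 2 := by simpa [Matrix.mul_apply, Fin.sum_univ_seven, nilPart] using E 2 5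
  have e45 : X 4 5 = -(X 1 2) := by simpa [Matrix.mul_apply, Fin.sum_univ_seven, nilPart] using E 1 5
  exact ⟨e60, e61, e62, e40, e41, e42, e50, e51, e52, e30, e31, e32, e10, e20, e65, e33, e66, e55, e45⟩

theorem mem_om_of_centralizes {c : O7} (hc : c * rep 0 = rep 0 * c) (h00 : mat c 0 0 = 1) : c ∈ Om := by
  set X := mat c with hX
  have hA : X * (repTab.getD 0 eye).toM = (repTab.getD 0 eye).toM * X := by
    rw [← mat_rep, hX, ← map_mul, ← map_mul, hc]
  have hG : X.transpose * gram.toM * X = gram.toM := gram_of_mem c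
  obtain ⟨z60, z61, z62, z40, z41, z42, z50, z51, z52, z30, z31, z32, z10, z20, z65, e33, e66, e55, e45⟩ :=
    commute_facts hA
  have hdet : X 1 1 * X 2 2 - X 1 2 * X 2 1 = 1 := by
    have h15 := congrFun (congrFun hG 1) 5
    simp [Matrix.mul_apply, Fin.sum_univ_seven, toM_apply, gram, M7.get, M7.row, R7.get, z61, z41, z51, z31,
      z65, e55, e45] at h15
    linear_combination h15
  obtain ⟨w, hw3, hwc⟩ := levi_table (X 0 1) (X 0 2) (X 1 1) (X 1 2) (X 2 1) (X 2 2) hdet
  have hY := gram_of_mem (lword w * c)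
  rw [map_mul, mat_lword, ← hX] at hY
  obtain ⟨L, hL⟩ : ∃ L, L = (evalWord letTab w).toM := ⟨_, rfl⟩
  rw [← hL] at hY hw3
  have hval : ∀ x : K, ((x.val : ℕ) : K) = x := fun x => ZMod.natCast_zmod_val x
  have hcube : L * X * (L * X * (L * X)) = 1 := by
    refine unip_cube hY (fun i => ⟨?_, ?_, ?_⟩) ?_
    · have := hwc i 0 (by decide)
      rw [toM_mul] at this
      simpa [Matrix.mul_apply, Fin.sum_univ_seven, toM_apply, colsMat, M7.get, M7.row, R7.get, hval, h00, z10,
        z20, z30, z40, z50, z60, ← hL] using this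
    · have := hwc i 1 (by decide)
      rw [toM_mul] at this
      simpa [Matrix.mul_apply, Fin.sum_univ_seven, toM_apply, colsMat, M7.get, M7.row, R7.get, hval,
        z31, z41, z51, z61, ← hL] using this
    · have := hwc i 2 (by decide)
      rw [toM_mul] at this
      simpa [Matrix.mul_apply, Fin.sum_univ_seven, toM_apply, colsMat, M7.get, M7.row, R7.get, hval,
        z32, z42, z52, z62, ← hL] using this
    · simp [Matrix.mul_apply, Fin.sum_univ_seven, hw3, e33, h00]
  have h3 : (lword w * c) ^ 3 = 1 := by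
    refine mat_injective ?_
    simp only [pow_three, map_mul, map_one, mat_lword, ← hL, ← hX]
    exact hcube
  exact (Subgroup.mul_mem_cancel_left _ (lword_mem w)).1 (mem_om_of_cube h3)

theorem centralizer_cases {c : O7} (hc : c * rep 0 = rep 0 * c) : c ∈ Om ∨ rThree * c ∈ Om := by
  have hA : mat c * (repTab.getD 0 eye).toM = (repTab.getD 0 eye).toM * mat c := by
    rw [← mat_rep, ← map_mul, ← map_mul, hc]
  have hR : rThree * rep 0 = rep 0 * rThree :=
    eq_of_mat (mat_mul_toM mat_rThree (mat_rep 0)) (mat_mul_toM (mat_rep 0) mat_rThree) (by decide +kernel)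
  have hsq : mat c 0 0 * mat c 0 0 = 1 := by
    obtain ⟨z60, -, -, z40, -, -, z50, -, -, z30, -, -, z10, z20, -, -, e66, -, -⟩ := commute_facts hA
    have h06 := congrFun (congrFun (gram_of_mem c) 0) 6
    simpa [Matrix.mul_apply, Fin.sum_univ_seven, toM_apply, gram, M7.get, M7.row, R7.get, z10, z20, z30, z40,
      z50, z60, e66] using h06
  rcases (show ∀ x : K, x * x = 1 → x = 1 ∨ x = -1 by decide) _ hsq with h | h
  · exact Or.inl (mem_om_of_centralizes hc h)
  · refine Or.inr (mem_om_of_centralizes ?_ ?_)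
    · rw [mul_assoc, hc, ← mul_assoc, hR, mul_assoc]
    · rw [map_mul, mat_rThree]
      simp [Matrix.mul_apply, Fin.sum_univ_seven, toM_apply, negThree, M7.get, M7.row, R7.get, h]
      decide

theorem det_toM_diag : (negThree.mul negPlane).toM.det = -1 ∧ negPlane.toM.det = 1 := by
  have h1 : (negThree.mul negPlane).toM = Matrix.diagonal (![2, 1, 2, 2, 2, 1, 2] : Fin 7 → K) := by decide +kernel
  have h2 : negPlane.toM = Matrix.diagonal (![1, 1, 2, 1, 2, 1, 1] : Fin 7 → K) := by decide +kernel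
  rw [h1, h2, Matrix.det_diagonal, Matrix.det_diagonal]
  constructor <;> decide +kernel

theorem det_mat_of_mem {g : O7} (hg : g ∈ Om) : (mat g).det = 1 := by
  have h := (Forms.mem_commutator_iff (by decide) qd_nondegenerate (by rw [finrank_I7]; norm_num)).1
    ((Forms.mem_omega_iff Qd g).1 hg)
  rw [mat_apply, Matrix.det_submatrix_equiv_self, ← Forms.det_isometryEquiv, h.1, Units.val_one]

/-- The reflection product witnessing that `rPlane` has non-trivial spinor norm. -/
theorem rPlane_notMem : rPlane ∉ Om := by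
  intro hmem
  have h := ((Forms.mem_commutator_iff (by decide) qd_nondegenerate (by rw [finrank_I7]; norm_num)).1
    ((Forms.mem_omega_iff Qd rPlane).1 hmem)).2
  set u : I7 → K := Pi.single (.inr (.inl 2)) 1 + Pi.single (.inr (.inr 2)) 1
  set v : I7 → K := Pi.single (.inr (.inl 2)) 1 - Pi.single (.inr (.inr 2)) 1
  have hu : Qd u = 1 := by simp [u, Cfsg.quadFormOdd, Fin.sum_univ_three]
  have hv : Qd v = -1 := by simp [v, Cfsg.quadFormOdd, Fin.sum_univ_three]
  let U : M7 := ⟨⟨1,0,0,0,0,0,0⟩,⟨0,1,0,0,0,0,0⟩,⟨0,0,0,0,2,0,0⟩,⟨0,0,0,1,0,0,0⟩,⟨0,0,2,0,0,0,0⟩,⟨0,0,0,0,0,1,0⟩,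
    ⟨0,0,0,0,0,0,1⟩⟩
  let V : M7 := ⟨⟨1,0,0,0,0,0,0⟩,⟨0,1,0,0,0,0,0⟩,⟨0,0,0,0,1,0,0⟩,⟨0,0,0,1,0,0,0⟩,⟨0,0,1,0,0,0,0⟩,⟨0,0,0,0,0,1,0⟩,
    ⟨0,0,0,0,0,0,1⟩⟩
  let gu : O7 := ofTwo U (by decide +kernel) (by decide +kernel)
  let gv : O7 := ofTwo V (by decide +kernel) (by decide +kernel)
  have heu : Forms.isometryEquiv Qd gu = Forms.reflection Qd u := (Forms.eq_reflection_iff Qd gu u).1
    (show U.toM.submatrix ixE ixE = _ by decide +kernel)
  have hev : Forms.isometryEquiv Qd gv = Forms.reflection Qd v := (Forms.eq_reflection_iff Qd gv v).1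
    (show V.toM.submatrix ixE ixE = _ by decide +kernel)
  have e : Forms.isometryEquiv Qd rPlane = Forms.reflection Qd u * Forms.reflection Qd v := by
    rw [← heu, ← hev, ← map_mul]
    exact congrArg _ (eq_of_mat mat_rPlane (mat_mul_toM (mat_ofTwo _ _ _) (mat_ofTwo _ _ _))
      (show negPlane = U.mul V by decide +kernel))
  have hs := Linear.SpinorList.spinor_prod (Q := Qd) (by decide) qd_nondegenerate [u, v] (by
    intro w hw
    simp at hw
    rcases hw with rfl | rfl
    · rw [hu]; decide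
    · rw [hv]; decide)
  rw [List.map_cons, List.map_cons, List.map_nil, List.prod_cons, List.prod_cons, List.prod_nil, mul_one,
    ← e] at hs
  have hsq := hs.1 h
  simp [hu, hv] at hsq
  obtain ⟨r, hr⟩ := hsq
  revert hr
  revert r
  decide

/-- The first two representatives are not conjugate. -/
theorem not_conj_twin : ¬ ∃ h ∈ Om, h * rep 0 = rep 1 * h := by
  rintro ⟨h, hh, e⟩
  have er : rPlane * rep 1 = rep 0 * rPlane :=
    eq_of_mat (mat_mul_toM mat_rPlane (mat_rep 1)) (mat_mul_toM (mat_rep 0) mat_rPlane) (by decide +kernel)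
  have hc : (rPlane * h) * rep 0 = rep 0 * (rPlane * h) := by
    rw [mul_assoc, e, ← mul_assoc, er, mul_assoc]
  rcases centralizer_cases hc with hc' | hc'
  · exact rPlane_notMem ((Subgroup.mul_mem_cancel_right _ hh).1 hc')
  · rw [← mul_assoc] at hc'
    have hd := det_mat_of_mem ((Subgroup.mul_mem_cancel_right _ hh).1 hc')
    rw [map_mul, mat_rThree, mat_rPlane, ← toM_mul, det_toM_diag.1] at hd
    exact absurd hd (by decide)

end Cfsg.Agent.TwoGroups.OmegaSevenThree
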